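import Groth.Agent.PerfC.RelFlat
import Groth.Agent.Pic13.H952.FibrePt
import Groth.Agent.CurvesB.CurveRR
import Groth.Agent.S1526
import Groth.Agent.S1026
import Groth.Agent.S0018
import Groth.Agent.FormalB.PullCoh
import Groth.Agent.Fga.HodgeSec
import Groth.Agent.PerfA.CohSerre

/-!
Semicontinuity for extensions in flat families (S15859).
-/

set_option autoImplicit false
universe u
open CategoryTheory CategoryTheory.Limits AlgebraicGeometry

namespace Groth.Agent.Surf.K460.FlatExt

variable {X Y Y' P : Scheme.{u}} {p : P ⟶ X} {q : P ⟶ Y'} {f : X ⟶ Y} {g : Y' ⟶ Y}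

/-- Pullback of a short exact sequence with third term flat over the base. -/
theorem shortExact_pullback (H : IsPullback p q f g) (T : ShortComplex X.Modules)
    (hT : T.ShortExact) (h : FlatMod.IsFlatOver f T.X₃) :
    (T.map (Scheme.Modules.pullback p)).ShortExact := by
  have := hT.epi_g
  have : Mono ((T.map (Scheme.Modules.pullback p)).f) :=
    PerfC.RelFlat.mono_pullback_map H T hT h
  have : Epi ((T.map (Scheme.Modules.pullback p)).g) := by
    change Epi ((Scheme.Modules.pullback p).map T.g)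
    infer_instance
  exact { exact := hT.exact.map_of_epi_of_preservesCokernel _ inferInstance inferInstance }

theorem finite_HH (k : Type u) [Field k] (S : Scheme.{u}) [S.Over (Spec (CommRingCat.of k))]
    [IsProper (S ↘ Spec (CommRingCat.of k))] {F : S.Modules} (hF : Coh.IsCoh F) (i : ℕ) :
    Module.Finite k (Coh.HH S F i) := Fga.HodgeSec.finite_HH' k hF i

section
variable (k : Type u) [Field k]
  (S : Scheme.{u}) [S.Over (Spec (CommRingCat.of k))] [IsProper (S ↘ Spec (CommRingCat.of k))]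

open Groth.Agent.VarietyA.EulerLES in
/-- `h^0(A) ≤ h^0(B)` for a short exact sequence. -/
theorem finrank_zero_le (T : ShortComplex S.Modules) (hT : T.ShortExact)
    (h2 : Coh.IsCoh T.X₂) :
    Module.finrank k (Coh.HH S T.X₁ 0) ≤ Module.finrank k (Coh.HH S T.X₂ 0) := by
  have := finite_HH k S h2 0
  exact LinearMap.finrank_le_finrank_of_injective (f := mapA k T.f 0) (injectiveA₀ k T hT)

open Groth.Agent.VarietyA.EulerLES in
/-- `h^0(B) ≤ h^0(A) + h^0(C)`. -/
theorem finrank_zero_le_add (T : ShortComplex S.Modules) (hT : T.ShortExact)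
    (h1 : Coh.IsCoh T.X₁) (h2 : Coh.IsCoh T.X₂) (h3 : Coh.IsCoh T.X₃) :
    Module.finrank k (Coh.HH S T.X₂ 0) ≤
      Module.finrank k (Coh.HH S T.X₁ 0) + Module.finrank k (Coh.HH S T.X₃ 0) := by
  have := finite_HH k S h1 0
  have := finite_HH k S h2 0
  have := finite_HH k S h3 0
  have e := (mapA k T.g 0).finrank_range_add_finrank_ker
  rw [(exactA₂ k T hT 0).linearMap_ker_eq,
    LinearMap.finrank_range_of_inj (injectiveA₀ k _ hT)] at e
  have := Submodule.finrank_le (LinearMap.range (mapA k T.g 0))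
  omega

/-- The five-term count for a short exact sequence with `H^1` of the third term zero. -/
theorem finrank_five (T : ShortComplex S.Modules) (hT : T.ShortExact)
    (h1 : Coh.IsCoh T.X₁) (h2 : Coh.IsCoh T.X₂) (h3 : Coh.IsCoh T.X₃)
    (hv : Subsingleton (Coh.HH S T.X₃ 1)) :
    Module.finrank k (Coh.HH S T.X₁ 0) + Module.finrank k (Coh.HH S T.X₃ 0) +
      Module.finrank k (Coh.HH S T.X₂ 1) =
    Module.finrank k (Coh.HH S T.X₂ 0) + Module.finrank k (Coh.HH S T.X₁ 1) := by
  have := finite_HH k S h2 0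
  have := finite_HH k S h3 0
  have := finite_HH k S h1 1
  exact CurvesB.CurveRR.finrank_of_shortExact k T hT hv

variable {A B C : S.Modules} {f : A ⟶ B} {g : B ⟶ C} {w : f ≫ g = 0}

theorem le' (hT : (ShortComplex.mk f g w).ShortExact) (h2 : Coh.IsCoh B) :
    Module.finrank k (Coh.HH S A 0) ≤ Module.finrank k (Coh.HH S B 0) :=
  finrank_zero_le k S (ShortComplex.mk f g w) hT h2

theorem le_add' (hT : (ShortComplex.mk f g w).ShortExact)
    (h1 : Coh.IsCoh A) (h2 : Coh.IsCoh B) (h3 : Coh.IsCoh C) :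
    Module.finrank k (Coh.HH S B 0) ≤
      Module.finrank k (Coh.HH S A 0) + Module.finrank k (Coh.HH S C 0) :=
  finrank_zero_le_add k S (ShortComplex.mk f g w) hT h1 h2 h3

theorem five' (hT : (ShortComplex.mk f g w).ShortExact)
    (h1 : Coh.IsCoh A) (h2 : Coh.IsCoh B) (h3 : Coh.IsCoh C)
    (hv : Subsingleton (Coh.HH S C 1)) :
    Module.finrank k (Coh.HH S A 0) + Module.finrank k (Coh.HH S C 0) +
      Module.finrank k (Coh.HH S B 1) =
    Module.finrank k (Coh.HH S B 0) + Module.finrank k (Coh.HH S A 1) :=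
  finrank_five k S (ShortComplex.mk f g w) hT h1 h2 h3 hv

end

/-- Constancy of `χ` along two rational points of a connected base. -/
theorem eulerCharLE_const (k : Type u) [Field k]
    (S : Scheme.{u}) [S.Over (Spec (CommRingCat.of k))]
    (P Y : Scheme.{u}) (f : Y ⟶ P) [IsProper f] [LocallyOfFinitePresentation f]
    [PreconnectedSpace P]
    (M : Y.Modules) (hfp : CohB1.IsFP M) (hfl : FlatMod.IsFlatOver f M) (hq : Coh.IsQCoh M)
    (t t' : Spec (CommRingCat.of k) ⟶ P) (s s' : S ⟶ Y)
    (H : IsPullback s (S ↘ Spec (CommRingCat.of k)) f t)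
    (H' : IsPullback s' (S ↘ Spec (CommRingCat.of k)) f t') (d : ℕ)
    (hd : ∀ i, d < i → Subsingleton (Coh.HH S ((Scheme.Modules.pullback s).obj M) i))
    (hd' : ∀ i, d < i → Subsingleton (Coh.HH S ((Scheme.Modules.pullback s').obj M) i)) :
    FGA.eulerCharLE k S ((Scheme.Modules.pullback s).obj M) d =
      FGA.eulerCharLE k S ((Scheme.Modules.pullback s').obj M) d := by
  have hc := Groth.Agent.S1026.result f M hfp hfl
  rw [Pic13.H952.FibrePt.eulerCharLE_eq_eulerChar f t s H (t (IsLocalRing.closedPoint k)) ⟨_, rfl⟩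
      M hq d hd,
    Pic13.H952.FibrePt.eulerCharLE_eq_eulerChar f t' s' H' (t' (IsLocalRing.closedPoint k)) ⟨_, rfl⟩
      M hq d hd']
  exact hc.apply_eq_of_preconnectedSpace _ _

theorem num {A₀ A A'₀ A' B₀ B Q₀ Q a b : ℕ} (h0 : A'₀ = A₀) (h1 : a = b) (hup : B₀ ≤ B)
    (hlen : Q = Q₀) (e : A'₀ + Q₀ + b = B₀ + a) (a1 : A' ≤ A) (a2 : B ≤ A' + Q) : A₀ ≤ A := by
  omega

theorem main (k : Type u) [Field k]
    (S : Scheme.{u}) [S.Over (Spec (CommRingCat.of k))] [IsProper (S ↘ Spec (CommRingCat.of k))]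
    (P Y : Scheme.{u}) (f : Y ⟶ P) [IsProper f] [LocallyOfFinitePresentation f]
    [PreconnectedSpace P] [IsLocallyNoetherian P] [IsLocallyNoetherian Y]
    (A A' A'' : Y.Modules) (hA : Coh.IsCoh A) (hA' : Coh.IsCoh A') (hA'' : Coh.IsCoh A'')
    (α : A' ⟶ A) (β : A' ⟶ A'') [Mono α] [Mono β]
    (hQ : FlatMod.IsFlatOver f (cokernel α)) (hQ' : FlatMod.IsFlatOver f (cokernel β))
    (t₀ t : Spec (CommRingCat.of k) ⟶ P) (s₀ s : S ⟶ Y)
    (H₀ : IsPullback s₀ (S ↘ Spec (CommRingCat.of k)) f t₀)
    (H : IsPullback s (S ↘ Spec (CommRingCat.of k)) f t)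
    (hs₀ : topologicalKrullDim (CohB1.support ((Scheme.Modules.pullback s₀).obj (cokernel β))) ≤ 0)
    (hs : topologicalKrullDim (CohB1.support ((Scheme.Modules.pullback s).obj (cokernel β))) ≤ 0)
    (h0 : Module.finrank k (Coh.HH S ((Scheme.Modules.pullback s₀).obj A') 0) =
      Module.finrank k (Coh.HH S ((Scheme.Modules.pullback s₀).obj A) 0))
    (h1 : Module.finrank k (Coh.HH S ((Scheme.Modules.pullback s₀).obj A') 1) =
      Module.finrank k (Coh.HH S ((Scheme.Modules.pullback s₀).obj A'') 1))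
    (hup : Module.finrank k (Coh.HH S ((Scheme.Modules.pullback s₀).obj A'') 0) ≤
        Module.finrank k (Coh.HH S ((Scheme.Modules.pullback s).obj A'') 0)) :
    Module.finrank k (Coh.HH S ((Scheme.Modules.pullback s₀).obj A) 0) ≤
      Module.finrank k (Coh.HH S ((Scheme.Modules.pullback s).obj A) 0) := by
  have hcok : Coh.IsCoh (cokernel β) := PerfA.CohSerre.isCoh_cokernel β hA'.1 hA''
  have pc : ∀ {M : Y.Modules} (j : S ⟶ Y), Coh.IsCoh M → Coh.IsCoh ((Scheme.Modules.pullback j).obj M) :=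
    fun j hM => FormalB.PullCoh.isCoh_pullback j hM
  -- the two short exact sequences
  have Tα : (ShortComplex.mk α (cokernel.π α) (cokernel.condition α)).ShortExact :=
    { exact := ShortComplex.exact_cokernel α }
  have Tβ : (ShortComplex.mk β (cokernel.π β) (cokernel.condition β)).ShortExact :=
    { exact := ShortComplex.exact_cokernel β }
  have Sα := shortExact_pullback H _ Tα hQ
  have Sβ := shortExact_pullback H _ Tβ hQ'
  have Sβ₀ := shortExact_pullback H₀ _ Tβ hQ'
  have v : ∀ i, 0 < i → Subsingleton (Coh.HH S ((Scheme.Modules.pullback s).obj (cokernel β)) i) :=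
    fun i hi => Groth.Agent.S1526.result k S _ (pc s hcok) hs i hi
  have v₀ : ∀ i, 0 < i → Subsingleton (Coh.HH S ((Scheme.Modules.pullback s₀).obj (cokernel β)) i) :=
    fun i hi => Groth.Agent.S1526.result k S _ (pc s₀ hcok) hs₀ i hi
  -- constancy of the length
  have hfp : CohB1.IsFP (cokernel β) := (Groth.Agent.S0018.result _ _).mp hcok
  have hlen : Module.finrank k (Coh.HH S ((Scheme.Modules.pullback s).obj (cokernel β)) 0) =
      Module.finrank k (Coh.HH S ((Scheme.Modules.pullback s₀).obj (cokernel β)) 0) := by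
    have := eulerCharLE_const k S P Y f (cokernel β) hfp hQ' hcok.1 t t₀ s s₀ H H₀ 0 v v₀
    simp only [FGA.eulerCharLE, zero_add, Finset.range_one, Finset.sum_singleton, pow_zero,
      one_mul, Nat.cast_inj] at this
    exact this
  -- at `p₀`
  have e₀ : Module.finrank k (Coh.HH S ((Scheme.Modules.pullback s₀).obj A') 0) +
      Module.finrank k (Coh.HH S ((Scheme.Modules.pullback s₀).obj (cokernel β)) 0) +
      Module.finrank k (Coh.HH S ((Scheme.Modules.pullback s₀).obj A'') 1) =
      Module.finrank k (Coh.HH S ((Scheme.Modules.pullback s₀).obj A'') 0) +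
      Module.finrank k (Coh.HH S ((Scheme.Modules.pullback s₀).obj A') 1) :=
    five' k S Sβ₀ (pc s₀ hA') (pc s₀ hA'') (pc s₀ hcok) (v₀ 1 one_pos)
  have a1 : Module.finrank k (Coh.HH S ((Scheme.Modules.pullback s).obj A') 0) ≤
      Module.finrank k (Coh.HH S ((Scheme.Modules.pullback s).obj A) 0) :=
    le' k S Sα (pc s hA)
  have a2 : Module.finrank k (Coh.HH S ((Scheme.Modules.pullback s).obj A'') 0) ≤
    Module.finrank k (Coh.HH S ((Scheme.Modules.pullback s).obj A') 0) +
    Module.finrank k (Coh.HH S ((Scheme.Modules.pullback s).obj (cokernel β)) 0) :=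
    le_add' k S Sβ (pc s hA') (pc s hA'') (pc s hcok)
  exact num h0 h1 hup hlen e₀ a1 a2

end Groth.Agent.Surf.K460.FlatExt
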