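import Groth.Agent.Lefpen.H121.CurveCartier
import Groth.Agent.Dix.IdealModCartier
import Groth.Agent.Picfga.CurveRelDim
import Groth.Agent.VarietyA.CurveFin
import Groth.Agent.CurvesB.CurveRR

/-!
Integral curves on smooth surfaces over an algebraically closed field: Cartier, `χ(O_C) = 1 - p_a`.
-/

set_option autoImplicit false
universe u
open CategoryTheory CategoryTheory.Limits AlgebraicGeometry

namespace Groth.Agent.Surf.K460.Basic

theorem dim_subscheme {Y : Scheme.{u}} (I : Y.IdealSheafData) :
    topologicalKrullDim I.subscheme = topologicalKrullDim (I.support : Set Y) := by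
  have h := I.subschemeι.isClosedEmbedding
  have hr : Set.range I.subschemeι.base = (I.support : Set Y) := I.range_subschemeι
  have e : I.subscheme ≃ₜ (I.support : Set Y) :=
    h.isEmbedding.toHomeomorph.trans (Homeomorph.setCongr hr)
  exact IsHomeomorph.topologicalKrullDim_eq e e.isHomeomorph

theorem isNoetherian_of_proper (k : Type u) [Field k] {X : Scheme.{u}}
    [X.Over (Spec (CommRingCat.of k))] [IsProper (X ↘ Spec (CommRingCat.of k))] :
    IsNoetherian X := by
  haveI : IsLocallyNoetherian X :=
    LocallyOfFiniteType.isLocallyNoetherian (X ↘ Spec (CommRingCat.of k))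
  haveI : CompactSpace X :=
    QuasiCompact.compactSpace_of_compactSpace (X ↘ Spec (CommRingCat.of k))
  constructor

variable (k : Type u) [Field k] {X : Scheme.{u}} [X.Over (Spec (CommRingCat.of k))]

/-- An integral curve on a smooth surface is an effective Cartier divisor. -/
theorem isEffCartier_of_curve [IsIntegral X] [IsProper (X ↘ Spec (CommRingCat.of k))]
    [Smooth (X ↘ Spec (CommRingCat.of k))] (hdim : topologicalKrullDim X = 2)
    (C : X.IdealSheafData) (hC : IsIntegral C.subscheme)
    (hC1 : topologicalKrullDim (C.support : Set X) = 1) : BlowUp.IsEffCartierIdeal C := by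
  haveI : IsNoetherian X := isNoetherian_of_proper k
  haveI : SmoothOfRelativeDimension 2 (X ↘ Spec (CommRingCat.of k)) :=
    Groth.Agent.Picfga.CurveRelDim.smoothOfRelativeDimension_of_topologicalKrullDim_eq k X
      (X ↘ Spec (CommRingCat.of k)) 2 hdim
  refine Lefpen.H121.CurveCartier.isEffCartierIdeal (X ↘ Spec (CommRingCat.of k)) C ?_
  intro Z hZ
  rw [irreducibleComponents_eq_singleton, Set.mem_singleton_iff] at hZ
  subst hZ
  rw [← hC1, ← dim_subscheme]
  exact IsHomeomorph.topologicalKrullDim_eq (Homeomorph.Set.univ _)
    (Homeomorph.Set.univ _).isHomeomorph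

/-- Euler characteristic of the structure sheaf of an integral proper curve. -/
theorem euler_structure [IsAlgClosed k] (C : Scheme.{u}) [C.Over (Spec (CommRingCat.of k))]
    [IsIntegral C] [IsProper (C ↘ Spec (CommRingCat.of k))] (hd : topologicalKrullDim C ≤ 1) :
    Curv2.euler k C (Coh.structureModule C) =
      1 - (Module.finrank k (Coh.HH C (Coh.structureModule C) 1) : ℤ) := by
  haveI : IsNoetherian C := isNoetherian_of_proper k
  rw [Groth.Agent.CurvesB.CurveRR.euler_eq k C hd,
    Groth.Agent.VarietyA.CurveFin.finrank_h0_structure k C]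
  norm_num

end Groth.Agent.Surf.K460.Basic
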