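import Groth.Prelude.Def_W4c3severiratdpLat
import Mathlib.Algebra.Order.Chebyshev
import Mathlib.Data.Fintype.BigOperators
import Mathlib.Tactic.Linarith
import Mathlib.Tactic.Ring
import Mathlib.Tactic.IntervalCases
import Mathlib.Tactic.LinearCombination
import Mathlib.Tactic.Abel
import Mathlib.Data.Int.LeastGreatest

/-!
Enumeration of the conic classes and the exceptional classes of the lattices `DP δ`, `δ ≤ 8`,
and the reduction to a Weyl chamber.
-/

set_option autoImplicit false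

namespace K460.LatBase

open W4c3severiratdp

/-- All vectors with entries in `cand`, sum `s` and sum of squares `q`. -/
def enumF (cand : List ℤ) : (n : ℕ) → (s q : ℤ) → List (Fin n → ℤ)
  | 0, s, q => if s = 0 ∧ q = 0 then [Fin.elim0] else []
  | n + 1, s, q =>
    if ((n : ℤ) + 1) * q < s * s then []
    else cand.flatMap fun b => (enumF cand n (s - b) (q - b * b)).map
      fun v => (Fin.cons b v : Fin (n + 1) → ℤ)

theorem mem_enumF {cand : List ℤ} {n : ℕ} {s q : ℤ} {v : Fin n → ℤ} :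
    v ∈ enumF cand n s q ↔ (∀ i, v i ∈ cand) ∧ ∑ i, v i = s ∧ ∑ i, v i * v i = q := by
  induction n generalizing s q with
  | zero =>
    simp only [enumF, IsEmpty.forall_iff, Finset.univ_eq_empty, Finset.sum_empty, true_and]
    split_ifs with h
    · simp only [List.mem_singleton, Subsingleton.elim v Fin.elim0, h.1, h.2, true_and]
    · simp only [List.not_mem_nil, false_iff]
      rintro ⟨h1, h2⟩
      exact h ⟨h1.symm, h2.symm⟩
  | succ n ih =>
    have key : (∀ i, v i ∈ cand) ∧ ∑ i, v i = s ∧ ∑ i, v i * v i = q ↔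
        ∃ b ∈ cand, ∃ w : Fin n → ℤ, ((∀ i, w i ∈ cand) ∧ ∑ i, w i = s - b ∧
          ∑ i, w i * w i = q - b * b) ∧ (Fin.cons b w : Fin (n + 1) → ℤ) = v := by
      constructor
      · rintro ⟨h1, h2, h3⟩
        refine ⟨v 0, h1 0, Fin.tail v, ⟨fun i => h1 _, ?_, ?_⟩, Fin.cons_self_tail v⟩
        · rw [← h2, Fin.sum_univ_succ]
          simp only [Fin.tail]
          ring
        · rw [← h3, Fin.sum_univ_succ]
          simp only [Fin.tail]
          ring
      · rintro ⟨b, hb, w, ⟨h1, h2, h3⟩, rfl⟩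
        refine ⟨?_, ?_, ?_⟩
        · intro i
          refine Fin.cases ?_ (fun j => ?_) i
          · simpa using hb
          · simpa using h1 j
        · rw [Fin.sum_univ_succ]
          simp only [Fin.cons_zero, Fin.cons_succ, h2]
          ring
        · rw [Fin.sum_univ_succ]
          simp only [Fin.cons_zero, Fin.cons_succ, h3]
          ring
    rw [key]
    simp only [enumF]
    split_ifs with h
    · simp only [List.not_mem_nil, false_iff]
      rw [← key]
      rintro ⟨-, h2, h3⟩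
      have := sq_sum_le_card_mul_sum_sq (s := (Finset.univ : Finset (Fin (n + 1)))) (f := v)
      simp only [Finset.card_univ, Fintype.card_fin, pow_two] at this
      rw [h2, h3] at this
      push_cast at this
      exact absurd this (not_le.mpr h)
    · simp only [List.mem_flatMap, List.mem_map, ih]

theorem nodup_enumF {cand : List ℤ} (hc : cand.Nodup) (n : ℕ) (s q : ℤ) :
    (enumF cand n s q).Nodup := by
  induction n generalizing s q with
  | zero =>
    simp only [enumF]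
    split_ifs <;> simp
  | succ n ih =>
    simp only [enumF]
    split_ifs with h
    · simp
    · rw [List.nodup_flatMap]
      refine ⟨fun b _ => (ih _ _).map (fun v w hvw => (Fin.cons_injective2 hvw).2), ?_⟩
      refine hc.imp ?_
      intro b b' hbb'
      simp only [Function.onFun, List.disjoint_left, List.mem_map, not_exists, not_and]
      rintro _ ⟨v, -, rfl⟩ w - hw
      exact hbb' ((Fin.cons_injective2 hw).1).symm

/-- All vectors `(a; b_1, …, b_δ)` with `a` in `as`, entries in `cand`,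
`∑ b_i = 3 a - c` and `∑ b_i^2 = a^2 + e`. -/
def enumDP (cand as : List ℤ) (c e : ℤ) (δ : ℕ) : List (DP δ) :=
  as.flatMap fun a => (enumF cand δ (3 * a - c) (a * a + e)).map
    fun v => (Fin.cons a v : Fin (δ + 1) → ℤ)

theorem mem_enumDP {cand as : List ℤ} {c e : ℤ} {δ : ℕ} {v : DP δ} :
    v ∈ enumDP cand as c e δ ↔ v 0 ∈ as ∧ (∀ i : Fin δ, v i.succ ∈ cand) ∧
      ∑ i : Fin δ, v i.succ = 3 * v 0 - c ∧ ∑ i : Fin δ, v i.succ * v i.succ = v 0 * v 0 + e := by
  simp only [enumDP, List.mem_flatMap, List.mem_map, mem_enumF]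
  constructor
  · rintro ⟨a, ha, w, ⟨h1, h2, h3⟩, rfl⟩
    simp only [Fin.cons_zero, Fin.cons_succ]
    exact ⟨ha, h1, h2, h3⟩
  · rintro ⟨h0, h1, h2, h3⟩
    exact ⟨v 0, h0, Fin.tail v, ⟨h1, h2, h3⟩, Fin.cons_self_tail v⟩

theorem nodup_enumDP {cand as : List ℤ} (hc : cand.Nodup) (ha : as.Nodup) (c e : ℤ) (δ : ℕ) :
    (enumDP cand as c e δ).Nodup := by
  rw [enumDP, List.nodup_flatMap]
  refine ⟨fun b _ => (nodup_enumF hc _ _ _).map (fun v w hvw => (Fin.cons_injective2 hvw).2), ?_⟩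
  refine ha.imp ?_
  intro b b' hbb'
  simp only [Function.onFun, List.disjoint_left, List.mem_map, not_exists, not_and]
  rintro _ ⟨v, -, rfl⟩ w - hw
  exact hbb' ((Fin.cons_injective2 hw).1).symm

theorem form_canon {δ : ℕ} (v : DP δ) : form (canon δ) v = -3 * v 0 + ∑ i : Fin δ, v i.succ := by
  simp only [form, canon, Fin.cases_zero, Fin.cases_succ]
  simp

theorem isConic_iff {δ : ℕ} (v : DP δ) : IsConic v ↔
    ∑ i : Fin δ, v i.succ = 3 * v 0 - 2 ∧ ∑ i : Fin δ, v i.succ * v i.succ = v 0 * v 0 + 0 := by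
  rw [IsConic, form_canon]
  simp only [form]
  constructor
  · rintro ⟨h1, h2⟩
    exact ⟨by linarith, by linarith⟩
  · rintro ⟨h1, h2⟩
    exact ⟨by linarith, by linarith⟩

theorem isExc_iff {δ : ℕ} (v : DP δ) : IsExc v ↔
    ∑ i : Fin δ, v i.succ = 3 * v 0 - 1 ∧ ∑ i : Fin δ, v i.succ * v i.succ = v 0 * v 0 + 1 := by
  rw [IsExc, form_canon]
  simp only [form]
  constructor
  · rintro ⟨h1, h2⟩
    exact ⟨by linarith, by linarith⟩
  · rintro ⟨h1, h2⟩
    exact ⟨by linarith, by linarith⟩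

theorem cs_total {δ : ℕ} (h8 : δ ≤ 8) (f : Fin δ → ℤ) (s q : ℤ) (hs : ∑ i, f i = s)
    (hq : ∑ i, f i * f i = q) : s * s ≤ 8 * q := by
  have h := sq_sum_le_card_mul_sum_sq (s := (Finset.univ : Finset (Fin δ))) (f := f)
  simp only [Finset.card_univ, Fintype.card_fin, pow_two] at h
  rw [hs, hq] at h
  have hq0 : 0 ≤ q := by
    rw [← hq]
    exact Finset.sum_nonneg fun i _ => mul_self_nonneg _
  have : (δ : ℤ) ≤ 8 := by exact_mod_cast h8
  nlinarith

theorem cs_one {δ : ℕ} (h8 : δ ≤ 8) (f : Fin δ → ℤ) (s q : ℤ) (hs : ∑ i, f i = s)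
    (hq : ∑ i, f i * f i = q) (j : Fin δ) :
    (s - f j) * (s - f j) ≤ 7 * (q - f j * f j) := by
  have h := sq_sum_le_card_mul_sum_sq (s := (Finset.univ.erase j : Finset (Fin δ))) (f := f)
  have e1 : ∑ i ∈ Finset.univ.erase j, f i = s - f j := by
    rw [← hs, ← Finset.sum_erase_add _ _ (Finset.mem_univ j)]
    ring
  have e2 : ∑ i ∈ Finset.univ.erase j, f i ^ 2 = q - f j * f j := by
    rw [← hq, ← Finset.sum_erase_add _ _ (Finset.mem_univ j)]
    simp only [pow_two]
    ring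
  rw [e1, e2, Finset.card_erase_of_mem (Finset.mem_univ j)] at h
  simp only [Finset.card_univ, Fintype.card_fin] at h
  have h7 : ((δ - 1 : ℕ) : ℤ) ≤ 7 := by
    have : δ - 1 ≤ 7 := by omega
    exact_mod_cast this
  have hnn : 0 ≤ q - f j * f j := by
    rw [← e2]
    exact Finset.sum_nonneg fun i _ => by positivity
  nlinarith

/-- The list of conic classes. -/
def conics (δ : ℕ) : List (DP δ) := enumDP [0, 1, 2, 3, 4] [1, 2, 3, 4, 5, 6, 7, 8, 9, 10, 11] 2 0 δ

/-- The list of exceptional classes. -/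
def excs (δ : ℕ) : List (DP δ) := enumDP [-1, 0, 1, 2, 3] [0, 1, 2, 3, 4, 5, 6] 1 1 δ

theorem conic_a_bound {a : ℤ} (h : (3 * a - 2) * (3 * a - 2) ≤ 8 * (a * a + 0)) :
    1 ≤ a ∧ a ≤ 11 := by
  constructor <;> by_contra hc <;> push Not at hc <;> nlinarith

theorem conic_b_bound {a b : ℤ}
    (h : (3 * a - 2 - b) * (3 * a - 2 - b) ≤ 7 * (a * a + 0 - b * b)) : 0 ≤ b ∧ b ≤ 4 := by
  have h2 : (2 * a - (3 * b + 6)) * (2 * a - (3 * b + 6)) ≤ -7 * b * b + 28 * b + 28 := by
    nlinarith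
  have h3 : 0 ≤ -7 * b * b + 28 * b + 28 := le_trans (mul_self_nonneg _) h2
  constructor <;> by_contra hc <;> push Not at hc <;> nlinarith

theorem exc_b_bound {a b : ℤ}
    (h : (3 * a - 1 - b) * (3 * a - 1 - b) ≤ 7 * (a * a + 1 - b * b)) : -1 ≤ b ∧ b ≤ 3 := by
  have h2 : (2 * a - 3 * (b + 1)) * (2 * a - 3 * (b + 1)) ≤ -7 * b * b + 14 * b + 21 := by
    nlinarith
  have h3 : 0 ≤ -7 * b * b + 14 * b + 21 := le_trans (mul_self_nonneg _) h2
  constructor <;> by_contra hc <;> push Not at hc <;> nlinarith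

theorem exc_a_bound {a : ℤ} (h : (3 * a - 1) * (3 * a - 1) ≤ 8 * (a * a + 1)) :
    -1 ≤ a ∧ a ≤ 7 := by
  constructor <;> by_contra hc <;> push Not at hc <;> nlinarith

theorem mem_conics {δ : ℕ} (h8 : δ ≤ 8) {v : DP δ} : v ∈ conics δ ↔ IsConic v := by
  rw [conics, mem_enumDP, isConic_iff]
  constructor
  · rintro ⟨-, -, h1, h2⟩
    exact ⟨h1, h2⟩
  · rintro ⟨h1, h2⟩
    refine ⟨?_, fun i => ?_, h1, h2⟩
    · have := conic_a_bound (cs_total h8 _ _ _ h1 h2)
      generalize v 0 = a at this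
      obtain ⟨h3, h4⟩ := this
      interval_cases a <;> simp
    · have := conic_b_bound (cs_one h8 _ _ _ h1 h2 i)
      generalize v i.succ = a at this
      obtain ⟨h3, h4⟩ := this
      interval_cases a <;> simp

theorem exc_a_bound' {δ : ℕ} (h8 : δ ≤ 8) (v : DP δ)
    (h1 : ∑ i : Fin δ, v i.succ = 3 * v 0 - 1)
    (h2 : ∑ i : Fin δ, v i.succ * v i.succ = v 0 * v 0 + 1) : 0 ≤ v 0 ∧ v 0 ≤ 6 := by
  obtain ⟨h3, h4⟩ := exc_a_bound (cs_total h8 _ _ _ h1 h2)
  have hb := fun i => exc_b_bound (cs_one h8 _ _ _ h1 h2 i)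
  constructor
  · by_contra hc
    have ha : v 0 = -1 := by omega
    rw [ha] at h1 h2
    have : ∑ i : Fin δ, v i.succ * v i.succ = - ∑ i : Fin δ, v i.succ +
      ∑ i : Fin δ, v i.succ * (v i.succ + 1) := by
      rw [← Finset.sum_neg_distrib, ← Finset.sum_add_distrib]
      exact Finset.sum_congr rfl fun i _ => by ring
    have h5 : ∀ i : Fin δ, (∑ i : Fin δ, v i.succ : ℤ) = -4 := fun _ => by rw [h1]; norm_num
    have h6 : 0 ≤ ∑ i : Fin δ, (v i.succ + 1) * (v i.succ + 0) := by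
      refine Finset.sum_nonneg fun i _ => ?_
      obtain ⟨hb1, hb2⟩ := hb i
      rcases eq_or_lt_of_le hb1 with hb3 | hb3
      · rw [← hb3]; norm_num
      · have : 0 ≤ v i.succ := by omega
        positivity
    have h7 : ∑ i : Fin δ, (v i.succ + 1) * (v i.succ + 0) =
        ∑ i : Fin δ, v i.succ * v i.succ + ∑ i : Fin δ, v i.succ := by
      rw [← Finset.sum_add_distrib]
      exact Finset.sum_congr rfl fun i _ => by ring
    rw [h7, h1, h2] at h6
    norm_num at h6
  · by_contra hc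
    have ha : v 0 = 7 := by omega
    rw [ha] at h1 h2
    have h6 : 0 ≤ ∑ i : Fin δ, (v i.succ - 2) * (v i.succ - 3) := by
      refine Finset.sum_nonneg fun i _ => ?_
      obtain ⟨hb1, hb2⟩ := hb i
      rcases eq_or_lt_of_le hb2 with hb3 | hb3
      · rw [hb3]; norm_num
      · have : v i.succ ≤ 2 := by omega
        nlinarith
    have h7 : ∑ i : Fin δ, (v i.succ - 2) * (v i.succ - 3) =
        ∑ i : Fin δ, v i.succ * v i.succ - 5 * ∑ i : Fin δ, v i.succ + 6 * δ := by
      rw [Finset.mul_sum, ← Finset.sum_sub_distrib]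
      have : (6 * δ : ℤ) = ∑ i : Fin δ, 6 := by simp [mul_comm]
      rw [this, ← Finset.sum_add_distrib]
      exact Finset.sum_congr rfl fun i _ => by ring
    rw [h7, h1, h2] at h6
    have : (δ : ℤ) ≤ 8 := by exact_mod_cast h8
    norm_num at h6
    linarith

theorem mem_excs {δ : ℕ} (h8 : δ ≤ 8) {v : DP δ} : v ∈ excs δ ↔ IsExc v := by
  rw [excs, mem_enumDP, isExc_iff]
  constructor
  · rintro ⟨-, -, h1, h2⟩
    exact ⟨h1, h2⟩
  · rintro ⟨h1, h2⟩
    refine ⟨?_, fun i => ?_, h1, h2⟩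
    · have := exc_a_bound' h8 v h1 h2
      generalize v 0 = a at this
      obtain ⟨h3, h4⟩ := this
      interval_cases a <;> simp
    · have := exc_b_bound (cs_one h8 _ _ _ h1 h2 i)
      generalize v i.succ = a at this
      obtain ⟨h3, h4⟩ := this
      interval_cases a <;> simp

theorem nodup_conics (δ : ℕ) : (conics δ).Nodup := nodup_enumDP (by decide) (by decide) _ _ _

theorem nodup_excs (δ : ℕ) : (excs δ).Nodup := nodup_enumDP (by decide) (by decide) _ _ _

theorem ncard_conic {δ : ℕ} (h8 : δ ≤ 8) : {v : DP δ | IsConic v}.ncard = (conics δ).length := by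
  classical
  have : {v : DP δ | IsConic v} = ((conics δ).toFinset : Set (DP δ)) := by
    ext v
    simp only [Set.mem_ofPred_eq, List.coe_toFinset, mem_conics h8]
  rw [this, Set.ncard_coe_finset, List.toFinset_card_of_nodup (nodup_conics δ)]

/-! ### Reflections -/

variable {δ : ℕ}

theorem form_add_left (u v w : DP δ) : form (u + v) w = form u w + form v w := by
  simp only [form, Pi.add_apply, add_mul, Finset.sum_add_distrib]
  ring

theorem form_smul_left (c : ℤ) (u w : DP δ) : form (c • u) w = c * form u w := by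
  simp only [form, Pi.smul_apply, smul_eq_mul, mul_sub, Finset.mul_sum, mul_assoc]

theorem form_comm (u w : DP δ) : form u w = form w u := by
  simp only [form, mul_comm]

theorem form_add_right (u v w : DP δ) : form u (v + w) = form u v + form u w := by
  rw [form_comm, form_add_left, form_comm v, form_comm w]

theorem form_smul_right (c : ℤ) (u w : DP δ) : form u (c • w) = c * form u w := by
  rw [form_comm, form_smul_left, form_comm u]

theorem form_sub_left (u v w : DP δ) : form (u - v) w = form u w - form v w := by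
  simp only [form, Pi.sub_apply, sub_mul, Finset.sum_sub_distrib]
  ring

theorem form_sub_right (u v w : DP δ) : form u (v - w) = form u v - form u w := by
  rw [form_comm, form_sub_left, form_comm v, form_comm w]

/-- The reflection in a root. -/
def refl (α : DP δ) (h : form α α = -2) : DP δ ≃ₗ[ℤ] DP δ where
  toFun v := v + form v α • α
  invFun v := v + form v α • α
  map_add' v w := by
    rw [form_add_left, add_smul]
    abel
  map_smul' c v := by
    rw [form_smul_left, RingHom.id_apply, smul_add, mul_smul]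
  left_inv v := by
    simp only [form_add_left, form_smul_left, h, add_smul]
    rw [show form v α * (-2 : ℤ) = -(2 * form v α) by ring, neg_smul, two_mul, add_smul]
    abel
  right_inv v := by
    simp only [form_add_left, form_smul_left, h, add_smul]
    rw [show form v α * (-2 : ℤ) = -(2 * form v α) by ring, neg_smul, two_mul, add_smul]
    abel

theorem refl_apply (α : DP δ) (h : form α α = -2) (v : DP δ) :
    refl α h v = v + form v α • α := rfl

theorem isWeyl_refl (α : DP δ) (h : form α α = -2) (h' : form (canon δ) α = 0) :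
    IsWeyl (refl α h) := by
  refine ⟨fun v w => ?_, ?_⟩
  · simp only [refl_apply, form_add_left, form_add_right, form_smul_left, form_smul_right, h,
      form_comm α w]
    ring
  · rw [refl_apply, h', zero_smul, add_zero]

theorem isWeyl_refl_one : IsWeyl (LinearEquiv.refl ℤ (DP δ)) := ⟨fun _ _ => rfl, rfl⟩

theorem weyl_trans {g h : DP δ ≃ₗ[ℤ] DP δ} (hg : IsWeyl g) (hh : IsWeyl h) :
    IsWeyl (g.trans h) := by
  refine ⟨fun v w => ?_, ?_⟩
  · simp only [LinearEquiv.trans_apply]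
    rw [hh.1, hg.1]
  · simp only [LinearEquiv.trans_apply]
    rw [hg.2, hh.2]

theorem weyl_symm {g : DP δ ≃ₗ[ℤ] DP δ} (hg : IsWeyl g) : IsWeyl g.symm := by
  refine ⟨fun v w => ?_, ?_⟩
  · rw [← hg.1, LinearEquiv.apply_symm_apply, LinearEquiv.apply_symm_apply]
  · rw [LinearEquiv.symm_apply_eq, hg.2]

theorem weyl_isConic {g : DP δ ≃ₗ[ℤ] DP δ} (hg : IsWeyl g) {v : DP δ} (hv : IsConic v) :
    IsConic (g v) := by
  refine ⟨by rw [hg.1]; exact hv.1, ?_⟩
  rw [← hg.2, hg.1]
  exact hv.2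

theorem weyl_isExc {g : DP δ ≃ₗ[ℤ] DP δ} (hg : IsWeyl g) {v : DP δ} (hv : IsExc v) :
    IsExc (g v) := by
  refine ⟨by rw [hg.1]; exact hv.1, ?_⟩
  rw [← hg.2, hg.1]
  exact hv.2

/-- Reduction to a chamber: a vector whose Weyl orbit is bounded below in the direction `ρ`
can be moved, by reflections in the roots of `Δ`, to a vector with nonnegative product with
all roots of `Δ`, keeping fixed all vectors orthogonal to `Δ`. -/
theorem exists_chamber (Δ Fx : List (DP δ)) (ρ : DP δ) (h1 : ∀ α ∈ Δ, form α α = -2)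
    (h2 : ∀ α ∈ Δ, form (canon δ) α = 0) (h3 : ∀ α ∈ Δ, ∀ f ∈ Fx, form f α = 0)
    (h4 : ∀ α ∈ Δ, 0 < form α ρ) (v : DP δ) (B : ℤ)
    (hB : ∀ g : DP δ ≃ₗ[ℤ] DP δ, IsWeyl g → B ≤ form (g v) ρ) :
    ∃ g : DP δ ≃ₗ[ℤ] DP δ, IsWeyl g ∧ (∀ f ∈ Fx, g f = f) ∧ ∀ α ∈ Δ, 0 ≤ form (g v) α := by
  obtain ⟨m, ⟨g, hg, hgf, hgm⟩, hmin⟩ := Int.exists_least_of_bdd
    (P := fun z => ∃ g : DP δ ≃ₗ[ℤ] DP δ, IsWeyl g ∧ (∀ f ∈ Fx, g f = f) ∧ form (g v) ρ = z)
    ⟨B, fun z ⟨g, hg, _, hgz⟩ => hgz ▸ hB g hg⟩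
    ⟨_, LinearEquiv.refl ℤ _, isWeyl_refl_one, fun _ _ => rfl, rfl⟩
  refine ⟨g, hg, hgf, fun α hα => ?_⟩
  have hs := isWeyl_refl α (h1 α hα) (h2 α hα)
  have := hmin _ ⟨g.trans (refl α (h1 α hα)), weyl_trans hg hs, ?_, rfl⟩
  · rw [LinearEquiv.trans_apply, refl_apply, form_add_left, form_smul_left, hgm] at this
    have h5 : 0 ≤ form (g v) α * form α ρ := by linarith
    exact nonneg_of_mul_nonneg_left h5 (h4 α hα)
  · intro f hf
    rw [LinearEquiv.trans_apply, hgf f hf, refl_apply, h3 α hα f hf, zero_smul, add_zero]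

theorem exists_bound_of_mem (l : List (DP δ)) (ρ : DP δ) : ∃ B : ℤ, ∀ v ∈ l, B ≤ form v ρ := by
  induction l with
  | nil => exact ⟨0, by simp⟩
  | cons v l ih =>
    obtain ⟨B, hB⟩ := ih
    refine ⟨min B (form v ρ), ?_⟩
    intro w hw
    rcases List.mem_cons.mp hw with rfl | hw
    · exact min_le_right _ _
    · exact (min_le_left _ _).trans (hB w hw)

theorem exists_chamber_conic (h8 : δ ≤ 8) (Δ Fx : List (DP δ)) (ρ : DP δ)
    (h1 : ∀ α ∈ Δ, form α α = -2)
    (h2 : ∀ α ∈ Δ, form (canon δ) α = 0) (h3 : ∀ α ∈ Δ, ∀ f ∈ Fx, form f α = 0)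
    (h4 : ∀ α ∈ Δ, 0 < form α ρ) (v : DP δ) (hv : IsConic v) :
    ∃ g : DP δ ≃ₗ[ℤ] DP δ, IsWeyl g ∧ (∀ f ∈ Fx, g f = f) ∧ ∀ α ∈ Δ, 0 ≤ form (g v) α := by
  obtain ⟨B, hB⟩ := exists_bound_of_mem (conics δ) ρ
  exact exists_chamber Δ Fx ρ h1 h2 h3 h4 v B
    fun g hg => hB _ ((mem_conics h8).mpr (weyl_isConic hg hv))

theorem exists_chamber_exc (h8 : δ ≤ 8) (Δ Fx : List (DP δ)) (ρ : DP δ)
    (h1 : ∀ α ∈ Δ, form α α = -2)
    (h2 : ∀ α ∈ Δ, form (canon δ) α = 0) (h3 : ∀ α ∈ Δ, ∀ f ∈ Fx, form f α = 0)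
    (h4 : ∀ α ∈ Δ, 0 < form α ρ) (v : DP δ) (hv : IsExc v) :
    ∃ g : DP δ ≃ₗ[ℤ] DP δ, IsWeyl g ∧ (∀ f ∈ Fx, g f = f) ∧ ∀ α ∈ Δ, 0 ≤ form (g v) α := by
  obtain ⟨B, hB⟩ := exists_bound_of_mem (excs δ) ρ
  exact exists_chamber Δ Fx ρ h1 h2 h3 h4 v B
    fun g hg => hB _ ((mem_excs h8).mpr (weyl_isExc hg hv))

end K460.LatBase
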