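import Groth.Agent.Surf.K460.LatBase

/-!
Weyl chambers for the del Pezzo lattices: simple roots, normal forms of conic and
exceptional classes.
-/

set_option autoImplicit false

namespace K460.LatWeyl

open W4c3severiratdp K460.LatBase

/-- A computable sum. -/
def fsum : (n : ℕ) → (Fin n → ℤ) → ℤ
  | 0, _ => 0
  | n + 1, f => f 0 + fsum n (fun i => f i.succ)

theorem fsum_eq (n : ℕ) (f : Fin n → ℤ) : fsum n f = ∑ i, f i := by
  induction n with
  | zero => simp [fsum]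
  | succ n ih => rw [fsum, ih, Fin.sum_univ_succ]

/-- A computable version of the intersection form. -/
def fform {δ : ℕ} (v w : DP δ) : ℤ := v 0 * w 0 - fsum δ (fun i => v i.succ * w i.succ)

theorem fform_eq {δ : ℕ} (v w : DP δ) : fform v w = form v w := by
  rw [fform, fsum_eq, form]

/-- The root `e_i - e_{i+1}`. -/
def tr (δ i : ℕ) : DP δ := fun j => if j.val = i then -1 else if j.val = i + 1 then 1 else 0

/-- The root `ℓ - e_1 - e_2 - e_3`. -/
def cr (δ : ℕ) : DP δ := fun j => if j.val ≤ 3 then 1 else 0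

/-- The conic class `ℓ - e_1`. -/
def FF (δ : ℕ) : DP δ := fun j => if j.val ≤ 1 then 1 else 0

/-- The class `e_i`. -/
def EE (δ i : ℕ) : DP δ := fun j => if j.val = i then -1 else 0

/-- The list of the roots `e_i - e_{i+1}` with `m ≤ i < n`, preceded by
`ℓ - e_1 - e_2 - e_3` if `3 ≤ δ`. -/
def roots (δ m n : ℕ) : List (DP δ) :=
  (if 3 ≤ δ then [cr δ] else []) ++ ((List.range n).filter (fun i => m ≤ i)).map (tr δ)

/-- A vector positive on all simple roots. -/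
def rho (δ : ℕ) : DP δ := fun j => if j.val = 0 then 22 else 9 - j.val

/-- All elements of `Δ` are roots, orthogonal to `Fx`, and positive on `rho`. -/
def goodRoots (δ : ℕ) (Δ Fx : List (DP δ)) : Bool :=
  Δ.all fun α => fform α α == -2 && fform (canon δ) α == 0 && decide (0 < fform α (rho δ)) &&
    Fx.all fun f => fform f α == 0

/-- `u` lies in the chamber of `Δ`. -/
def inCh {δ : ℕ} (Δ : List (DP δ)) (u : DP δ) : Bool := Δ.all fun α => decide (0 ≤ fform u α)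

theorem chamber_conic {δ : ℕ} (h8 : δ ≤ 8) (Δ Fx : List (DP δ)) (h : goodRoots δ Δ Fx = true)
    (v : DP δ) (hv : IsConic v) :
    ∃ g : DP δ ≃ₗ[ℤ] DP δ, IsWeyl g ∧ (∀ f ∈ Fx, g f = f) ∧ g v ∈ conics δ ∧
      inCh Δ (g v) = true := by
  simp only [goodRoots, List.all_eq_true, Bool.and_eq_true, beq_iff_eq, decide_eq_true_eq,
    fform_eq] at h
  obtain ⟨g, hg, hf, hc⟩ := exists_chamber_conic h8 Δ Fx (rho δ) (fun α hα => (h α hα).1.1.1)
    (fun α hα => (h α hα).1.1.2) (fun α hα f hf => (h α hα).2 f hf)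
    (fun α hα => (h α hα).1.2) v hv
  refine ⟨g, hg, hf, (mem_conics h8).mpr (weyl_isConic hg hv), ?_⟩
  simp only [inCh, List.all_eq_true, decide_eq_true_eq, fform_eq]
  exact hc

theorem chamber_exc {δ : ℕ} (h8 : δ ≤ 8) (Δ Fx : List (DP δ)) (h : goodRoots δ Δ Fx = true)
    (v : DP δ) (hv : IsExc v) :
    ∃ g : DP δ ≃ₗ[ℤ] DP δ, IsWeyl g ∧ (∀ f ∈ Fx, g f = f) ∧ g v ∈ excs δ ∧
      inCh Δ (g v) = true := by
  simp only [goodRoots, List.all_eq_true, Bool.and_eq_true, beq_iff_eq, decide_eq_true_eq,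
    fform_eq] at h
  obtain ⟨g, hg, hf, hc⟩ := exists_chamber_exc h8 Δ Fx (rho δ) (fun α hα => (h α hα).1.1.1)
    (fun α hα => (h α hα).1.1.2) (fun α hα f hf => (h α hα).2 f hf)
    (fun α hα => (h α hα).1.2) v hv
  refine ⟨g, hg, hf, (mem_excs h8).mpr (weyl_isExc hg hv), ?_⟩
  simp only [inCh, List.all_eq_true, decide_eq_true_eq, fform_eq]
  exact hc

/-- The check that all elements of `l` in the chamber of `Δ` belong to `L`. -/
def chk {δ : ℕ} (l Δ L : List (DP δ)) : Bool :=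
  l.all fun u => !inCh Δ u || decide (u ∈ L)

theorem mem_of_chk {δ : ℕ} {l Δ L : List (DP δ)} (h : chk l Δ L = true) {u : DP δ}
    (hu : u ∈ l) (hc : inCh Δ u = true) : u ∈ L := by
  simp only [chk, List.all_eq_true, Bool.or_eq_true, Bool.not_eq_true', decide_eq_true_eq] at h
  rcases h u hu with h1 | h1
  · rw [hc] at h1
    exact absurd h1 (by decide)
  · exact h1

/-- Normal form of pairs of conics. -/
theorem conic_pair_normal {δ : ℕ} (h8 : δ ≤ 8) (L : List (DP δ))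
    (hE : goodRoots δ (roots δ 1 δ) [] = true)
    (hE' : chk (conics δ) (roots δ 1 δ) [FF δ] = true)
    (hF : goodRoots δ (roots δ 2 δ) [FF δ] = true)
    (hF' : chk (conics δ) (roots δ 2 δ) L = true)
    (v₁ v₂ : DP δ) (hv₁ : IsConic v₁) (hv₂ : IsConic v₂) :
    ∃ g : DP δ ≃ₗ[ℤ] DP δ, IsWeyl g ∧ g v₁ = FF δ ∧ g v₂ ∈ L := by
  obtain ⟨g, hg, -, hgm, hgc⟩ := chamber_conic h8 _ _ hE v₁ hv₁
  have h1 : g v₁ = FF δ := by
    have := mem_of_chk hE' hgm hgc
    simpa only [List.mem_singleton] using this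
  obtain ⟨g', hg', hgF, hgm', hgc'⟩ := chamber_conic h8 _ _ hF (g v₂) (weyl_isConic hg hv₂)
  refine ⟨g.trans g', weyl_trans hg hg', ?_, ?_⟩
  · rw [LinearEquiv.trans_apply, h1]
    exact hgF _ (by simp)
  · exact mem_of_chk hF' hgm' hgc'

theorem conic_pairs {δ : ℕ} (h8 : δ ≤ 8) (L : List (DP δ))
    (hE : goodRoots δ (roots δ 1 δ) [] = true)
    (hE' : chk (conics δ) (roots δ 1 δ) [FF δ] = true)
    (hF : goodRoots δ (roots δ 2 δ) [FF δ] = true)
    (hF' : chk (conics δ) (roots δ 2 δ) L = true) (e : ℤ → Bool)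
    (hL : (L.all fun u => L.all fun w => !(fform (FF δ) u == fform (FF δ) w) ||
      e (fform (FF δ) u) || decide (u = w)) = true)
    (v₁ v₂ w₁ w₂ : DP δ) (hv₁ : IsConic v₁) (hv₂ : IsConic v₂)
    (hw₁ : IsConic w₁) (hw₂ : IsConic w₂) (heq : form v₁ v₂ = form w₁ w₂)
    (he : e (form v₁ v₂) = false) :
    ∃ g : DP δ ≃ₗ[ℤ] DP δ, IsWeyl g ∧ g v₁ = w₁ ∧ g v₂ = w₂ := by
  obtain ⟨g, hg, hg1, hg2⟩ := conic_pair_normal h8 L hE hE' hF hF' v₁ v₂ hv₁ hv₂
  obtain ⟨g', hg', hg1', hg2'⟩ := conic_pair_normal h8 L hE hE' hF hF' w₁ w₂ hw₁ hw₂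
  simp only [List.all_eq_true, Bool.or_eq_true, Bool.not_eq_true', decide_eq_true_eq,
    fform_eq, beq_eq_false_iff_ne] at hL
  have hk := hL _ hg2 _ hg2'
  rw [← hg1, hg.1, hg1, ← hg1', hg'.1, heq, ← heq, he] at hk
  have : g v₂ = g' w₂ := by
    rcases hk with (hk | hk) | hk
    · exact absurd rfl hk
    · exact absurd hk (by decide)
    · exact hk
  refine ⟨g.trans g'.symm, weyl_trans hg (weyl_symm hg'), ?_, ?_⟩
  · rw [LinearEquiv.trans_apply, LinearEquiv.symm_apply_eq, hg1, hg1']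
  · rw [LinearEquiv.trans_apply, LinearEquiv.symm_apply_eq, this]

theorem pairs2 : chk (conics 2) (roots 2 1 2) [FF 2] = true ∧
    chk (conics 2) (roots 2 2 2) [![1, 0, 1], ![1, 1, 0]] = true := by
  decide +kernel

theorem pairs3 : chk (conics 3) (roots 3 1 3) [FF 3] = true ∧
    chk (conics 3) (roots 3 2 3) [![1, 0, 1, 0], ![1, 1, 0, 0]] = true := by
  decide +kernel

theorem pairs4 : chk (conics 4) (roots 4 1 4) [FF 4] = true ∧
    chk (conics 4) (roots 4 2 4) [![1, 0, 1, 0, 0], ![1, 1, 0, 0, 0]] = true := by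
  decide +kernel

theorem pairs5 : chk (conics 5) (roots 5 1 5) [FF 5] = true ∧
    chk (conics 5) (roots 5 2 5) [![1, 0, 1, 0, 0, 0], ![1, 1, 0, 0, 0, 0],
      ![2, 0, 1, 1, 1, 1]] = true := by
  decide +kernel

theorem pairs6 : chk (conics 6) (roots 6 1 6) [FF 6] = true ∧
    chk (conics 6) (roots 6 2 6) [![1, 0, 1, 0, 0, 0, 0], ![1, 1, 0, 0, 0, 0, 0],
      ![2, 0, 1, 1, 1, 1, 0]] = true := by
  decide +kernel

theorem pairs7 : chk (conics 7) (roots 7 1 7) [FF 7] = true ∧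
    chk (conics 7) (roots 7 2 7) [![1, 0, 1, 0, 0, 0, 0, 0], ![1, 1, 0, 0, 0, 0, 0, 0],
      ![2, 0, 1, 1, 1, 1, 0, 0], ![3, 0, 2, 1, 1, 1, 1, 1], ![5, 1, 2, 2, 2, 2, 2, 2]]
      = true := by
  decide +kernel

/-- The normal forms of the second conic for `δ = 8`. -/
def L8 : List (DP 8) := [![1, 0, 1, 0, 0, 0, 0, 0, 0], ![1, 1, 0, 0, 0, 0, 0, 0, 0],
  ![2, 0, 1, 1, 1, 1, 0, 0, 0], ![3, 0, 2, 1, 1, 1, 1, 1, 0], ![4, 0, 2, 2, 2, 1, 1, 1, 1],
  ![5, 0, 2, 2, 2, 2, 2, 2, 1], ![5, 1, 2, 2, 2, 2, 2, 2, 0], ![7, 1, 3, 3, 3, 3, 2, 2, 2],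
  ![8, 1, 3, 3, 3, 3, 3, 3, 3], ![11, 3, 4, 4, 4, 4, 4, 4, 4]]

theorem pairs8 : chk (conics 8) (roots 8 1 8) [FF 8] = true := by
  decide +kernel

theorem pairs8' : chk (conics 8) (roots 8 2 8) L8 = true := by
  decide +kernel

end K460.LatWeyl
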