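import Groth.Agent.Surf.K460.LatWeyl

/-!
Orbits of exceptional classes of the degree one del Pezzo lattice.
-/

set_option autoImplicit false

namespace K460.LatExc

open W4c3severiratdp K460.LatBase K460.LatWeyl

theorem exc8 : chk (excs 8) (roots 8 1 8) [EE 8 8] = true := by
  decide +kernel

/-- Normal forms for the stabilizer of `e_8`. -/
def L7 : List (DP 8) := [![0, 0, 0, 0, 0, 0, 0, -1, 0], ![0, 0, 0, 0, 0, 0, 0, 0, -1],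
  ![1, 1, 0, 0, 0, 0, 0, 0, 1], ![3, 1, 1, 1, 1, 1, 1, 0, 2], ![6, 2, 2, 2, 2, 2, 2, 2, 3]]

theorem exc7 : chk (excs 8) (roots 8 1 7) L7 = true := by
  decide +kernel

/-- Normal forms for the stabilizer of `e_7` and `e_8`. -/
def L6 : List (DP 8) := [![0, 0, 0, 0, 0, 0, -1, 0, 0], ![0, 0, 0, 0, 0, 0, 0, -1, 0],
  ![0, 0, 0, 0, 0, 0, 0, 0, -1], ![1, 0, 0, 0, 0, 0, 0, 1, 1],
  ![1, 1, 0, 0, 0, 0, 0, 0, 1], ![1, 1, 0, 0, 0, 0, 0, 1, 0], ![3, 1, 1, 1, 1, 1, 0, 1, 2],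
  ![3, 1, 1, 1, 1, 1, 0, 2, 1], ![3, 1, 1, 1, 1, 1, 1, 0, 2], ![3, 1, 1, 1, 1, 1, 1, 2, 0],
  ![4, 2, 1, 1, 1, 1, 1, 2, 2], ![6, 2, 2, 2, 2, 2, 2, 2, 3],
  ![6, 2, 2, 2, 2, 2, 2, 3, 2]]

theorem exc6 : chk (excs 8) (roots 8 1 6) L6 = true := by
  decide +kernel

theorem isExc_of_fform {δ : ℕ} {v : DP δ} (h : (fform v v == -1 && fform (canon δ) v == -1) = true) :
    IsExc v := by
  simp only [Bool.and_eq_true, beq_iff_eq, fform_eq] at h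
  exact h

theorem isExc_e8 : IsExc (EE 8 8) := isExc_of_fform (by decide +kernel)

/-- All exceptional classes are equivalent to `e_8`. -/
theorem exists_to_e8 (L : DP 8) (hL : IsExc L) :
    ∃ g : DP 8 ≃ₗ[ℤ] DP 8, IsWeyl g ∧ g L = EE 8 8 := by
  obtain ⟨g, hg, -, hgm, hgc⟩ := chamber_exc (le_refl 8) (roots 8 1 8) [] (by decide +kernel) L hL
  refine ⟨g, hg, ?_⟩
  have := mem_of_chk exc8 hgm hgc
  simpa only [List.mem_singleton] using this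

theorem exists_to_L7 (M : DP 8) (hM : IsExc M) :
    ∃ g : DP 8 ≃ₗ[ℤ] DP 8, IsWeyl g ∧ g (EE 8 8) = EE 8 8 ∧ g M ∈ L7 := by
  obtain ⟨g, hg, hgF, hgm, hgc⟩ := chamber_exc (le_refl 8) (roots 8 1 7) [EE 8 8]
    (by decide +kernel) M hM
  exact ⟨g, hg, hgF _ (by simp), mem_of_chk exc7 hgm hgc⟩

theorem exists_to_L6 (M : DP 8) (hM : IsExc M) :
    ∃ g : DP 8 ≃ₗ[ℤ] DP 8, IsWeyl g ∧ g (EE 8 8) = EE 8 8 ∧ g (EE 8 7) = EE 8 7 ∧ g M ∈ L6 := by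
  obtain ⟨g, hg, hgF, hgm, hgc⟩ := chamber_exc (le_refl 8) (roots 8 1 6) [EE 8 8, EE 8 7]
    (by decide +kernel) M hM
  exact ⟨g, hg, hgF _ (by simp), hgF _ (by simp), mem_of_chk exc6 hgm hgc⟩

theorem L7_unique : ∀ u ∈ L7, ∀ w ∈ L7, fform u (EE 8 8) = fform w (EE 8 8) → u = w := by
  decide +kernel

theorem transitive_e8 (L₁ L₂ : DP 8) (hL₁ : IsExc L₁)
    (hL₂ : IsExc L₂) (h : form L₁ (EE 8 8) = form L₂ (EE 8 8)) :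
    ∃ g : DP 8 ≃ₗ[ℤ] DP 8, IsWeyl g ∧ g (EE 8 8) = EE 8 8 ∧ g L₁ = L₂ := by
  obtain ⟨g₁, hg₁, hg₁8, hg₁L⟩ := exists_to_L7 L₁ hL₁
  obtain ⟨g₂, hg₂, hg₂8, hg₂L⟩ := exists_to_L7 L₂ hL₂
  refine ⟨g₁.trans g₂.symm, weyl_trans hg₁ (weyl_symm hg₂), ?_, ?_⟩
  · rw [LinearEquiv.trans_apply, LinearEquiv.symm_apply_eq, hg₁8, hg₂8]
  · rw [LinearEquiv.trans_apply, LinearEquiv.symm_apply_eq]
    refine L7_unique _ hg₁L _ hg₂L ?_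
    rw [fform_eq, fform_eq]
    have e1 := hg₁.1 L₁ (EE 8 8)
    have e2 := hg₂.1 L₂ (EE 8 8)
    rw [hg₁8] at e1
    rw [hg₂8] at e2
    rw [e1, e2, h]

theorem transitive (L L₁ L₂ : DP 8) (hL : IsExc L) (hL₁ : IsExc L₁)
    (hL₂ : IsExc L₂) (h : form L₁ L = form L₂ L) :
    ∃ g : DP 8 ≃ₗ[ℤ] DP 8, IsWeyl g ∧ g L = L ∧ g L₁ = L₂ := by
  obtain ⟨k, hk, hkL⟩ := exists_to_e8 L hL
  obtain ⟨g, hg, hg8, hgL⟩ := transitive_e8 (k L₁) (k L₂) (weyl_isExc hk hL₁)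
    (weyl_isExc hk hL₂) (by rw [← hkL, hk.1, hk.1, h])
  refine ⟨(k.trans g).trans k.symm, weyl_trans (weyl_trans hk hg) (weyl_symm hk), ?_, ?_⟩
  · rw [LinearEquiv.trans_apply, LinearEquiv.trans_apply, LinearEquiv.symm_apply_eq, hkL, hg8]
  · rw [LinearEquiv.trans_apply, LinearEquiv.trans_apply, LinearEquiv.symm_apply_eq, hgL]

/-- The four representatives. -/
def R : Fin 4 → Fin 3 → DP 8 :=
  ![![EE 8 8, EE 8 8, ![6, 2, 2, 2, 2, 2, 2, 2, 3]],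
    ![EE 8 8, EE 8 7, ![6, 2, 2, 2, 2, 2, 2, 3, 2]],
    ![EE 8 8, ![1, 1, 0, 0, 0, 0, 0, 0, 1], ![5, 1, 2, 2, 2, 2, 2, 2, 1]],
    ![EE 8 7, ![1, 1, 0, 0, 0, 0, 0, 1, 0], ![5, 1, 2, 2, 2, 2, 2, 2, 1]]]

theorem R_good : ∀ j : Fin 4, (∀ i : Fin 3, fform (R j i) (R j i) = -1 ∧
    fform (canon 8) (R j i) = -1) ∧ R j 0 + R j 1 + R j 2 = EE 8 8 - (2 : ℤ) • canon 8 := by
  decide +kernel

/-- The invariant. -/
def inv (v L : DP 8) : ℤ := form v L * form v L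

theorem R_inv : ∀ j j' : Fin 4, fform (R j 0) (EE 8 8) * fform (R j 0) (EE 8 8) +
    fform (R j 1) (EE 8 8) * fform (R j 1) (EE 8 8) +
    fform (R j 2) (EE 8 8) * fform (R j 2) (EE 8 8) =
    fform (R j' 0) (EE 8 8) * fform (R j' 0) (EE 8 8) +
    fform (R j' 1) (EE 8 8) * fform (R j' 1) (EE 8 8) +
    fform (R j' 2) (EE 8 8) * fform (R j' 2) (EE 8 8) → j = j' := by
  decide +kernel

theorem exc_bound : ∀ u ∈ excs 8, -1 ≤ fform u (EE 8 8) ∧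
    (fform u (EE 8 8) = -1 → u = EE 8 8) := by
  decide +kernel

theorem L6_unique : ∀ u ∈ L6, fform u (EE 8 8) = 0 → fform u (EE 8 7) = 1 →
    u = ![1, 1, 0, 0, 0, 0, 0, 1, 0] := by
  decide +kernel

end K460.LatExc
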