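import Groth.Agent.Surf.K460.LatExc
import Mathlib.Data.Fin.Tuple.Sort

/-!
Triples of exceptional classes with sum `L - 2 K`.
-/

set_option autoImplicit false

namespace K460.LatTriples

open W4c3severiratdp K460.LatBase K460.LatWeyl K460.LatExc

theorem weyl_sum_eq (g : DP 8 ≃ₗ[ℤ] DP 8) (hg : IsWeyl g) (h8 : g (EE 8 8) = EE 8 8)
    (t : Fin 3 → DP 8) (hs : t 0 + t 1 + t 2 = EE 8 8 - (2 : ℤ) • canon 8) (j : Fin 4)
    (h0 : g (t 0) = R j 0) (h1 : g (t 1) = R j 1) : ∀ i, g (t i) = R j i := by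
  have e : t 2 = EE 8 8 - (2 : ℤ) • canon 8 - t 0 - t 1 := by
    rw [← hs]
    abel
  have h2 : g (t 2) = R j 2 := by
    rw [e, map_sub, map_sub, map_sub, map_smul, h8, hg.2, h0, h1, ← (R_good j).2]
    abel
  intro i
  fin_cases i
  · exact h0
  · exact h1
  · exact h2

theorem form_R1 : form (R 0 1) (EE 8 8) = -1 ∧ form (R 1 1) (EE 8 8) = 0 ∧
    form (R 2 1) (EE 8 8) = 1 ∧ form (EE 8 7) (EE 8 8) = 0 ∧
    form (EE 8 8) (EE 8 8) = -1 ∧ form (canon 8) (canon 8) = 1 ∧ form (canon 8) (EE 8 8) = -1 := by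
  simp only [← fform_eq]
  decide +kernel

theorem isExc_R (j : Fin 4) (i : Fin 3) : IsExc (R j i) := by
  have := (R_good j).1 i
  simp only [fform_eq] at this
  exact this

theorem caseA (t : Fin 3 → DP 8) (ht : ∀ i, IsExc (t i))
    (hs : t 0 + t 1 + t 2 = EE 8 8 - (2 : ℤ) • canon 8) (h0 : t 0 = EE 8 8)
    (h1 : -1 ≤ form (t 1) (EE 8 8)) (h2 : form (t 1) (EE 8 8) ≤ 1) :
    ∃ j : Fin 4, ∃ g : DP 8 ≃ₗ[ℤ] DP 8, IsWeyl g ∧ g (EE 8 8) = EE 8 8 ∧ ∀ i, g (t i) = R j i := by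
  have h3 : form (t 1) (EE 8 8) = -1 ∨ form (t 1) (EE 8 8) = 0 ∨ form (t 1) (EE 8 8) = 1 := by
    omega
  obtain ⟨f0, f1, f2, -⟩ := form_R1
  rcases h3 with h3 | h3 | h3
  · obtain ⟨g, hg, hg8, hg1⟩ := transitive_e8 (t 1) (R 0 1) (ht 1) (isExc_R 0 1)
      (by rw [h3, f0])
    exact ⟨0, g, hg, hg8, weyl_sum_eq g hg hg8 t hs 0 (by rw [h0, hg8]; rfl) hg1⟩
  · obtain ⟨g, hg, hg8, hg1⟩ := transitive_e8 (t 1) (R 1 1) (ht 1) (isExc_R 1 1)
      (by rw [h3, f1])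
    exact ⟨1, g, hg, hg8, weyl_sum_eq g hg hg8 t hs 1 (by rw [h0, hg8]; rfl) hg1⟩
  · obtain ⟨g, hg, hg8, hg1⟩ := transitive_e8 (t 1) (R 2 1) (ht 1) (isExc_R 2 1)
      (by rw [h3, f2])
    exact ⟨2, g, hg, hg8, weyl_sum_eq g hg hg8 t hs 2 (by rw [h0, hg8]; rfl) hg1⟩

theorem caseB (t : Fin 3 → DP 8) (ht : ∀ i, IsExc (t i))
    (hs : t 0 + t 1 + t 2 = EE 8 8 - (2 : ℤ) • canon 8) (h0 : form (t 0) (EE 8 8) = 0)
    (h1 : form (t 1) (EE 8 8) = 0) (h2 : form (t 2) (EE 8 8) = 1) :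
    ∃ j : Fin 4, ∃ g : DP 8 ≃ₗ[ℤ] DP 8, IsWeyl g ∧ g (EE 8 8) = EE 8 8 ∧ ∀ i, g (t i) = R j i := by
  obtain ⟨-, -, -, f78, f88, fKK, fK8⟩ := form_R1
  have x01 : form (t 1) (t 0) = 1 := by
    have e : t 2 = EE 8 8 - (2 : ℤ) • canon 8 - t 0 - t 1 := by
      rw [← hs]
      abel
    have e2 := (ht 2).1
    have e0 := (ht 0).1
    have e1 := (ht 1).1
    have k0 := (ht 0).2
    have k1 := (ht 1).2
    rw [e] at e2
    simp only [form_sub_left, form_sub_right, form_smul_left, form_smul_right] at e2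
    rw [form_comm (EE 8 8) (canon 8), form_comm (EE 8 8) (t 0), form_comm (EE 8 8) (t 1),
      form_comm (t 0) (canon 8), form_comm (t 1) (canon 8), form_comm (t 0) (t 1),
      f88, fKK, fK8, h0, h1, k0, k1, e0, e1] at e2
    linarith
  obtain ⟨g, hg, hg8, hg0⟩ := transitive_e8 (t 0) (EE 8 7) (ht 0)
    (isExc_R 1 1) (by rw [h0, f78])
  obtain ⟨g', hg', hg'8, hg'7, hg'L⟩ := exists_to_L6 (g (t 1)) (weyl_isExc hg (ht 1))
  have e8 : form (g' (g (t 1))) (EE 8 8) = 0 := by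
    have := hg'.1 (g (t 1)) (EE 8 8)
    rw [hg'8] at this
    rw [this]
    have := hg.1 (t 1) (EE 8 8)
    rw [hg8] at this
    rw [this, h1]
  have e7 : form (g' (g (t 1))) (EE 8 7) = 1 := by
    have := hg'.1 (g (t 1)) (EE 8 7)
    rw [hg'7] at this
    rw [this, ← hg0, hg.1, x01]
  have hu := L6_unique _ hg'L (by rw [fform_eq, e8]) (by rw [fform_eq, e7])
  refine ⟨3, g.trans g', weyl_trans hg hg', by rw [LinearEquiv.trans_apply, hg8, hg'8],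
    weyl_sum_eq _ (weyl_trans hg hg') (by rw [LinearEquiv.trans_apply, hg8, hg'8]) t hs 3 ?_ ?_⟩
  · rw [LinearEquiv.trans_apply, hg0, hg'7]
    rfl
  · rw [LinearEquiv.trans_apply, hu]
    rfl

theorem complete_e8 (t : Fin 3 → DP 8) (ht : ∀ i, IsExc (t i))
    (hs : t 0 + t 1 + t 2 = EE 8 8 - (2 : ℤ) • canon 8) :
    ∃ j : Fin 4, ∃ g : DP 8 ≃ₗ[ℤ] DP 8, IsWeyl g ∧ g (EE 8 8) = EE 8 8 ∧
      ∃ σ : Equiv.Perm (Fin 3), ∀ i, g (t (σ i)) = R j i := by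
  obtain ⟨-, -, -, f78, f88, fKK, fK8⟩ := form_R1
  set σ : Equiv.Perm (Fin 3) := Tuple.sort (fun i => form (t i) (EE 8 8)) with hσ
  have hmono := Tuple.monotone_sort (fun i => form (t i) (EE 8 8))
  have m01 : form (t (σ 0)) (EE 8 8) ≤ form (t (σ 1)) (EE 8 8) := hmono (by decide : (0 : Fin 3) ≤ 1)
  have m12 : form (t (σ 1)) (EE 8 8) ≤ form (t (σ 2)) (EE 8 8) := hmono (by decide : (1 : Fin 3) ≤ 2)
  have hs' : t (σ 0) + t (σ 1) + t (σ 2) = EE 8 8 - (2 : ℤ) • canon 8 := by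
    rw [← hs]
    have := Equiv.sum_comp σ t
    rw [Fin.sum_univ_three, Fin.sum_univ_three] at this
    exact this
  have hb := fun i => exc_bound (t i) ((mem_excs (le_refl 8)).mpr (ht i))
  simp only [fform_eq] at hb
  have hsum : form (t (σ 0)) (EE 8 8) + form (t (σ 1)) (EE 8 8) + form (t (σ 2)) (EE 8 8) = 1 := by
    rw [← form_add_left, ← form_add_left, hs', form_sub_left, form_smul_left, f88, fK8]
    norm_num
  have b0 := (hb (σ 0)).1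
  by_cases h0 : form (t (σ 0)) (EE 8 8) = -1
  · obtain ⟨j, g, hg, hg8, hj⟩ := caseA (t ∘ σ) (fun i => ht _) hs' ((hb (σ 0)).2 h0)
      (by simp only [Function.comp]; omega) (by simp only [Function.comp]; omega)
    exact ⟨j, g, hg, hg8, σ, hj⟩
  · obtain ⟨j, g, hg, hg8, hj⟩ := caseB (t ∘ σ) (fun i => ht _) hs'
      (by simp only [Function.comp]; omega) (by simp only [Function.comp]; omega)
      (by simp only [Function.comp]; omega)
    exact ⟨j, g, hg, hg8, σ, hj⟩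

theorem main (L : DP 8) (hL : IsExc L) :
    ∃ r : Fin 4 → (Fin 3 → DP 8),
      (∀ j, (∀ i, IsExc (r j i)) ∧ r j 0 + r j 1 + r j 2 = L - (2 : ℤ) • canon 8) ∧
      (∀ j j', (∃ g : DP 8 ≃ₗ[ℤ] DP 8, IsWeyl g ∧ g L = L ∧ ∃ σ : Equiv.Perm (Fin 3), ∀ i, g (r j (σ i)) = r j' i) → j = j') ∧
      ∀ t : Fin 3 → DP 8, (∀ i, IsExc (t i)) → t 0 + t 1 + t 2 = L - (2 : ℤ) • canon 8 →
        ∃ j, ∃ g : DP 8 ≃ₗ[ℤ] DP 8, IsWeyl g ∧ g L = L ∧ ∃ σ : Equiv.Perm (Fin 3), ∀ i, g (t (σ i)) = r j i := by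
  obtain ⟨k, hk, hkL⟩ := exists_to_e8 L hL
  have hkL' : k.symm (EE 8 8) = L := by rw [LinearEquiv.symm_apply_eq, hkL]
  have hks := weyl_symm hk
  refine ⟨fun j i => k.symm (R j i), fun j => ⟨fun i => weyl_isExc hks (isExc_R j i), ?_⟩, ?_, ?_⟩
  · rw [← map_add, ← map_add, (R_good j).2, map_sub, map_smul, hkL', hks.2]
  · rintro j j' ⟨g, hg, hgL, σ, hσ⟩
    have inv : ∀ i, form (R j (σ i)) (EE 8 8) = form (R j' i) (EE 8 8) := by
      intro i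
      rw [← hks.1, hkL', ← hg.1, hgL, hσ i, ← hkL', hks.1]
    refine R_inv j j' ?_
    simp only [fform_eq]
    have s1 := Equiv.sum_comp σ (fun i => form (R j i) (EE 8 8) * form (R j i) (EE 8 8))
    rw [Fin.sum_univ_three, Fin.sum_univ_three] at s1
    rw [← s1, inv, inv, inv]
  · intro t ht hs
    obtain ⟨j, g, hg, hg8, σ, hσ⟩ := complete_e8 (fun i => k (t i)) (fun i => weyl_isExc hk (ht i))
      (by rw [← map_add, ← map_add, hs, map_sub, map_smul, hkL, hk.2])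
    refine ⟨j, (k.trans g).trans k.symm, weyl_trans (weyl_trans hk hg) hks, ?_, σ, fun i => ?_⟩
    · rw [LinearEquiv.trans_apply, LinearEquiv.trans_apply, hkL, hg8, hkL']
    · rw [LinearEquiv.trans_apply, LinearEquiv.trans_apply, hσ i]

end K460.LatTriples
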