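import Groth.Agent.Surf.K460.SurfKit
import Groth.Agent.Surf.K460.Basic
import Groth.Agent.Surf.K455.SmoothRR
import Groth.Agent.Divis.NormAmple

/-!
# Del Pezzo surfaces, given `H¹(X, L⁻¹) = 0` for `L` ample

* `h0_anticanonical`: `h⁰(-K) = K² + 1`, `h^1(-K) = h^2(-K) = 0`.
* `curve_degree_one`: a curve of anticanonical degree one is a `(-1)`-curve or `K² = 1` and it is anticanonical.
-/

set_option autoImplicit false
universe u
open CategoryTheory CategoryTheory.Limits AlgebraicGeometry TopologicalSpace Opposite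

namespace Groth.Agent.Surf.K460.DelPezzo

open Groth.Agent Groth.Agent.Grpsch.PicGrp K464.Base K464.Curves SurfKit

/-- Kodaira vanishing for `H¹`. -/
def Kod (k : Type u) [Field k] (X : Scheme.{u}) [X.Over (Spec (CommRingCat.of k))] : Prop :=
  ∀ L Linv : X.Modules, CohB1.IsAmple L → ClSub.IsInverseOf Linv L → Subsingleton (Coh.HH X Linv 1)

/-- The data of a del Pezzo surface: canonical module `W` with ample inverse `D`. -/
structure DP (k : Type u) [Field k] (X : Scheme.{u}) [X.Over (Spec (CommRingCat.of k))] (W D : X.Modules) : Prop where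
  intro ::
  hdim : topologicalKrullDim X = 2
  hW : ExtPow.IsExtPow 2 (Omega.sheaf (X ↘ Spec (CommRingCat.of k))) W
  hWi : PicF.IsInvertible W
  hD : ClSub.IsInverseOf D W
  hamp : CohB1.IsAmple D

theorem DP.of (k : Type u) [Field k] (X : Scheme.{u}) [X.Over (Spec (CommRingCat.of k))] {W D : X.Modules}
    (hdim : topologicalKrullDim X = 2)
    (hW : ExtPow.IsExtPow 2 (Omega.sheaf (X ↘ Spec (CommRingCat.of k))) W)
    (hD : ClSub.IsInverseOf D W) (hamp : CohB1.IsAmple D) : DP k X W D :=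
  ⟨hdim, hW, K457.Form.isInvertible_of_inverse (K457.Form.inverse_symm hD), hD, hamp⟩

section

variable {k : Type u} [Field k] {X : Scheme.{u}} [X.Over (Spec (CommRingCat.of k))]

theorem h1_inv (hK : Kod k X) {L : X.Modules} (hL : CohB1.IsAmple L) : h k X 1 (mk L hL.1)⁻¹ = 0 := by
  obtain ⟨L', hL', e⟩ := exists_inverse hL.1
  rw [← K457.Form.mk_eq_inv hL.1 hL' e, h_mk]
  have := hK L L' hL (K457.Form.inverse_symm e)
  exact Module.finrank_zero_of_subsingleton

theorem h1_pow_inv (hK : Kod k X) {L : X.Modules} (hL : CohB1.IsAmple L) {n : ℕ} (hn : 0 < n) :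
    h k X 1 (mk L hL.1 ^ n)⁻¹ = 0 := by
  have h1 := h1_inv hK (Divis.NormAmple.isAmple_tensorPow hL hn)
  rwa [mk_tensorPow hL.1 n] at h1

variable {W D : X.Modules} (P : DP k X W D)

include P in
theorem DP.mk_D : mk D P.hamp.1 = (mk W P.hWi)⁻¹ := K457.Form.mk_eq_inv' P.hamp.1 P.hWi P.hD

variable [IsIntegral X] [IsProper (X ↘ Spec (CommRingCat.of k))] [Smooth (X ↘ Spec (CommRingCat.of k))]

include P

theorem DP.relDim : SmoothOfRelativeDimension 2 (X ↘ Spec (CommRingCat.of k)) :=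
  Groth.Agent.Picfga.CurveRelDim.smoothOfRelativeDimension_of_topologicalKrullDim_eq k X
    (X ↘ Spec (CommRingCat.of k)) 2 P.hdim

/-- `K² > 0`. -/
theorem DP.deg_pos : 0 < dot k X (mk W P.hWi) (mk W P.hWi) := by
  have h1 := dot_self_pos k P.hdim P.hamp
  rwa [P.mk_D, dot_inv_inv k X P.hdim.le] at h1

theorem DP.h0_eq_zero_of_pos {c : Pic X} (hc : 0 < dot k X c (mk W P.hWi)) : h k X 0 c = 0 := by
  refine h0_eq_zero_of_neg k P.hdim P.hamp ?_
  rw [P.mk_D, dot_inv_right k X P.hdim.le]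
  linarith

theorem DP.h2_eq_zero {c : Pic X} (hc : dot k X c (mk W P.hWi) < dot k X (mk W P.hWi) (mk W P.hWi)) :
    h k X 2 c = 0 := by
  have := P.relDim
  rw [h_dual k P.hW P.hWi c 0 2 rfl]
  refine P.h0_eq_zero_of_pos ?_
  rw [dot_mul_left k X P.hdim.le, dot_inv_left k X P.hdim.le]
  linarith

theorem DP.h1_W (hK : Kod k X) : h k X 1 (mk W P.hWi) = 0 := by
  have h1 := h1_inv hK P.hamp
  rwa [P.mk_D, inv_inv] at h1

theorem DP.h1_one (hK : Kod k X) : h k X 1 1 = 0 := by
  have := P.relDim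
  rw [h_dual k P.hW P.hWi 1 1 1 rfl, inv_one, mul_one]
  exact P.h1_W hK

theorem DP.h2_one : h k X 2 1 = 0 := by
  refine P.h2_eq_zero ?_
  rw [dot_one_left]
  exact P.deg_pos

end

section

variable {k : Type u} [Field k] [IsAlgClosed k] {X : Scheme.{u}} [X.Over (Spec (CommRingCat.of k))]
  {W D : X.Modules} (P : DP k X W D)
  [IsIntegral X] [IsProper (X ↘ Spec (CommRingCat.of k))] [Smooth (X ↘ Spec (CommRingCat.of k))]

variable (k X) in
omit [Smooth (X ↘ Spec (CommRingCat.of k))] in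
theorem h0_one : h k X 0 1 = 1 :=
  Groth.Agent.VarietyA.CurveFin.finrank_h0_structure k X

include P

theorem DP.chi_one_eq (hK : Kod k X) : chi k X 1 = 1 := by
  rw [chi_eq k P.hdim.le, h0_one k X, P.h1_one hK, P.h2_one]
  norm_num

/-- Riemann–Roch. -/
theorem DP.rr' (hK : Kod k X) (c : Pic X) : 2 * chi k X c = dot k X c c - dot k X c (mk W P.hWi) + 2 := by
  have := P.relDim
  rw [rr k P.hW P.hWi P.hdim.le c, P.chi_one_eq hK]
  ring

/-- **The anticanonical system**: `h⁰(-K) = K² + 1`, `h¹ = h² = 0`. -/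
theorem DP.h0_anticanonical (hK : Kod k X) :
    (h k X 0 (mk W P.hWi)⁻¹ : ℤ) = dot k X (mk W P.hWi) (mk W P.hWi) + 1 ∧
      h k X 1 (mk W P.hWi)⁻¹ = 0 ∧ h k X 2 (mk W P.hWi)⁻¹ = 0 := by
  have := P.relDim
  have hd := P.deg_pos
  have h2 : h k X 2 (mk W P.hWi)⁻¹ = 0 := by
    refine P.h2_eq_zero ?_
    rw [dot_inv_left k X P.hdim.le]
    linarith
  have h1 : h k X 1 (mk W P.hWi)⁻¹ = 0 := by
    rw [h_dual k P.hW P.hWi _ 1 1 rfl]
    have h3 := h1_pow_inv hK P.hamp (n := 2) two_pos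
    rw [P.mk_D, inv_pow, inv_inv, pow_two] at h3
    rwa [inv_inv]
  refine ⟨?_, h1, h2⟩
  have h3 := P.rr' hK (mk W P.hWi)⁻¹
  rw [chi_eq k P.hdim.le, h1, h2, dot_inv_inv k X P.hdim.le, dot_inv_left k X P.hdim.le] at h3
  push_cast at h3
  linarith

/-- A curve of anticanonical degree one is a `(-1)`-curve, or `K² = 1` and it is anticanonical. -/
theorem DP.curve_degree_one (hK : Kod k X) (C : X.IdealSheafData) (hC : IsIntegral C.subscheme)
    (hC1 : topologicalKrullDim (C.support : Set X) = 1)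
    (hdeg : FGA.intNum k X 2 ![ClSub.idealMod C, W] (Coh.structureModule X) = 1) :
    (FGA.intNum k X 2 ![ClSub.idealMod C, ClSub.idealMod C] (Coh.structureModule X) = -1 ∧
        Subsingleton (Coh.HH C.subscheme (Coh.structureModule C.subscheme) 1)) ∨
      (FGA.intNum k X 2 ![W, W] (Coh.structureModule X) = 1 ∧ Nonempty (ClSub.idealMod C ≅ W)) := by
  have := P.relDim
  have hC1' : topologicalKrullDim C.subscheme = 1 := by
    rw [Basic.dim_subscheme, hC1]
  have hcar := Basic.isEffCartier_of_curve k P.hdim C hC hC1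
  have hinv : PicF.IsInvertible (ClSub.idealMod C) := Dix.IdealModCartier.isInvertible_idealMod hcar
  have hker : C.subschemeι.ker = C := C.ker_subschemeι
  letI : C.subscheme.Over (Spec (CommRingCat.of k)) := ⟨C.subschemeι ≫ (X ↘ (Spec (CommRingCat.of k)))⟩
  have : IsProper (C.subscheme ↘ (Spec (CommRingCat.of k))) :=
    inferInstanceAs (IsProper (C.subschemeι ≫ (X ↘ (Spec (CommRingCat.of k)))))
  have := Fga.IntAdd.isNoetherian k C.subscheme
  have hadj := K455.SmoothRR.adjunction k P.hW P.hdim.le C.subschemeι rfl (by rw [hker]; exact hinv)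
  rw [Fga.IntAdd.eulerCharLE_eq k C.subscheme 2 (hC1'.le.trans (by norm_num)),
    Basic.euler_structure k C.subscheme hC1'.le] at hadj
  rw [hker, hdeg] at hadj
  set p : ℕ := Module.finrank k (Coh.HH C.subscheme (Coh.structureModule C.subscheme) 1) with hp
  by_cases hp0 : p = 0
  · left
    refine ⟨?_, ?_⟩
    · rw [hp0] at hadj
      push_cast at hadj
      linarith
    · have hfin : Module.Finite k (Coh.HH C.subscheme (Coh.structureModule C.subscheme) 1) :=
        Fga.HodgeSec.finite_HH k Fdesc.LocGen.isInvertible_structureModule 1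
      exact Module.finrank_zero_iff.mp (hp.symm.trans hp0)
  · right
    have hp1 : (1 : ℤ) ≤ p := by exact_mod_cast Nat.one_le_iff_ne_zero.mpr hp0
    rw [intNum_eq_dot k X P.hdim.le hinv hinv] at hadj
    rw [intNum_eq_dot k X P.hdim.le hinv P.hWi] at hdeg
    rw [intNum_eq_dot k X P.hdim.le P.hWi P.hWi]
    set w := mk W P.hWi with hw
    set γ := mk (ClSub.idealMod C) hinv with hγ
    have hd : 0 < dot k X w w := P.deg_pos
    have hod := hodge k P.hdim P.hamp γ
    rw [P.mk_D, ← hw, dot_inv_inv k X P.hdim.le, dot_inv_left k X P.hdim.le, dot_comm k X w γ, hdeg] at hod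
    have hγγ : dot k X γ γ = 2 * p - 1 := by linarith
    have hγ1 : 1 ≤ dot k X γ γ := by linarith
    have hd1 : dot k X w w = 1 := by nlinarith
    have hγ2 : dot k X γ γ = 1 := by nlinarith
    refine ⟨hd1, ?_⟩
    have hM1 : dot k X (γ * w⁻¹) w = 0 := by
      rw [dot_mul_left k X P.hdim.le, dot_inv_left k X P.hdim.le, hdeg, hd1]; ring
    have hM2 : dot k X (γ * w⁻¹) (γ * w⁻¹) = 0 := by
      rw [dot_mul_right k X P.hdim.le, dot_inv_right k X P.hdim.le, hM1, dot_mul_left k X P.hdim.le,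
        dot_inv_left k X P.hdim.le, dot_comm k X w γ, hdeg, hγ2]; ring
    have hchi := P.rr' hK (γ * w⁻¹)
    have h2 : h k X 2 (γ * w⁻¹) = 0 := by
      refine P.h2_eq_zero ?_
      rw [← hw, hM1]; exact hd
    rw [← hw, hM1, hM2, chi_eq k P.hdim.le, h2] at hchi
    have h0 : 0 < h k X 0 (γ * w⁻¹) := by
      have := Int.natCast_nonneg (h k X 1 (γ * w⁻¹))
      push_cast at hchi
      have h3 : (0 : ℤ) < h k X 0 (γ * w⁻¹) := by linarith
      exact_mod_cast h3
    have h4 := eq_one_of_dot_eq_zero k P.hdim P.hamp h0 (by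
      rw [P.mk_D, ← hw, dot_inv_right k X P.hdim.le, hM1, neg_zero])
    rw [mul_inv_eq_one] at h4
    exact (mk_eq_iff _ _).mp h4

end

end Groth.Agent.Surf.K460.DelPezzo
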