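import Groth.Agent.AdjLin.K801.KV
import Groth.Agent.Surf.K460.DelPezzo

/-!
# `H¹(X, L⁻¹) = 0` for `L` ample on a smooth proper surface in characteristic zero
-/

set_option autoImplicit false
universe u
open CategoryTheory CategoryTheory.Limits AlgebraicGeometry TopologicalSpace Opposite

namespace Groth.Agent.Surf.K460.KodZero

open Groth.Agent Groth.Agent.Grpsch.PicGrp K464.Base K464.Curves SurfKit DelPezzo

theorem nfree_top {X : Scheme.{u}} : K801.CharP.NFree 1 (⊤ : X.IdealSheafData) := by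
  intro U a x hx h π hπ hd
  have h1 : Ideal.span {a} = (⊤ : Ideal Γ(X, U.1)) := by
    rw [← h]; simp
  rw [Ideal.span_singleton_eq_top] at h1
  have h2 : IsUnit (X.presheaf.germ U.1 x hx a) := h1.map (X.presheaf.germ U.1 x hx).hom
  rw [pow_one] at hd
  exact hπ.not_unit (isUnit_of_dvd_unit hd h2)

theorem kod (k : Type u) [Field k] [IsAlgClosed k] [CharZero k] (X : Scheme.{u})
    [X.Over (Spec (CommRingCat.of k))] [IsIntegral X] [IsProper (X ↘ Spec (CommRingCat.of k))]
    [Smooth (X ↘ Spec (CommRingCat.of k))] (hdim : topologicalKrullDim X = 2) : Kod k X := by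
  intro L Linv hL hLi
  refine K801.KV.vanish (k := k) (N := 2) le_rfl hdim hLi (n := 1) le_rfl (D := ⊤) Divis.EffCartier.isEff_top nfree_top ?_
  have hT : PicF.IsInvertible (ClSub.idealMod (⊤ : X.IdealSheafData)) :=
    Dix.IdealModCartier.isInvertible_idealMod Divis.EffCartier.isEff_top
  have h1 : mk (CohB1.tensorMod (CohB1.tensorPow L 1) (ClSub.idealMod (⊤ : X.IdealSheafData)))
      (Fdesc.LocGen.isInvertible_tensorMod (Fdesc.LocGen.isInvertible_tensorPow hL.1 1) hT) = mk L hL.1 := by
    rw [← mk_mul_mk (Fdesc.LocGen.isInvertible_tensorPow hL.1 1) hT, mk_tensorPow, pow_one]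
    rw [show mk (ClSub.idealMod (⊤ : X.IdealSheafData)) hT = 1 from ic_top, mul_one]
  obtain ⟨e⟩ := (mk_eq_iff _ _).mp h1
  exact S2329.isAmple_of_iso e.symm hL

end Groth.Agent.Surf.K460.KodZero
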