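import Groth.Agent.Surf.K460.DelPezzo
import Groth.Agent.Dix.Cast1
import Groth.Agent.Dix.Cast5
import Groth.Agent.Dix.CastG70
import Groth.Agent.VarietyA.Dim1GlobGen
import Groth.Agent.VarietyB.GenLocusTensor
import Groth.Agent.Flat2F.HHSeq
import Groth.Agent.S1533
import Groth.Agent.S1535
import Groth.Agent.Surf.K458.Curve

/-!
# The anticanonical system of a del Pezzo surface of degree two is base point free
-/

set_option autoImplicit false
universe u
open CategoryTheory CategoryTheory.Limits AlgebraicGeometry TopologicalSpace Opposite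

namespace Groth.Agent.Surf.K460.DPGlob

open Groth.Agent Groth.Agent.Grpsch.PicGrp K464.Base K464.Curves SurfKit DelPezzo
  Groth.Agent.Fdesc.LocGen

/-- A section of an inverse of an effective Cartier ideal, generating off the divisor. -/
theorem exists_section_off {X : Scheme.{u}} {F : X.IdealSheafData} (hF : BlowUp.IsEffCartierIdeal F)
    {L : X.Modules} (hL : PicF.IsInvertible L) (h : mk L hL = (ic F hF)⁻¹) {x : X} (hx : x ∉ F.support) :
    ∃ s : Coh.structureModule X ⟶ L, x ∈ CohB1.genLocus L s := by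
  have h1 := Dix.Cast5.exists_section F.subschemeι (by rw [F.ker_subschemeι]; exact hF)
  rw [F.ker_subschemeι] at h1
  obtain ⟨s, hs⟩ := h1
  rw [ic, inv_mk, mk_eq_iff] at h
  obtain ⟨e⟩ := h
  refine ⟨s ≫ e.inv, ?_⟩
  rw [Ega2.Weight.genLocus_comp]
  have h2 : x ∈ (CohB1.genLocus _ s : Set X) := by
    rw [hs, F.range_subschemeι]
    exact hx
  exact h2

variable {k : Type u} [Field k] [IsAlgClosed k] {X : Scheme.{u}} [X.Over (Spec (CommRingCat.of k))]
  {W D : X.Modules} (P : DP k X W D)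
  [IsIntegral X] [IsProper (X ↘ Spec (CommRingCat.of k))] [Smooth (X ↘ Spec (CommRingCat.of k))]

include P in
/-- `H¹(W ⊗ O(-Γ)) = 0` for an integral curve. -/
theorem h1_W_mul_ic (hK : Kod k X) {Γ : X.IdealSheafData} (hΓ : IsCurve Γ) (hΓe : BlowUp.IsEffCartierIdeal Γ) :
    h k X 1 (ic Γ hΓe * mk W P.hWi) = 0 := by
  have hneg : degOn k X Γ (mk W P.hWi) < 0 := by
    have h1 := degOn_pos_of_ample k hΓ P.hamp.1 P.hamp
    rw [P.mk_D, degOn_inv k hΓ] at h1
    linarith
  have := hΓ.integral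
  have h0 : Subsingleton (Coh.HH Γ.subscheme ((Scheme.Modules.pullback Γ.subschemeι).obj W) 0) := by
    by_contra hn
    rw [not_subsingleton_iff_nontrivial] at hn
    have hs : K458.Ram.HasSec (CohB1.tensorMod W (ClSub.quotMod Γ)) :=
      (K458.Curve.hhEquiv k Γ P.hWi 0).toEquiv.nontrivial
    have h1 := K458.Curve.euler_le_of_hasSec k Γ hΓ.dim P.hWi hs
    rw [degOn_mk, euler_congr k X (Ega2.Tens.swap (ClSub.quotMod Γ) W)] at hneg
    linarith
  rw [ic, mk_mul_mk, h_mk]
  have hs := Dix.Cast1.restrictSeq_shortExact Γ.subschemeι P.hWi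
  have h3 := Dix.Cast1.subsingleton_HH_push Γ.subschemeι _ 0 h0
  have h2 : Subsingleton (Coh.HH X W 1) := subsingleton_of_h_eq_zero k X P.hWi (P.h1_W hK)
  have h4 : Subsingleton (Coh.HH X (CohB1.tensorMod (ClSub.idealMod Γ.subschemeι.ker) W) 1) :=
    Flat2F.HHSeq.subsingleton_HH_left hs 0 h3 h2
  rw [Γ.ker_subschemeι] at h4
  exact Module.finrank_zero_of_subsingleton

theorem exists_curve_mul (k : Type u) [Field k] {X : Scheme.{u}} [X.Over (Spec (CommRingCat.of k))]
    [IsIntegral X] [IsProper (X ↘ Spec (CommRingCat.of k))] [Smooth (X ↘ Spec (CommRingCat.of k))]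
    (hdim : topologicalKrullDim X = 2)
    {F : X.IdealSheafData} (hF : BlowUp.IsEffCartierIdeal F) {x : X} (hx : x ∈ F.support) :
    ∃ (E J : X.IdealSheafData) (_ : IsCurve E) (hEe : BlowUp.IsEffCartierIdeal E) (hJ : BlowUp.IsEffCartierIdeal J),
      x ∈ E.support ∧ ic F hF = ic E hEe * ic J hJ := by
  have : IsNoetherian X := CurvesB.CurveRR.isNoetherian_of_proper k X
  obtain ⟨E, hE, hFE, hxE⟩ := K464.Comp.exists_curve_le (X ↘ Spec (CommRingCat.of k)) hdim hF x hx
  have hEe := isEff_of_isCurve k (X ↘ Spec (CommRingCat.of k)) hdim (fun x => S1535.result k X x) hE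
  obtain ⟨J, hJ, hmul⟩ := Divis.ColonIdeal.exists_mul_eq hEe hF hFE
  refine ⟨E, J, hE, hEe, hJ, hxE, ?_⟩
  rw [← ic_mul hEe hJ]
  exact ic_congr _ _ hmul.symm

theorem curve_ne_top {E : X.IdealSheafData} (hE : IsCurve E) : E ≠ ⊤ := by
  rintro rfl
  have := gp_mem hE
  rw [Scheme.IdealSheafData.support_top] at this
  exact this

include P in
/-- `H¹(O(J)) = 0` for an effective divisor of anticanonical degree at most one. -/
theorem h1_eff (hK : Kod k X) {J : X.IdealSheafData} (hJ : BlowUp.IsEffCartierIdeal J)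
    (hj : dot k X (ic J hJ)⁻¹ (mk D P.hamp.1) ≤ 1) : h k X 1 (ic J hJ)⁻¹ = 0 := by
  by_cases hT : J = ⊤
  · subst hT
    rw [show ic (⊤ : X.IdealSheafData) hJ = 1 from ic_top, inv_one]
    exact P.h1_one hK
  · have hne : (J.support : Set X).Nonempty := by
      by_contra hne
      apply hT
      rw [← Scheme.IdealSheafData.support_eq_bot_iff]
      apply TopologicalSpace.Closeds.ext
      rw [Set.not_nonempty_iff_eq_empty.1 hne]
      rfl
    obtain ⟨x, hx⟩ := hne
    obtain ⟨Γ, J', hΓ, hΓe, hJ', -, hic⟩ := exists_curve_mul k P.hdim hJ hx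
    have h1 := dot_eff k P.hdim P.hamp hΓe
    have h2 := dot_eff k P.hdim P.hamp hJ'
    rw [hic, mul_inv, dot_mul_left k X P.hdim.le] at hj
    have h3 : dot k X (ic Γ hΓe)⁻¹ (mk D P.hamp.1) ≠ 0 := fun h0 => curve_ne_top hΓ (h1.2 h0)
    have h4 : J' = ⊤ := h2.2 (by have := h1.1; have := h2.1; omega)
    subst h4
    have := P.relDim
    rw [hic, show ic (⊤ : X.IdealSheafData) hJ' = 1 from ic_top, mul_one,
      h_dual k P.hW P.hWi _ 1 1 rfl, inv_inv, mul_comm]
    exact h1_W_mul_ic P hK hΓ hΓe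

include P in
/-- The degree bound on curves. -/
theorem two_genus_le (hd : dot k X (mk W P.hWi) (mk W P.hWi) = 2) {E : X.IdealSheafData} (hE : IsCurve E)
    (hEe : BlowUp.IsEffCartierIdeal E) (he : dot k X (ic E hEe)⁻¹ (mk D P.hamp.1) ≤ 2) :
    letI := overC k X E
    2 * (Curv2.genus k E.subscheme : ℤ) ≤
      Curv2.deg k E.subscheme ((Scheme.Modules.pullback E.subschemeι).obj D) 1 := by
  letI := overC k X E
  have := P.relDim
  have hdimE : topologicalKrullDim E.subscheme = 1 := (dim_sub X E).trans hE.dim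
  have hker : E.subschemeι.ker = E := E.ker_subschemeι
  have := isProper_sub k X E
  have := hE.integral
  have := Fga.IntAdd.isNoetherian k E.subscheme
  have hinv := Dix.IdealModCartier.isInvertible_idealMod hEe
  have hadj := K455.SmoothRR.adjunction k P.hW P.hdim.le E.subschemeι rfl (by rw [hker]; exact hinv)
  rw [Fga.IntAdd.eulerCharLE_eq k E.subscheme 2 (hdimE.le.trans (by norm_num)),
    Basic.euler_structure k E.subscheme hdimE.le] at hadj
  rw [hker, intNum_eq_dot k X P.hdim.le hinv hinv, intNum_eq_dot k X P.hdim.le hinv P.hWi] at hadj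
  have hod := hodge k P.hdim P.hamp (ic E hEe)
  have h1 := dot_eff k P.hdim P.hamp hEe
  have h3 : dot k X (ic E hEe)⁻¹ (mk D P.hamp.1) ≠ 0 := fun h0 => curve_ne_top hE (h1.2 h0)
  have hdeg := degOn_eq_deg k X E P.hamp.1
  rw [degOn_eq_neg_dot k X hEe] at hdeg
  have h1' := h1.1
  rw [← hdeg]
  rw [P.mk_D, dot_inv_inv k X P.hdim.le, dot_inv_left k X P.hdim.le, dot_comm k X (mk W P.hWi) (ic E hEe), hd] at hod
  rw [P.mk_D, dot_inv_inv k X P.hdim.le] at h1' h3 he
  rw [P.mk_D, dot_inv_right k X P.hdim.le, neg_neg]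
  change dot k X (ic E hEe) (ic E hEe) - dot k X (ic E hEe) (mk W P.hWi) = _ at hadj
  unfold Curv2.genus
  set g : ℕ := Module.finrank k (Coh.HH E.subscheme (Coh.structureModule E.subscheme) 1)
  set a := dot k X (ic E hEe) (ic E hEe)
  set e := dot k X (ic E hEe) (mk W P.hWi)
  have h5 : e = 1 ∨ e = 2 := by omega
  rcases h5 with h5 | h5
  · rw [h5] at hod hadj ⊢
    norm_num at hod
    omega
  · rw [h5] at hod hadj ⊢
    norm_num at hod
    omega

include P in
/-- **Base point freeness in degree two.** -/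
theorem exists_gen (hK : Kod k X) (hd : dot k X (mk W P.hWi) (mk W P.hWi) = 2) (x : X) :
    ∃ s : Coh.structureModule X ⟶ D, x ∈ CohB1.genLocus D s := by
  have h0 : 0 < h k X 0 (mk D P.hamp.1) := by
    have h1 := (P.h0_anticanonical hK).1
    rw [← P.mk_D, hd] at h1
    omega
  obtain ⟨F, hF, hδ⟩ := exists_eff_of_h0_pos k h0
  by_cases hx : x ∈ F.support
  swap
  · exact exists_section_off hF P.hamp.1 hδ hx
  obtain ⟨E, J, hE, hEe, hJ, hxE, hic⟩ := exists_curve_mul k P.hdim hF hx
  have hsum : dot k X (ic E hEe)⁻¹ (mk D P.hamp.1) + dot k X (ic J hJ)⁻¹ (mk D P.hamp.1) = 2 := by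
    rw [← dot_mul_left k X P.hdim.le, ← mul_inv, ← hic, ← hδ, P.mk_D, dot_inv_inv k X P.hdim.le, hd]
  have h1 := dot_eff k P.hdim P.hamp hEe
  have h2 := dot_eff k P.hdim P.hamp hJ
  have h3 : dot k X (ic E hEe)⁻¹ (mk D P.hamp.1) ≠ 0 := fun h0 => curve_ne_top hE (h1.2 h0)
  have h1' := h1.1
  have h2' := h2.1
  -- vanishing
  have hM : h k X 1 (ic E hEe * mk D P.hamp.1) = 0 := by
    rw [hδ, hic, mul_inv, mul_inv_cancel_left]
    exact h1_eff P hK hJ (by omega)
  have hinv := Dix.IdealModCartier.isInvertible_idealMod hEe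
  have hM' : Subsingleton (Coh.HH X (CohB1.tensorMod (ClSub.idealMod E) D) 1) :=
    subsingleton_of_h_eq_zero k X (isInvertible_tensorMod hinv P.hamp.1) hM
  -- generation on the curve
  letI := overC k X E
  have hdimE : topologicalKrullDim E.subscheme = 1 := (dim_sub X E).trans hE.dim
  have := isProper_sub k X E
  have := hE.integral
  have hD' : PicF.IsInvertible ((Scheme.Modules.pullback E.subschemeι).obj D) :=
    isInvertible_pullback _ P.hamp.1
  have hgg := S1533.result k E.subscheme hdimE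
    (VarietyA.CurveFin.finrank_h0_structure k E.subscheme) _ hD' (two_genus_le P hd hE hEe (by omega))
  obtain ⟨y, hy⟩ : x ∈ Set.range E.subschemeι := by
    rw [E.range_subschemeι]; exact hxE
  obtain ⟨σ, hσ⟩ := VarietyB.GenLocusTensor.exists_mem_genLocus hD' hgg y
  obtain ⟨t, ht⟩ := Dix.Cast1.wp1_lift E.subschemeι D P.hamp.1
    (by rw [E.ker_subschemeι]; exact hM') (sec σ ⊤)
  refine ⟨homOf t, ?_⟩
  have h4 := Ega2.Weight.genLocus_pullHom E.subschemeι P.hamp.1 (homOf t)
  have h5 : Ega2.Weight.pullHom E.subschemeι (homOf t) = σ := by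
    unfold Ega2.Weight.pullHom
    rw [sec_homOf, res_refl]
    change homOf (pullTop E.subschemeι t) = σ
    rw [ht, homOf_sec]
  rw [h5] at h4
  have h6 : y ∈ E.subschemeι ⁻¹ᵁ CohB1.genLocus D (homOf t) := h4 ▸ hσ
  rw [← hy]
  exact h6

include P in
theorem isGloballyGenerated (hK : Kod k X) (hd : dot k X (mk W P.hWi) (mk W P.hWi) = 2) :
    Curv2.IsGloballyGenerated D := by
  choose f hf using exists_gen P hK hd
  exact VarietyA.Dim1GlobGen.isGloballyGenerated (ι := X) f (fun x => ⟨x, hf x⟩)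

end Groth.Agent.Surf.K460.DPGlob
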