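import Groth.Agent.Surf.K460.YQuo

/-!
# Degree two, algebraic part
-/

set_option autoImplicit false

namespace Groth.Agent.Surf.K460.PicZ.Gr

open Module MvPolynomial

variable {k L : Type*} [Field k] [Field L] [Algebra k L] {G : Gr k L}

/-- `f` is a form of degree `n` in `x`. -/
def IsF (x : Fin 3 → L) (n : ℕ) (f : L) : Prop := ∃ p : MvPolynomial (Fin 3) k, p.IsHomogeneous n ∧ aeval x p = f

theorem IsF.add {x : Fin 3 → L} {n : ℕ} {f g : L} (hf : IsF (k := k) x n f) (hg : IsF (k := k) x n g) :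
    IsF (k := k) x n (f + g) := by
  obtain ⟨p, hp, rfl⟩ := hf
  obtain ⟨q, hq, rfl⟩ := hg
  exact ⟨p + q, hp.add hq, map_add _ _ _⟩

theorem IsF.mul {x : Fin 3 → L} {m n : ℕ} {f g : L} (hf : IsF (k := k) x m f) (hg : IsF (k := k) x n g) :
    IsF (k := k) x (m + n) (f * g) := by
  obtain ⟨p, hp, rfl⟩ := hf
  obtain ⟨q, hq, rfl⟩ := hg
  exact ⟨p * q, hp.mul hq, map_mul _ _ _⟩

theorem IsF.smul {x : Fin 3 → L} {n : ℕ} {f : L} (c : k) (hf : IsF (k := k) x n f) : IsF (k := k) x n (c • f) := by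
  obtain ⟨p, hp, rfl⟩ := hf
  exact ⟨C c * p, hp.C_mul c, by rw [map_mul, aeval_C, Algebra.smul_def]⟩

theorem IsF.X (x : Fin 3 → L) (i : Fin 3) : IsF (k := k) x 1 (x i) := ⟨MvPolynomial.X i, isHomogeneous_X _ _, aeval_X _ _⟩

theorem IsF.pow (x : Fin 3 → L) (i : Fin 3) (n : ℕ) : IsF (k := k) x n (x i ^ n) :=
  ⟨MvPolynomial.X i ^ n, isHomogeneous_X_pow _ _, by rw [map_pow, aeval_X]⟩

theorem isF_zero (x : Fin 3 → L) (n : ℕ) : IsF (k := k) x n 0 := ⟨0, isHomogeneous_zero _ _ _, map_zero _⟩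

theorem isF_one {x : Fin 3 → L} (hx : ∀ i, x i ∈ G.V 1) (hl : LinearIndependent k x) (h1 : finrank k (G.V 1) = 3)
    {f : L} (hf : f ∈ G.V 1) : ∃ c : Fin 3 → k, f = ∑ i, c i • x i := by
  have := G.fin 1
  have hspan : Submodule.span k (Set.range x) = G.V 1 := by
    refine Submodule.eq_of_le_of_finrank_eq (Submodule.span_le.2 (by rintro _ ⟨i, rfl⟩; exact hx i)) ?_
    rw [finrank_span_eq_card hl, h1, Fintype.card_fin]
  rw [← hspan, Submodule.mem_span_range_iff_exists_fun] at hf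
  obtain ⟨c, hc⟩ := hf
  exact ⟨c, hc.symm⟩

theorem isF_mem {x : Fin 3 → L} (hx : ∀ i, x i ∈ G.V 1) {n : ℕ} {f : L} (hf : IsF (k := k) x n f) :
    f ∈ G.I2 (x 0) (x 1) n ⊔ Submodule.span k {x 2 ^ n} := by
  obtain ⟨p, hp, rfl⟩ := hf
  rw [aeval_def, eval₂_eq']
  refine Submodule.sum_mem _ fun d hd => ?_
  have h1 : d 0 + d 1 + d 2 = n := by
    have h2 : Finsupp.degree d = n := by
      rw [Finsupp.degree_eq_weight_one]
      exact hp (mem_support_iff.1 hd)
    rw [← h2, Finsupp.degree_eq_sum, Fin.sum_univ_three]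
  rw [← Algebra.smul_def, Fin.prod_univ_three]
  refine Submodule.smul_mem _ _ ?_
  have hmem : ∀ (a b c : ℕ), x 0 ^ a * x 1 ^ b * x 2 ^ c ∈ G.V ((a + b + c : ℕ) : ℤ) := fun a b c =>
    mul_mem' (mul_mem' (pow_mem (hx 0) a) (pow_mem (hx 1) b) rfl) (pow_mem (hx 2) c) (by push_cast; ring)
  rcases Nat.eq_zero_or_pos (d 0) with h0 | h0
  · rcases Nat.eq_zero_or_pos (d 1) with h2 | h2
    · rw [h0, h2, pow_zero, pow_zero, one_mul, one_mul, show d 2 = n by omega]
      exact Submodule.mem_sup_right (Submodule.mem_span_singleton_self _)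
    · refine Submodule.mem_sup_left ⟨0, zero_mem _, x 0 ^ (d 0) * x 1 ^ (d 1 - 1) * x 2 ^ (d 2), ?_, ?_⟩
      · convert hmem (d 0) (d 1 - 1) (d 2) using 2
        omega
      · obtain ⟨m, hm⟩ := Nat.exists_eq_add_of_le h2
        rw [hm, Nat.add_sub_cancel_left, pow_add]
        ring
  · refine Submodule.mem_sup_left ⟨x 0 ^ (d 0 - 1) * x 1 ^ (d 1) * x 2 ^ (d 2), ?_, 0, zero_mem _, ?_⟩
    · convert hmem (d 0 - 1) (d 1) (d 2) using 2
      omega
    · obtain ⟨m, hm⟩ := Nat.exists_eq_add_of_le h0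
      rw [hm, Nat.add_sub_cancel_left, pow_add]
      ring

/-- No surface of degree two. -/
theorem false_of_two [IsAlgClosed k] [CharZero k] (h0 : finrank k (G.V 0) = 1) (h1 : finrank k (G.V 1) = 3)
    (h2 : finrank k (G.V 2) = 7) (h3 : finrank k (G.V 3) = 13) (h4 : finrank k (G.V 4) = 21)
    {x : Fin 3 → L} (hx : ∀ i, x i ∈ G.V 1) (hl : LinearIndependent k x)
    (hK : ∀ (n : ℤ) (f : L), f ∈ G.V n → x 2 * f ∈ G.I2 (x 0) (x 1) (n + 1) → f ∈ G.I2 (x 0) (x 1) n) : False := by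
  have hx0 : ∀ i, x i ≠ 0 := hl.ne_zero
  have hl' := Fintype.linearIndependent_iff.1 hl
  have hxy : x 1 / x 0 ∉ G.V 0 := by
    intro h
    obtain ⟨c, hc⟩ := smul_of_div (hx0 0) h
    have := hl' ![c, -1, 0] (by
      rw [Fin.sum_univ_three]
      simp only [Matrix.cons_val_zero, Matrix.cons_val_one, Matrix.cons_val_two, Matrix.head_cons, Matrix.tail_cons,
        Matrix.cons_val]
      rw [hc]
      simp) 1
    simp at this
  have hxV := hx
  have d2 := finrank_I2 (hx 0) (hx 1) (hx0 0) (hx0 1) hxy 2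
  have d3 := finrank_I2 (hx 0) (hx 1) (hx0 0) (hx0 1) hxy 3
  have d4 := finrank_I2 (hx 0) (hx 1) (hx0 0) (hx0 1) hxy 4
  rw [show (2 : ℤ) - 2 = 0 by norm_num, show (2 : ℤ) - 1 = 1 by norm_num, h0, h1] at d2
  rw [show (3 : ℤ) - 2 = 1 by norm_num, show (3 : ℤ) - 1 = 2 by norm_num, h1, h2] at d3
  rw [show (4 : ℤ) - 2 = 2 by norm_num, show (4 : ℤ) - 1 = 3 by norm_num, h2, h3] at d4
  have hz1 : ∀ α : k, α • x 2 ∈ G.I2 (x 0) (x 1) 1 → α = 0 := by
    intro α h
    obtain ⟨a, ha, b, hb, hab⟩ := h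
    rw [sub_self] at ha hb
    obtain ⟨a', rfl⟩ := G.mem_zero _ ha
    obtain ⟨b', rfl⟩ := G.mem_zero _ hb
    have := hl' ![a', b', -α] (by
      rw [Fin.sum_univ_three]
      simp only [Matrix.cons_val_zero, Matrix.cons_val_one, Matrix.cons_val_two, Matrix.head_cons, Matrix.tail_cons,
        Matrix.cons_val, neg_smul]
      rw [hab]
      simp only [Algebra.smul_def]
      ring) 2
    simpa using this
  have hsm : ∀ (α : k) (a b : L), a * (α • b) = α • (a * b) := fun α a b => by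
    simp only [Algebra.smul_def]; ring
  have hz2 : ∀ α : k, α • x 2 ^ 2 ∈ G.I2 (x 0) (x 1) 2 → α = 0 := by
    intro α h
    refine hz1 α (hK 1 _ (Submodule.smul_mem _ _ (hx 2)) ?_)
    rw [hsm, ← pow_two]
    exact h
  have m2 : x 2 ^ 2 ∈ G.V 2 := by simpa using pow_mem (hx 2) 2
  have f2 := G.fin 2
  have f3 := G.fin 3
  have f4 := G.fin 4
  -- the element of degree two
  obtain ⟨w, hw, hw'⟩ : ∃ w ∈ G.V 2, w ∉ G.I2 (x 0) (x 1) 2 ⊔ Submodule.span k {x 2 ^ 2} := by
    by_contra hne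
    push Not at hne
    have hle : G.V 2 ≤ G.I2 (x 0) (x 1) 2 ⊔ Submodule.span k {x 2 ^ 2} := fun f hf => hne f hf
    have fI : FiniteDimensional k (G.I2 (x 0) (x 1) 2) :=
      Submodule.finiteDimensional_of_le (I2_le (hx 0) (hx 1) 2)
    have e1 := Submodule.finrank_mono hle
    have e2 := Submodule.finrank_add_le_finrank_add_finrank (G.I2 (x 0) (x 1) 2) (Submodule.span k {x 2 ^ 2})
    have e3 := finrank_span_singleton (K := k) (v := x 2 ^ 2) (pow_ne_zero _ (hx0 2))
    omega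
  have ind2 : ∀ α β : k, α • x 2 ^ 2 + β • w ∈ G.I2 (x 0) (x 1) 2 → α = 0 ∧ β = 0 := by
    intro α β h
    have hβ : β = 0 := by
      by_contra hβ
      apply hw'
      rw [Submodule.mem_sup]
      refine ⟨β⁻¹ • (α • x 2 ^ 2 + β • w), Submodule.smul_mem _ _ h, -(β⁻¹ * α) • x 2 ^ 2,
        Submodule.smul_mem _ _ (Submodule.mem_span_singleton_self _), ?_⟩
      rw [smul_add, smul_smul, smul_smul, inv_mul_cancel₀ hβ, one_smul]
      rw [neg_smul]
      ring
    rw [hβ, zero_smul, add_zero] at h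
    exact ⟨hz2 α h, hβ⟩
  have step : ∀ (n : ℤ) (u v : L), u ∈ G.V n → v ∈ G.V n →
      (∀ α β : k, α • u + β • v ∈ G.I2 (x 0) (x 1) n → α = 0 ∧ β = 0) →
      ∀ α β : k, α • (x 2 * u) + β • (x 2 * v) ∈ G.I2 (x 0) (x 1) (n + 1) → α = 0 ∧ β = 0 := by
    intro n u v hu hv h α β h'
    refine h α β (hK n _ (add_mem (Submodule.smul_mem _ _ hu) (Submodule.smul_mem _ _ hv)) ?_)
    rw [mul_add, hsm, hsm]
    exact h'
  have ind3 := step 2 _ _ m2 hw ind2
  have m3 : x 2 * x 2 ^ 2 ∈ G.V 3 := mul_mem' (hx 2) m2 (by norm_num)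
  have w3 : x 2 * w ∈ G.V 3 := mul_mem' (hx 2) hw (by norm_num)
  have ind4 := step 3 _ _ m3 w3 ind3
  have m4 : x 2 * (x 2 * x 2 ^ 2) ∈ G.V 4 := mul_mem' (hx 2) m3 (by norm_num)
  have w4 : x 2 * (x 2 * w) ∈ G.V 4 := mul_mem' (hx 2) w3 (by norm_num)
  have s2 := span_two (I2_le (hx 0) (hx 1) 2) (by omega) m2 hw ind2
  have s3 := span_two (I2_le (hx 0) (hx 1) 3) (by omega) m3 w3 ind3
  have s4 := span_two (I2_le (hx 0) (hx 1) 4) (by omega) m4 w4 ind4
  -- the structure in low degrees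
  have t1 : ∀ f ∈ G.V 1, IsF (k := k) x 1 f := by
    intro f hf
    obtain ⟨c, rfl⟩ := isF_one hx hl h1 hf
    rw [Fin.sum_univ_three]
    exact (((IsF.X x 0).smul _).add ((IsF.X x 1).smul _)).add ((IsF.X x 2).smul _)
  have t2 : ∀ f ∈ G.V 2, ∃ (p : L) (β : k), IsF (k := k) x 2 p ∧ f = p + β • w := by
    intro f hf
    obtain ⟨α, β, a, ha, b, hb, hab⟩ := s2 f hf
    norm_num at ha hb
    refine ⟨α • x 2 ^ 2 + (x 0 * a + x 1 * b), β, ?_, by rw [← hab]; ring⟩
    exact ((IsF.pow x 2 2).smul α).add (((IsF.X x 0).mul (t1 a ha)).add ((IsF.X x 1).mul (t1 b hb)))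
  have t3 : ∀ f ∈ G.V 3, ∃ p r : L, IsF (k := k) x 3 p ∧ IsF (k := k) x 1 r ∧ f = p + w * r := by
    intro f hf
    obtain ⟨α, β, a, ha, b, hb, hab⟩ := s3 f hf
    norm_num at ha hb
    obtain ⟨p, γ, hp, rfl⟩ := t2 a ha
    obtain ⟨q, ε, hq, rfl⟩ := t2 b hb
    refine ⟨α • x 2 ^ 3 + (x 0 * p + x 1 * q), β • x 2 + (γ • x 0 + ε • x 1), ?_, ?_, ?_⟩
    · exact ((IsF.pow x 2 3).smul α).add (((IsF.X x 0).mul hp).add ((IsF.X x 1).mul hq))
    · exact ((IsF.X x 2).smul β).add (((IsF.X x 0).smul γ).add ((IsF.X x 1).smul ε))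
    · simp only [Algebra.smul_def] at hab ⊢
      linear_combination hab
  have t4 : ∀ f ∈ G.V 4, ∃ p r : L, IsF (k := k) x 4 p ∧ IsF (k := k) x 2 r ∧ f = p + w * r := by
    intro f hf
    obtain ⟨α, β, a, ha, b, hb, hab⟩ := s4 f hf
    norm_num at ha hb
    obtain ⟨p, r, hp, hr, rfl⟩ := t3 a ha
    obtain ⟨q, s, hq, hs, rfl⟩ := t3 b hb
    refine ⟨α • x 2 ^ 4 + (x 0 * p + x 1 * q), β • x 2 ^ 2 + (x 0 * r + x 1 * s), ?_, ?_, ?_⟩
    · exact ((IsF.pow x 2 4).smul α).add (((IsF.X x 0).mul hp).add ((IsF.X x 1).mul hq))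
    · exact ((IsF.pow x 2 2).smul β).add (((IsF.X x 0).mul hr).add ((IsF.X x 1).mul hs))
    · simp only [Algebra.smul_def] at hab ⊢
      linear_combination hab
  have hwF : ¬ IsF (k := k) x 2 w := fun h => hw' (isF_mem hx h)
  obtain ⟨p, r, hp, hr, hpr⟩ := t4 (w * w) (mul_mem' hw hw (by norm_num))
  obtain ⟨F, hF, hF'⟩ : IsF (k := k) x 4 (p + ((1 / 4 : k)) • (r * r)) := hp.add ((hr.mul hr).smul _)
  obtain ⟨l, H, q, hlh, hH, hq, hl0, hFe⟩ := YBit.exists_bitangent hF
  have hlV : aeval x l ∈ G.V 1 := by simpa using aeval_mem hx hlh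
  have hHV : aeval x H ∈ G.V 3 := by simpa using aeval_mem hx hH
  have hqV : aeval x q ∈ G.V 2 := by simpa using aeval_mem hx hq
  obtain ⟨r', hr', hr''⟩ := hr
  have hrV : r ∈ G.V 2 := by rw [← hr'']; simpa using aeval_mem hx hr'
  have hlx : aeval x l ≠ 0 := by
    intro h
    apply hl0
    have e1 : l = ∑ i, C (coeff (Finsupp.single i 1) l) * MvPolynomial.X i := by
      ext m
      rw [coeff_sum]
      simp only [coeff_C_mul, coeff_X']
      by_cases hm : m.degree = 1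
      · obtain ⟨i, rfl⟩ : ∃ i, m = Finsupp.single i 1 := by
          rw [Finsupp.degree_eq_sum, Fin.sum_univ_three] at hm
          rcases Nat.eq_zero_or_pos (m 0) with h0 | h0
          · rcases Nat.eq_zero_or_pos (m 1) with h1 | h1
            · refine ⟨2, ?_⟩
              ext i
              fin_cases i
              · simpa using h0
              · simpa using h1
              · simp; omega
            · refine ⟨1, ?_⟩
              ext i
              fin_cases i
              · simpa using h0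
              · simp; omega
              · simp; omega
          · refine ⟨0, ?_⟩
            ext i
            fin_cases i
            · simp; omega
            · simp; omega
            · simp; omega
        rw [Finset.sum_eq_single i]
        · rw [if_pos rfl, mul_one]
        · intro j _ hj
          rw [if_neg, mul_zero]
          intro hji
          exact hj (Finsupp.single_left_injective one_ne_zero hji)
        · intro h
          exact absurd (Finset.mem_univ _) h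
      · rw [hlh.coeff_eq_zero hm, eq_comm]
        refine Finset.sum_eq_zero fun j _ => ?_
        rw [if_neg, mul_zero]
        rintro rfl
        exact hm (Finsupp.degree_single _ _)
    have e2 : ∑ i, coeff (Finsupp.single i 1) l • x i = 0 := by
      rw [e1, map_sum] at h
      simpa [Algebra.smul_def] using h
    have e3 := hl' _ e2
    rw [e1]
    refine Finset.sum_eq_zero fun i _ => ?_
    rw [e3 i, C_0, zero_mul]
  have hFx := congrArg (aeval x) hFe
  rw [map_add, map_mul, map_pow, hF'] at hFx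
  have h2 : ((1 / 2 : k) • r) * ((1 / 2 : k) • r) = (1 / 4 : k) • (r * r) := by
    simp only [Algebra.smul_def]
    rw [show (1 / 4 : k) = (1 / 2) * (1 / 2) by norm_num, map_mul]
    ring
  have h3 : w * r = 2 * (w * ((1 / 2 : k) • r)) := by
    simp only [Algebra.smul_def]
    rw [map_div₀, map_one, map_ofNat]
    have : (2 : L) ≠ 0 := by
      have := (map_ne_zero (algebraMap k L)).2 (two_ne_zero : (2 : k) ≠ 0)
      rwa [map_ofNat] at this
    field_simp
  set w' := w - (1 / 2 : k) • r with hw''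
  have hw'V : w' ∈ G.V 2 := sub_mem hw (Submodule.smul_mem _ _ hrV)
  have hprod : (w' - aeval x q) * (w' + aeval x q) = aeval x l * aeval x H := by
    have : w' * w' = p + (1 / 4 : k) • (r * r) := by
      rw [hw'', ← h2]
      linear_combination hpr + h3
    linear_combination this + hFx
  have hrF : IsF (k := k) x 2 ((1 / 2 : k) • r) := IsF.smul _ ⟨r', hr', hr''⟩
  rcases (isPr_one hlV hlx).prime (sub_mem hw'V hqV) (add_mem hw'V hqV) (by
    rw [hprod, mul_div_cancel_left₀ _ hlx]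
    simpa using hHV) with h | h
  · apply hwF
    have e1 : w = (aeval x l * ((w' - aeval x q) / aeval x l)) + aeval x q + (1 / 2 : k) • r := by
      rw [mul_div_cancel₀ _ hlx, hw'']
      ring
    rw [e1]
    exact ((IsF.mul (m := 1) (n := 1) ⟨l, hlh, rfl⟩ (t1 _ (by simpa using h))).add ⟨q, hq, rfl⟩).add hrF
  · apply hwF
    have e1 : w = (aeval x l * ((w' + aeval x q) / aeval x l)) + (-1 : k) • aeval x q + (1 / 2 : k) • r := by
      rw [mul_div_cancel₀ _ hlx, hw'', neg_one_smul]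
      ring
    rw [e1]
    exact ((IsF.mul (m := 1) (n := 1) ⟨l, hlh, rfl⟩ (t1 _ (by simpa using h))).add (IsF.smul _ ⟨q, hq, rfl⟩)).add hrF

end Groth.Agent.Surf.K460.PicZ.Gr
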