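import Groth.Agent.Surf.K460.YKos
import Groth.Agent.Surf.K460.YTwoAlg
import Groth.Agent.Surf.K460.DPGlob

/-!
# No del Pezzo surface of degree two has Picard group generated by the canonical class
-/

set_option autoImplicit false
universe u
open CategoryTheory CategoryTheory.Limits AlgebraicGeometry TopologicalSpace Opposite

namespace Groth.Agent.Surf.K460.YTwo

open Groth.Agent Groth.Agent.Fdesc.LocGen Groth.Agent.Lefpen.H725.CocDef Groth.Agent.Lefpen.H521.CartierCoc
open K801.Cousin K801.CousinH1 K801.LEq Groth.Agent.Grpsch.PicGrp K464.Curves K464.Base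
open SurfKit DelPezzo ZSec ZCurve ZGeo PicZ YFrac YKos

attribute [local instance] algK

section local_

variable {X : Scheme.{u}} [IsIntegral X]

theorem nonunit_add {y : X} {u v : X.functionField} (hu : RegAt y u) (hv : RegAt y v)
    (h : UnitAt y (u + v)) : UnitAt y u ∨ UnitAt y v := by
  obtain ⟨U, hyU, hU, g, rfl⟩ := hu
  obtain ⟨V, hyV, hV, g', rfl⟩ := hv
  have hη : genericPoint X ∈ U ⊓ V := ⟨hU, hV⟩
  have hy : y ∈ U ⊓ V := ⟨hyU, hyV⟩
  rw [← ff_ores (inf_le_left : U ⊓ V ≤ U) hη, ← ff_ores (inf_le_right : U ⊓ V ≤ V) hη] at h ⊢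
  have h1 : UnitAt y (ff (U ⊓ V) (gen_mem hy) (ores inf_le_left g + ores inf_le_right g')) := by
    rw [map_add]
    exact h
  rw [unitAt_iff hy, X.mem_basicOpen _ y hy, map_add] at h1
  have h2 := IsLocalRing.isUnit_or_isUnit_of_isUnit_add h1
  rw [← X.mem_basicOpen _ y hy, ← X.mem_basicOpen _ y hy, ← unitAt_iff hy, ← unitAt_iff hy] at h2
  exact h2

theorem unit_of_mul {y : X} {u v : X.functionField} (hu : RegAt y u) (hv : RegAt y v)
    (h : UnitAt y (u * v)) : UnitAt y u := by
  have h0 := unitAt_ne_zero h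
  have hu0 := left_ne_zero_of_mul h0
  have hv0 := right_ne_zero_of_mul h0
  refine unitAt_of_regAt hu (regAt_mul hv (unitAt_regAt (unitAt_inv h))) ?_
  field_simp

theorem nonunit_sum {ι : Type*} (s : Finset ι) {y : X} {u : ι → X.functionField} (hu : ∀ i, RegAt y (u i))
    (h : UnitAt y (∑ i ∈ s, u i)) : ∃ i ∈ s, UnitAt y (u i) := by
  classical
  induction s using Finset.induction_on with
  | empty =>
    rw [Finset.sum_empty] at h
    exact absurd rfl (unitAt_ne_zero h)
  | insert a s ha ih =>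
    rw [Finset.sum_insert ha] at h
    have hs : RegAt y (∑ i ∈ s, u i) := by
      clear h ih ha
      induction s using Finset.induction_on with
      | empty => rw [Finset.sum_empty]; exact regAt_zero y
      | insert b s hb ih => rw [Finset.sum_insert hb]; exact regAt_add (hu b) ih
    rcases nonunit_add (hu a) hs h with h | h
    · exact ⟨a, Finset.mem_insert_self _ _, h⟩
    · obtain ⟨i, hi, h⟩ := ih h
      exact ⟨i, Finset.mem_insert_of_mem hi, h⟩

end local_

variable {k : Type u} [Field k] [IsAlgClosed k] {X : Scheme.{u}} [X.Over (Spec (CommRingCat.of k))]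
  [IsIntegral X] [IsProper (X ↘ Spec (CommRingCat.of k))] [Smooth (X ↘ Spec (CommRingCat.of k))]
  {W D : X.Modules} (P : DP k X W D)
  (hpic : ∀ c : Pic X, ∃ n : ℤ, c = mk W P.hWi ^ n)
  {δ : X → X.functionField} (hδ : HasCoc D δ)

/-- division by a unit section -/
theorem regAt_div_unit {q : X} {i n : ℤ} {s f : X.functionField} (hδ0 : δ q ≠ 0) (hs : UnitAt q (s / δ q ^ i))
    (hf : RegAt q (f / δ q ^ n)) : RegAt q (f / s / δ q ^ (n - i)) := by
  have h1 := regAt_mul hf (unitAt_regAt (unitAt_inv hs))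
  have hs0 : s ≠ 0 := fun h => unitAt_ne_zero hs (by rw [h, zero_div])
  convert h1 using 1
  rw [zpow_sub₀ hδ0]
  field_simp

include P hpic hδ in
theorem false_of_two [CharZero k] (hK : Kod k X) (hd : dot k X (mk W P.hWi) (mk W P.hWi) = 2) : False := by
  let G := gr P hpic hδ
  have hfr : ∀ n : ℕ, Module.finrank k (G.V n) = n * (n + 1) + 1 := by
    intro n
    have h := h0_zpow P hK (n := n) (by positivity)
    rw [← finrank_gr P hpic hδ n, hd] at h
    change 2 * (Module.finrank k (G.V n) : ℤ) = _ at h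
    have h' : (Module.finrank k (G.V n) : ℤ) = ((n * (n + 1) + 1 : ℕ) : ℤ) := by push_cast; linarith
    exact_mod_cast h'
  have h1 := hfr 1
  have := G.fin 1
  let b := Module.finBasisOfFinrankEq k (G.V 1) h1
  let x : Fin 3 → X.functionField := fun i => (b i : X.functionField)
  have hx : ∀ i, x i ∈ G.V 1 := fun i => (b i).2
  have hl : LinearIndependent k x := b.linearIndependent.map' (G.V 1).subtype (Submodule.ker_subtype _)
  have hx0 : ∀ i, x i ≠ 0 := hl.ne_zero
  -- base point freeness
  have hgen : ∀ q : X, ∃ i, UnitAt q (x i / δ q ^ (1 : ℤ)) := by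
    intro q
    obtain ⟨s, hs⟩ := DPGlob.exists_gen P hK hd q
    obtain ⟨f, hf, hfs⟩ := exists_rat hδ s
    have hfV : f ∈ G.V 1 := fun y => by
      change RegAt y (f / δ y ^ (1 : ℤ))
      rw [zpow_one]
      exact hf y
    obtain ⟨c, hc⟩ := Gr.isF_one hx hl h1 hfV
    have hu := (hfs q).1 hs
    rw [hc, Finset.sum_div] at hu
    obtain ⟨i, -, hi⟩ := nonunit_sum Finset.univ (fun i => by
      have := (Submodule.smul_mem _ (c i) (hx i) : c i • x i ∈ G.V 1) q
      change RegAt q (c i • x i / δ q ^ (1 : ℤ)) at this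
      rwa [zpow_one] at this) hu
    refine ⟨i, ?_⟩
    rw [Algebra.smul_def, mul_div_assoc, mul_comm] at hi
    have h2 := (hx i) q
    change RegAt q (x i / δ q ^ (1 : ℤ)) at h2
    rw [zpow_one] at h2 ⊢
    exact unit_of_mul h2 (regAt_algebraMap k q (c i)) hi
  refine Gr.false_of_two (G := G) (hfr 0) h1 (hfr 2) (hfr 3) (hfr 4) hx hl ?_
  intro n f hf hzf
  obtain ⟨a, ha, b', hb, hab⟩ := hzf
  rw [add_sub_cancel_right] at ha hb
  have hst : x 1 / x 0 ∉ G.V (1 - 1) := by
    intro h
    rw [sub_self] at h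
    obtain ⟨c, hc⟩ := Gr.smul_of_div (hx0 0) h
    have := Fintype.linearIndependent_iff.1 hl ![c, -1, 0] (by
      rw [Fin.sum_univ_three]
      simp only [Matrix.cons_val_zero, Matrix.cons_val_one, Matrix.cons_val_two, Matrix.head_cons, Matrix.tail_cons,
        Matrix.cons_val]
      rw [hc]
      simp) 1
    simp at this
  obtain ⟨a', ha', b'', hb'', h⟩ := koszul P hpic hδ hK (i := 1) (j := 1) (n := n) (s := x 0) (t := x 1) (f := f)
    (Gr.isPr_one (hx 0) (hx0 0)) (hx 1) (hx0 1) hst (by
      intro q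
      have hδ0 := hδ.1 q
      obtain ⟨i, hi⟩ := hgen q
      fin_cases i
      · refine ⟨f / x 0, 0, regAt_div_unit hδ0 hi (hf q), by rw [zero_div]; exact regAt_zero q, ?_⟩
        have := hx0 0
        field_simp
        ring
      · refine ⟨0, f / x 1, by rw [zero_div]; exact regAt_zero q, regAt_div_unit hδ0 hi (hf q), ?_⟩
        have := hx0 1
        field_simp
        ring
      · refine ⟨a / x 2, b' / x 2, regAt_div_unit hδ0 hi (ha q), regAt_div_unit hδ0 hi (hb q), ?_⟩
        have := hx0 2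
        field_simp
        linear_combination hab)
  exact ⟨a', ha', b'', hb'', h⟩

end Groth.Agent.Surf.K460.YTwo
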