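import Groth.Agent.Surf.K455.SmoothRR
import Groth.Agent.Surf.K464.Comp
import Groth.Agent.Surf.K465.Hodge2
import Groth.Agent.Surf.K465.Eff
import Groth.Agent.Surf.K457.Form

/-!
# Cohomology dimensions on the Picard group of a smooth proper surface

`h k X i : Pic X → ℕ`: dimensions of `H^i`.
* `chi_eq`: `χ = h⁰ - h¹ + h²`; `h_dual`: `h^p(c) = h^m(w c⁻¹)`, `m + p = 2`; `rr`.
* `nonneg_of_h0_pos`, `eq_one_of_dot_eq_zero`, `h0_eq_zero_of_neg`: positivity against ample classes.
* `dot_self_pos`, `hodge`.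
-/

set_option autoImplicit false
universe u
open CategoryTheory CategoryTheory.Limits AlgebraicGeometry TopologicalSpace Opposite

namespace Groth.Agent.Surf.K460.SurfKit

open Groth.Agent Groth.Agent.Grpsch.PicGrp Groth.Agent.Fga.PicMon Groth.Agent.Fga.AltSum K464.Base K464.Curves
  Groth.Agent.Pic13.H970.IntForm

section H

variable (k : Type u) [Field k] (X : Scheme.{u}) [X.Over (Spec (CommRingCat.of k))]

/-- `dim H^i` on the Picard group. -/
noncomputable def h (i : ℕ) : Pic X → ℕ :=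
  Quotient.lift (s := isoSetoid X) (fun L => Module.finrank k (Coh.HH X L.1 i))
    (fun _ _ ⟨e⟩ => (hmapEquiv k X e i).finrank_eq)

theorem h_mk (i : ℕ) {L : X.Modules} (hL : PicF.IsInvertible L) :
    h k X i (mk L hL) = Module.finrank k (Coh.HH X L i) := rfl

theorem h_one (i : ℕ) : h k X i 1 = Module.finrank k (Coh.HH X (Coh.structureModule X) i) := rfl

end H

section proper

variable (k : Type u) [Field k] (X : Scheme.{u}) [X.Over (Spec (CommRingCat.of k))]
  [IsProper (X ↘ Spec (CommRingCat.of k))]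

theorem subsingleton_of_h_eq_zero {i : ℕ} {L : X.Modules} (hL : PicF.IsInvertible L)
    (hz : h k X i (mk L hL) = 0) : Subsingleton (Coh.HH X L i) := by
  have := Fga.HodgeSec.finite_HH k hL i
  exact Module.finrank_zero_iff.mp hz

theorem h_eq_zero_of_subsingleton {i : ℕ} {L : X.Modules} (hL : PicF.IsInvertible L)
    (hz : Subsingleton (Coh.HH X L i)) : h k X i (mk L hL) = 0 := by
  rw [h_mk]
  exact Module.finrank_zero_of_subsingleton

variable {X}
variable (hdim : topologicalKrullDim X ≤ (2 : ℕ))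

include hdim in
theorem chi_eq (c : Pic X) :
    chi k X c = (h k X 0 c : ℤ) - h k X 1 c + h k X 2 c := by
  obtain ⟨L, hL, rfl⟩ := exists_mk c
  have := Fga.IntAdd.isNoetherian k X
  rw [chi_mk, ← Fga.IntAdd.eulerCharLE_eq k X 2 hdim]
  unfold FGA.eulerCharLE
  simp only [Finset.sum_range_succ, Finset.sum_range_zero, h_mk]
  ring

end proper

section smooth

variable (k : Type u) [Field k] {X : Scheme.{u}} [X.Over (Spec (CommRingCat.of k))]
  [IsProper (X ↘ Spec (CommRingCat.of k))] [SmoothOfRelativeDimension 2 (X ↘ Spec (CommRingCat.of k))]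
  {W : X.Modules} (hW : ExtPow.IsExtPow 2 (Omega.sheaf (X ↘ Spec (CommRingCat.of k))) W)
  (hWi : PicF.IsInvertible W)

include hW

/-- Serre duality on classes. -/
theorem h_dual (c : Pic X) (m p : ℕ) (hmp : m + p = 2) : h k X p c = h k X m (mk W hWi * c⁻¹) := by
  obtain ⟨L, hL, rfl⟩ := exists_mk c
  obtain ⟨L', hL', ⟨e⟩⟩ := exists_inverse hL
  rw [← K457.Form.mk_eq_inv hL hL' ⟨e⟩, mk_mul_mk, h_mk, h_mk]
  exact K455.SmoothRR.finrank_dual k hW hL ⟨e⟩ m p hmp

/-- Riemann–Roch on classes. -/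
theorem rr (hdim : topologicalKrullDim X ≤ (2 : ℕ)) (c : Pic X) :
    2 * chi k X c = dot k X c c - dot k X c (mk W hWi) + 2 * chi k X 1 := by
  obtain ⟨L, hL, rfl⟩ := exists_mk c
  have := Fga.IntAdd.isNoetherian k X
  have h1 := K455.SmoothRR.rr k hW hdim hL
  rw [Fga.IntAdd.eulerCharLE_eq k X 2 hdim, Fga.IntAdd.eulerCharLE_eq k X 2 hdim,
    intNum_eq_dot k X hdim hL hL, intNum_eq_dot k X hdim hL hWi] at h1
  exact h1

end smooth

section pos

variable (k : Type u) [Field k] {X : Scheme.{u}} [X.Over (Spec (CommRingCat.of k))]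
  [IsProper (X ↘ Spec (CommRingCat.of k))] [Smooth (X ↘ Spec (CommRingCat.of k))] [IsIntegral X]

/-- A class with sections is the class of an effective divisor. -/
theorem exists_eff_of_h0_pos {c : Pic X} (hc : 0 < h k X 0 c) :
    ∃ (D : X.IdealSheafData) (hD : BlowUp.IsEffCartierIdeal D), c = (ic D hD)⁻¹ := by
  obtain ⟨L, hL, rfl⟩ := exists_mk c
  obtain ⟨s, hs⟩ := Fga.HodgeSec.exists_section k (L := L) hc
  exact K465.Eff.exists_eff hL s hs

variable (hdim : topologicalKrullDim X = 2)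

include hdim

/-- The degree of an effective divisor against an ample class. -/
theorem dot_eff {H : X.Modules} (hH : CohB1.IsAmple H) {D : X.IdealSheafData} (hD : BlowUp.IsEffCartierIdeal D) :
    0 ≤ dot k X (ic D hD)⁻¹ (mk H hH.1) ∧ (dot k X (ic D hD)⁻¹ (mk H hH.1) = 0 → D = ⊤) := by
  rw [dot_inv_left k X hdim.le, dot_ic_eq, neg_neg]
  by_cases hT : D = ⊤
  · subst hT
    rw [K464.Comp.degOn_top]
    exact ⟨le_rfl, fun _ => rfl⟩
  · have := K464.Comp.degOn_pos_of_ample_eff k hdim hH.1 hH hD hT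
    exact ⟨this.le, fun h0 => absurd h0 this.ne'⟩

theorem dot_nonneg_of_h0_pos {H : X.Modules} (hH : CohB1.IsAmple H) {c : Pic X} (hc : 0 < h k X 0 c) :
    0 ≤ dot k X c (mk H hH.1) := by
  obtain ⟨D, hD, rfl⟩ := exists_eff_of_h0_pos k hc
  exact (dot_eff k hdim hH hD).1

theorem eq_one_of_dot_eq_zero {H : X.Modules} (hH : CohB1.IsAmple H) {c : Pic X} (hc : 0 < h k X 0 c)
    (h0 : dot k X c (mk H hH.1) = 0) : c = 1 := by
  obtain ⟨D, hD, rfl⟩ := exists_eff_of_h0_pos k hc
  have := (dot_eff k hdim hH hD).2 h0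
  subst this
  rw [show ic (⊤ : X.IdealSheafData) hD = 1 from ic_top, inv_one]

theorem h0_eq_zero_of_neg {H : X.Modules} (hH : CohB1.IsAmple H) {c : Pic X}
    (hneg : dot k X c (mk H hH.1) < 0) : h k X 0 c = 0 := by
  by_contra hne
  exact absurd (dot_nonneg_of_h0_pos k hdim hH (Nat.pos_of_ne_zero hne)) (not_le.mpr hneg)

theorem ip_eq_dot {L M : X.Modules} (hL : PicF.IsInvertible L) (hM : PicF.IsInvertible M) :
    K465.Ip.ip k X hdim.le (Additive.ofMul (mk L hL)) (Additive.ofMul (mk M hM)) =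
      dot k X (mk L hL) (mk M hM) := by
  rw [K465.Ip.ip_mk, intNum_eq_dot k X hdim.le]

theorem dot_self_pos {H : X.Modules} (hH : CohB1.IsAmple H) : 0 < dot k X (mk H hH.1) (mk H hH.1) := by
  rw [← ip_eq_dot k hdim]
  exact K465.Hodge2.ip_ample_pos k hdim.le hdim hH hH

/-- The Hodge index inequality. -/
theorem hodge {H : X.Modules} (hH : CohB1.IsAmple H) (c : Pic X) :
    dot k X (mk H hH.1) (mk H hH.1) * dot k X c c ≤ dot k X (mk H hH.1) c ^ 2 := by
  obtain ⟨L, hL, rfl⟩ := exists_mk c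
  have := K465.Hodge2.hodge_ample k hdim.le hH hL (by
    rw [ip_eq_dot k hdim]; exact dot_self_pos k hdim hH)
  rwa [ip_eq_dot k hdim, ip_eq_dot k hdim, ip_eq_dot k hdim] at this

end pos

end Groth.Agent.Surf.K460.SurfKit
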