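import Groth.Agent.Surf.K460.YJac

/-!
# Directional derivatives of polynomials with generic coefficients
-/

set_option autoImplicit false

namespace Groth.Agent.Surf.K460.YDer

open YJac Polynomial

variable {k : Type*} [Field k] {σ : Type*} [Fintype σ] (p v : σ → k)

/-- The coefficientwise directional derivative. -/
noncomputable def DP (f : (MvPolynomial σ k)[X]) : k[X] := ∑ n ∈ f.support, monomial n (dd p v (f.coeff n))

theorem coeff_DP (f : (MvPolynomial σ k)[X]) (n : ℕ) : (DP p v f).coeff n = dd p v (f.coeff n) := by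
  rw [DP, finsetSum_coeff]
  simp only [coeff_monomial]
  rw [Finset.sum_ite_eq' f.support n]
  split_ifs with h
  · rfl
  · rw [notMem_support_iff.1 h, dd_zero]

/-- evaluation of the coefficients -/
noncomputable abbrev ev : MvPolynomial σ k →+* k := MvPolynomial.eval p

theorem DP_add (a b : (MvPolynomial σ k)[X]) : DP p v (a + b) = DP p v a + DP p v b := by
  ext n
  simp only [coeff_DP, coeff_add, dd_add]

theorem DP_sub (a b : (MvPolynomial σ k)[X]) : DP p v (a - b) = DP p v a - DP p v b := by
  ext n
  simp only [coeff_DP, coeff_sub, dd_sub]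

theorem DP_mul (a b : (MvPolynomial σ k)[X]) :
    DP p v (a * b) = DP p v a * b.map (ev p) + a.map (ev p) * DP p v b := by
  ext n
  simp only [coeff_DP, coeff_add, coeff_mul, coeff_map, dd_sum, dd_mul, Finset.sum_add_distrib]

theorem DP_C (a : MvPolynomial σ k) : DP p v (C a) = C (dd p v a) := by
  ext n
  rw [coeff_DP, coeff_C, coeff_C]
  split_ifs
  · rfl
  · exact dd_zero p v

theorem DP_X : DP p v (X : (MvPolynomial σ k)[X]) = 0 := by
  ext n
  rw [coeff_DP, coeff_X, coeff_zero]
  split_ifs
  · rw [← MvPolynomial.C_1, dd_C]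
  · exact dd_zero p v

theorem DP_sq (a : (MvPolynomial σ k)[X]) : DP p v (a ^ 2) = 2 * a.map (ev p) * DP p v a := by
  rw [pow_two, DP_mul]
  ring

theorem DP_cube (a : (MvPolynomial σ k)[X]) : DP p v (a ^ 3) = 3 * (a.map (ev p)) ^ 2 * DP p v a := by
  rw [pow_succ, DP_mul, DP_sq, Polynomial.map_pow]
  ring

theorem DP_four (a : (MvPolynomial σ k)[X]) : DP p v (a ^ 4) = 4 * (a.map (ev p)) ^ 3 * DP p v a := by
  rw [pow_succ, DP_mul, DP_cube, Polynomial.map_pow]
  ring

theorem DP_X_pow (n : ℕ) : DP p v ((X : (MvPolynomial σ k)[X]) ^ n) = 0 := by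
  induction n with
  | zero => rw [pow_zero, ← C_1, DP_C, ← MvPolynomial.C_1, dd_C, C_0]
  | succ n ih => rw [pow_succ, DP_mul, ih, DP_X, zero_mul, mul_zero, add_zero]

theorem DP_C_mul_X_pow (a : MvPolynomial σ k) (n : ℕ) : DP p v (C a * X ^ n) = C (dd p v a) * X ^ n := by
  rw [DP_mul, DP_C, DP_X_pow, mul_zero, add_zero, Polynomial.map_pow, map_X]

/-- The chain rule. -/
theorem DP_aeval {τ : Type*} [Fintype τ] (a : τ → (MvPolynomial σ k)[X]) (G : MvPolynomial τ k) :
    DP p v (MvPolynomial.aeval a G) =
      ∑ j, MvPolynomial.aeval (fun j => (a j).map (ev p)) (MvPolynomial.pderiv j G) * DP p v (a j) := by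
  classical
  have hmap : ∀ G : MvPolynomial τ k, (MvPolynomial.aeval a G : (MvPolynomial σ k)[X]).map (ev p) =
      MvPolynomial.aeval (fun j => (a j).map (ev p)) G := by
    intro G
    induction G using MvPolynomial.induction_on with
    | C c =>
      rw [MvPolynomial.aeval_C, MvPolynomial.aeval_C]
      change (C (MvPolynomial.C c)).map (ev p) = C c
      rw [map_C, MvPolynomial.eval_C]
    | add a b ha hb => rw [map_add, map_add, Polynomial.map_add, ha, hb]
    | mul_X b n hb => rw [map_mul, map_mul, Polynomial.map_mul, hb, MvPolynomial.aeval_X, MvPolynomial.aeval_X]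
  induction G using MvPolynomial.induction_on with
  | C c =>
    simp only [MvPolynomial.pderiv_C, map_zero, zero_mul, Finset.sum_const_zero]
    rw [MvPolynomial.aeval_C]
    change DP p v (C (MvPolynomial.C c)) = 0
    rw [DP_C, dd_C, C_0]
  | add a b ha hb => simp only [map_add, DP_add, ha, hb, add_mul, Finset.sum_add_distrib]
  | mul_X b n hb =>
    simp only [map_mul, DP_mul, MvPolynomial.pderiv_mul, MvPolynomial.aeval_X, hb, hmap, map_add, add_mul,
      Finset.sum_add_distrib, Finset.sum_mul]
    refine congrArg₂ (· + ·) ?_ ?_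
    · exact Finset.sum_congr rfl fun j _ => by ring
    · rw [Finset.sum_eq_single n]
      · rw [MvPolynomial.pderiv_X_self, map_one, mul_one]
      · intro i _ hi
        rw [MvPolynomial.pderiv_X_of_ne hi.symm, map_zero, mul_zero, zero_mul]
      · intro h
        exact absurd (Finset.mem_univ _) h

end Groth.Agent.Surf.K460.YDer
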