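import Groth.Agent.Surf.K460.YVal
import Groth.Agent.Surf.K460.YDer

/-!
# Every plane quartic has a bitangent

`exists_bitangent`: a quartic form in three variables over an algebraically closed field of characteristic zero
is `ℓ H + q²` with `ℓ ≠ 0` linear.
-/

set_option autoImplicit false

namespace Groth.Agent.Surf.K460.YBit

open YPlace YVal YJac YDer

open MvPolynomial

section general

variable {R S : Type*} [CommRing R] [CommRing S] {σ τ : Type*}

theorem map_aeval' (f : R →+* S) (g : τ → MvPolynomial σ R) (G : MvPolynomial τ R) :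
    map f (aeval g G) = aeval (fun j => map f (g j)) (map f G) := by
  induction G using MvPolynomial.induction_on with
  | C c => rw [aeval_C, algebraMap_eq, map_C, map_C, aeval_C, algebraMap_eq]
  | add a b ha hb => rw [map_add, map_add, ha, hb, map_add, map_add]
  | mul_X a n ha => rw [map_mul, map_mul, ha, aeval_X, map_mul, map_X, map_mul, aeval_X]

/-- The linear form with coefficients `b`. -/
noncomputable def lf {n : ℕ} (b : Fin n → R) : MvPolynomial (Fin n) R := ∑ l, C (b l) * X l

/-- Elimination of the variable `i` with the help of the linear form `b`, `b i = 1`. -/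
noncomputable def sub {n : ℕ} (b : Fin n → R) (i j : Fin n) : MvPolynomial (Fin n) R :=
  if j = i then X i - lf b else X j

theorem lf_homog {n : ℕ} (b : Fin n → R) : (lf b).IsHomogeneous 1 :=
  IsHomogeneous.sum _ _ _ fun l _ => isHomogeneous_C_mul_X (b l) l

theorem sub_homog {n : ℕ} (b : Fin n → R) (i j : Fin n) : (sub b i j).IsHomogeneous 1 := by
  rw [sub]
  split_ifs
  · exact (isHomogeneous_X R i).sub (lf_homog b)
  · exact isHomogeneous_X R j

theorem map_lf {n : ℕ} (f : R →+* S) (b : Fin n → R) : map f (lf b) = lf (fun l => f (b l)) := by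
  simp only [lf, map_sum, map_mul, map_C, map_X]

theorem map_sub' {n : ℕ} (f : R →+* S) (b : Fin n → R) (i j : Fin n) :
    map f (sub b i j) = sub (fun l => f (b l)) i j := by
  rw [sub, sub]
  split_ifs
  · rw [map_sub, map_X, map_lf]
  · rw [map_X]

theorem dvd_sub_aeval {n : ℕ} (b : Fin n → R) (i : Fin n) (G : MvPolynomial (Fin n) R) :
    lf b ∣ G - aeval (sub b i) G := by
  induction G using MvPolynomial.induction_on with
  | C c => rw [aeval_C, algebraMap_eq, sub_self]; exact dvd_zero _
  | add a b ha hb =>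
    rw [map_add, add_sub_add_comm]
    exact dvd_add ha hb
  | mul_X a j ha =>
    rw [map_mul, aeval_X]
    have h1 : lf b ∣ X j - sub b i j := by
      rw [sub]
      split_ifs with h
      · rw [h, sub_sub_cancel]
      · rw [sub_self]; exact dvd_zero _
    have h2 : a * X j - aeval (sub b i) a * sub b i j =
        (a - aeval (sub b i) a) * X j + aeval (sub b i) a * (X j - sub b i j) := by ring
    rw [h2]
    exact dvd_add (ha.mul_right _) (h1.mul_left _)

theorem sum_sub {n : ℕ} (b : Fin n → R) (i : Fin n) (hi : b i = 1) : ∑ l, C (b l) * sub b i l = 0 := by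
  have h1 : ∀ l, C (b l) * sub b i l = C (b l) * X l - (if l = i then C (b l) * lf b else 0) := by
    intro l
    rw [sub]
    split_ifs with h
    · rw [h]; ring
    · rw [sub_zero]
  rw [Finset.sum_congr rfl fun l _ => h1 l, Finset.sum_sub_distrib, Finset.sum_ite_eq' Finset.univ i,
    if_pos (Finset.mem_univ _), hi, C_1, one_mul]
  exact sub_self _

theorem exists_homog_factor {n : ℕ} {l A : MvPolynomial σ R} (hl : l.IsHomogeneous 1) (hA : A.IsHomogeneous (n + 1))
    (h : l ∣ A) : ∃ H : MvPolynomial σ R, H.IsHomogeneous n ∧ A = l * H := by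
  obtain ⟨H, rfl⟩ := h
  refine ⟨homogeneousComponent n H, homogeneousComponent_isHomogeneous n H, ?_⟩
  have h1 := homogeneousComponent_eq_self hA
  conv_lhs => rw [← h1, ← sum_homogeneousComponent H, Finset.mul_sum, map_sum]
  have h2 : ∀ m, homogeneousComponent (n + 1) (l * homogeneousComponent m H) =
      if m = n then l * homogeneousComponent n H else 0 := by
    intro m
    rw [homogeneousComponent_of_mem (n := 1 + m) (hl.mul (homogeneousComponent_isHomogeneous m H))]
    by_cases hm : m = n
    · rw [if_pos hm, if_pos (by omega), hm]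
    · rw [if_neg hm, if_neg (by omega)]
  simp only [h2]
  rw [Finset.sum_ite_eq' (Finset.range (H.totalDegree + 1)) n]
  split_ifs with h3
  · rfl
  · rw [homogeneousComponent_eq_zero _ _ (by rw [Finset.mem_range] at h3; omega), mul_zero]

end general

section

variable {k : Type*} [Field k] (F : MvPolynomial (Fin 3) k)

/-- The ring of the parameters. -/
abbrev U (k : Type*) [Field k] := MvPolynomial (Fin 6) k

/-- The generic perturbation of the quartic. -/
noncomputable def Ft : MvPolynomial (Fin 3) (U k) := map C F + C (X 5) * X 2 ^ 4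

noncomputable def lin (k : Type*) [Field k] : MvPolynomial (Fin 2) (U k) := C (X 0) * X 0 + C (X 1) * X 1

noncomputable def qq (k : Type*) [Field k] : MvPolynomial (Fin 2) (U k) :=
  C (X 2) * X 0 ^ 2 + C (X 3) * X 0 * X 1 + C (X 4) * X 1 ^ 2

noncomputable def Psi : MvPolynomial (Fin 2) (U k) := qq k ^ 2 - aeval ![X 0, X 1, lin k] (Ft F)

noncomputable def Phi : Polynomial (U k) := aeval ![Polynomial.X, 1] (Psi F)

theorem lin_homog : (lin k).IsHomogeneous 1 :=
  (isHomogeneous_C_mul_X _ _).add (isHomogeneous_C_mul_X _ _)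

theorem qq_homog : (qq k).IsHomogeneous 2 := by
  refine ((isHomogeneous_C_mul_X_pow _ _ _).add ?_).add (isHomogeneous_C_mul_X_pow _ _ _)
  exact (isHomogeneous_C_mul_X _ _).mul (isHomogeneous_X _ _)

theorem Ft_homog {F : MvPolynomial (Fin 3) k} (hF : F.IsHomogeneous 4) : (Ft F).IsHomogeneous 4 :=
  (hF.map _).add (isHomogeneous_C_mul_X_pow _ _ _)

theorem Psi_homog {F : MvPolynomial (Fin 3) k} (hF : F.IsHomogeneous 4) : (Psi F).IsHomogeneous 4 := by
  refine (qq_homog.pow 2).sub ?_
  have := (Ft_homog hF).aeval ![X 0, X 1, lin k] (n := 1) (by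
    intro i
    fin_cases i
    · exact isHomogeneous_X _ _
    · exact isHomogeneous_X _ _
    · exact lin_homog)
  simpa using this

theorem Phi_eq : Phi F = (Polynomial.C (X 2) * Polynomial.X ^ 2 + Polynomial.C (X 3) * Polynomial.X +
    Polynomial.C (X 4)) ^ 2 - (aeval ![Polynomial.X, 1, Polynomial.C (X 0) * Polynomial.X + Polynomial.C (X 1)] F +
    Polynomial.C (X 5) * (Polynomial.C (X 0) * Polynomial.X + Polynomial.C (X 1)) ^ 4) := by
  have h1 : ∀ G : MvPolynomial (Fin 3) k,
      aeval ![(Polynomial.X : Polynomial (U k)), 1] (aeval ![X 0, X 1, lin k] (map (C : k →+* U k) G)) =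
      aeval ![(Polynomial.X : Polynomial (U k)), 1, Polynomial.C (X 0) * Polynomial.X + Polynomial.C (X 1)] G := by
    intro G
    induction G using MvPolynomial.induction_on with
    | C c => rw [map_C, aeval_C, algebraMap_eq, aeval_C, aeval_C]; rfl
    | add a b ha hb => rw [map_add, map_add, map_add, ha, hb, map_add]
    | mul_X a n ha =>
      rw [map_mul, map_mul, map_mul, ha, map_X, aeval_X, map_mul, aeval_X]
      congr 1
      fin_cases n
      · simp
      · simp
      · simp [lin]
  rw [Phi, Psi, map_sub, Ft, map_add, map_add, h1]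
  simp [qq, lin]

/-- The equations of the generic quartic. -/
noncomputable def gg (i : Fin 6) : U k := if i = 5 then X 5 else (Phi F).coeff i

theorem gg_five : gg F 5 = X 5 := if_pos rfl

theorem gg_of (n : ℕ) (hn : n < 5) : gg F ⟨n, by omega⟩ = (Phi F).coeff n := by
  rw [gg, if_neg]
  intro h
  have := congrArg Fin.val h
  simp at this
  omega

theorem gg_indep [CharZero k] : AlgebraicIndependent k (gg F) := by
  obtain ⟨t, ht⟩ : ∃ t : k, (aeval ![(Polynomial.X : Polynomial k), 1, 1] (pderiv 2 F)).coeff 0 + 4 * t ≠ 0 := by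
    by_cases h : (aeval ![(Polynomial.X : Polynomial k), 1, 1] (pderiv 2 F)).coeff 0 = 0
    · exact ⟨1, by rw [h]; norm_num⟩
    · exact ⟨0, by rwa [mul_zero, add_zero]⟩
  refine algebraicIndependent_of_dd ![0, 1, 1, 0, 0, t] _ fun v hv => ?_
  set p : Fin 6 → k := ![0, 1, 1, 0, 0, t] with hp
  have hv5 : v 5 = 0 := by
    have := hv 5
    rwa [gg_five, dd_X] at this
  set G : Polynomial k := aeval ![(Polynomial.X : Polynomial k), 1, 1] (pderiv 2 F) with hG
  have hD : DP p v (Phi F) = 2 * Polynomial.X ^ 2 * (Polynomial.C (v 2) * Polynomial.X ^ 2 +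
      Polynomial.C (v 3) * Polynomial.X + Polynomial.C (v 4)) -
      (G + 4 * Polynomial.C t) * (Polynomial.C (v 0) * Polynomial.X + Polynomial.C (v 1)) := by
    have e1 : (fun j => (![Polynomial.X, 1, Polynomial.C (X 0) * Polynomial.X + Polynomial.C (X 1)] j :
        Polynomial (U k)).map (ev p)) = ![(Polynomial.X : Polynomial k), 1, 1] := by
      funext j
      fin_cases j
      · simp
      · simp
      · simp [hp]
    have e2 : DP p v (Polynomial.C (X 0) * Polynomial.X + Polynomial.C (X 1)) =
        Polynomial.C (v 0) * Polynomial.X + Polynomial.C (v 1) := by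
      rw [DP_add, DP_mul, DP_C, DP_C, DP_X, dd_X, dd_X, mul_zero, add_zero, Polynomial.map_X]
    have e3 : DP p v (1 : Polynomial (U k)) = 0 := by
      rw [← Polynomial.C_1, DP_C, ← C_1, dd_C, Polynomial.C_0]
    have e4 : (Polynomial.C (X 0) * Polynomial.X + Polynomial.C (X 1) : Polynomial (U k)).map (ev p) = 1 := by
      simp [hp]
    have e5 : DP p v (aeval ![Polynomial.X, 1, Polynomial.C (X 0) * Polynomial.X + Polynomial.C (X 1)] F) =
        G * (Polynomial.C (v 0) * Polynomial.X + Polynomial.C (v 1)) := by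
      rw [DP_aeval, e1, Fin.sum_univ_three]
      simp only [Matrix.cons_val_zero, Matrix.cons_val_one, Matrix.cons_val_two, Matrix.head_cons, Matrix.tail_cons,
        Matrix.cons_val]
      rw [DP_X, e3, e2, mul_zero, mul_zero, zero_add, zero_add]
    have e6 : DP p v (Polynomial.C (X 2) * Polynomial.X ^ 2 + Polynomial.C (X 3) * Polynomial.X +
        Polynomial.C (X 4)) = Polynomial.C (v 2) * Polynomial.X ^ 2 + Polynomial.C (v 3) * Polynomial.X +
        Polynomial.C (v 4) := by
      rw [DP_add, DP_add, DP_C_mul_X_pow, DP_C, DP_mul, DP_C, DP_X, dd_X, dd_X, dd_X, mul_zero, add_zero,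
        Polynomial.map_X]
    have e7 : (Polynomial.C (X 2) * Polynomial.X ^ 2 + Polynomial.C (X 3) * Polynomial.X +
        Polynomial.C (X 4) : Polynomial (U k)).map (ev p) = Polynomial.X ^ 2 := by
      simp [hp]
    rw [Phi_eq, DP_sub, DP_sq, e6, e7, DP_add, e5, DP_mul, DP_four, DP_C, dd_X, e2, e4, hv5, Polynomial.map_C]
    simp [hp]
    ring
  have hc : ∀ n < 5, (DP p v (Phi F)).coeff n = 0 := by
    intro n hn
    rw [coeff_DP, ← gg_of F n hn]
    exact hv _
  set A : Polynomial k := G + 4 * Polynomial.C t with hA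
  have hA0 : A.coeff 0 ≠ 0 := by
    rw [hA, Polynomial.coeff_add, show (4 : Polynomial k) = Polynomial.C 4 from rfl, ← Polynomial.C_mul,
      Polynomial.coeff_C_zero]
    exact ht
  obtain ⟨x2, hx2⟩ : ∃ x, x = 2 * v 2 := ⟨_, rfl⟩
  obtain ⟨x3, hx3⟩ : ∃ x, x = 2 * v 3 := ⟨_, rfl⟩
  obtain ⟨x4, hx4⟩ : ∃ x, x = 2 * v 4 := ⟨_, rfl⟩
  have hD' : DP p v (Phi F) = Polynomial.C x2 * Polynomial.X ^ 4 + Polynomial.C x3 * Polynomial.X ^ 3 +
      Polynomial.C x4 * Polynomial.X ^ 2 - A * Polynomial.C (v 0) * Polynomial.X - A * Polynomial.C (v 1) := by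
    rw [hD, hx2, hx3, hx4, Polynomial.C_mul, Polynomial.C_mul, Polynomial.C_mul,
      show (Polynomial.C 2 : Polynomial k) = 2 from rfl]
    ring
  have c0 := hc 0 (by norm_num)
  rw [hD'] at c0
  simp [Polynomial.coeff_X_pow, hA0] at c0
  have c1 := hc 1 (by norm_num)
  rw [hD', c0] at c1
  simp [Polynomial.coeff_X_pow, hA0] at c1
  have c2 := hc 2 (by norm_num)
  rw [hD', c0, c1] at c2
  simp [Polynomial.coeff_X_pow] at c2
  rw [hx4, mul_eq_zero, or_iff_right two_ne_zero] at c2
  have c3 := hc 3 (by norm_num)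
  rw [hD', c0, c1] at c3
  simp [Polynomial.coeff_X_pow] at c3
  rw [hx3, mul_eq_zero, or_iff_right two_ne_zero] at c3
  have c4 := hc 4 (by norm_num)
  rw [hD', c0, c1] at c4
  simp [Polynomial.coeff_X_pow] at c4
  rw [hx2, mul_eq_zero, or_iff_right two_ne_zero] at c4
  funext i
  fin_cases i
  · exact c1
  · exact c0
  · exact c4
  · exact c3
  · exact c2
  · exact hv5

/-- Every quartic form in three variables is `ℓ H + q²`. -/
theorem exists_bitangent [IsAlgClosed k] [CharZero k] {F : MvPolynomial (Fin 3) k} (hF : F.IsHomogeneous 4) :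
    ∃ l H q : MvPolynomial (Fin 3) k, l.IsHomogeneous 1 ∧ H.IsHomogeneous 3 ∧ q.IsHomogeneous 2 ∧ l ≠ 0 ∧
      F = l * H + q ^ 2 := by
  classical
  let Ω := FractionRing (U k)
  let e : U k →ₐ[k] Ω := IsScalarTower.toAlgHom k (U k) Ω
  have he : Function.Injective e := IsFractionRing.injective (U k) Ω
  obtain ⟨P, hP⟩ := exists_place ((gg_indep F).map' he) 0
  -- the perturbation
  have hcoef : ∀ m, ∃ y : P.O, ι P y = coeff m (map e.toRingHom (Psi F)) ∧ ρ P y = 0 := by
    intro m
    have h0 : (Phi F).homogenize 4 = Psi F := Polynomial.homogenize_eq_of_isHomogeneous (Psi_homog hF) rfl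
    rw [coeff_map, ← h0, Polynomial.coeff_homogenize]
    split_ifs with h4
    · obtain ⟨h, h'⟩ := hP ⟨m 0, by omega⟩
      rw [← gg_of F (m 0) (by omega)]
      exact ⟨_, rfl, h'⟩
    · exact ⟨0, by rw [map_zero, map_zero], map_zero _⟩
  obtain ⟨Ψ, hΨ⟩ := exists_lift P (g := map e.toRingHom (Psi F)) (fun m => by
    obtain ⟨y, hy, -⟩ := hcoef m
    rw [← hy]
    exact y.2)
  have hΨ0 : map (ρ P) Ψ = 0 := by
    ext m
    rw [coeff_map, coeff_zero]
    obtain ⟨y, hy, hy0⟩ := hcoef m
    rw [← hy0]
    congr 1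
    apply ι_injective P
    rw [hy, ← hΨ, coeff_map]
  obtain ⟨t, ht, ht0⟩ : ∃ t : P.O, ι P t = e (X 5) ∧ ρ P t = 0 := by
    obtain ⟨h, h'⟩ := hP 5
    have h5 : (e ∘ gg F) 5 = e (X 5) := congrArg e (gg_five F)
    exact ⟨⟨_, h⟩, h5, h'⟩
  -- the line
  obtain ⟨i, -, hi0, hij⟩ := exists_dom P Finset.univ (![-e (X 0), -e (X 1), 1] : Fin 3 → Ω)
    ⟨2, Finset.mem_univ _, one_ne_zero⟩
  set a : Fin 3 → Ω := ![-e (X 0), -e (X 1), 1] with ha
  let B : Fin 3 → P.O := fun j => ⟨a j / a i, hij j (Finset.mem_univ _)⟩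
  have hBi : B i = 1 := Subtype.ext (div_self hi0)
  let b : Fin 3 → Ω := fun j => ι P (B j)
  have hbi : b i = 1 := by
    change ι P (B i) = 1
    rw [hBi, map_one]
  have hab : ∀ j, a j = a i * b j := fun j => by
    change a j = a i * (a j / a i)
    rw [mul_div_cancel₀ _ hi0]
  have hrel : sub b i 2 = C (e (X 0)) * sub b i 0 + C (e (X 1)) * sub b i 1 := by
    have h1 : ∑ l, C (a l) * sub b i l = 0 := by
      have h2 := congrArg (fun x => C (a i) * x) (sum_sub b i hbi)
      simp only [mul_zero, Finset.mul_sum, ← mul_assoc, ← C_mul, ← hab] at h2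
      exact h2
    rw [Fin.sum_univ_three] at h1
    simp only [ha, Matrix.cons_val_zero, Matrix.cons_val_one, Matrix.cons_val_two, Matrix.head_cons,
      Matrix.tail_cons, Matrix.cons_val, C_neg, C_1, one_mul] at h1
    linear_combination h1
  have hη : ∀ G : MvPolynomial (Fin 3) (U k), aeval ![sub b i 0, sub b i 1]
      (map e.toRingHom (aeval ![X 0, X 1, lin k] G)) = aeval (sub b i) (map e.toRingHom G) := by
    intro G
    induction G using MvPolynomial.induction_on with
    | C c => simp only [aeval_C, algebraMap_eq, map_C]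
    | add a b ha hb => simp only [map_add, ha, hb]
    | mul_X a n ha =>
      simp only [map_mul, ha, aeval_X, map_X]
      congr 1
      fin_cases n
      · simp
      · simp
      · simp only [lin, Matrix.cons_val_zero, Matrix.cons_val_one, Matrix.cons_val_two, Matrix.head_cons,
          Matrix.tail_cons, Matrix.cons_val, Fin.reduceFinMk]
        rw [hrel, map_add, map_mul, map_mul, map_C, map_C, map_X, map_X, map_add, map_mul, map_mul, aeval_C, aeval_C,
          aeval_X, aeval_X]
        rfl
  let R : MvPolynomial (Fin 3) P.O := aeval (sub B i) (map (algebraMap k P.O) F + C t * X 2 ^ 4) +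
    aeval ![sub B i 0, sub B i 1] Ψ
  have hbB : (fun l => ι P (B l)) = b := rfl
  have hR : (aeval ![sub b i 0, sub b i 1] (map e.toRingHom (qq k))) ^ 2 = map (ι P) R := by
    have h1 : map (ι P) R = aeval (sub b i) (map e.toRingHom (Ft F)) +
        aeval ![sub b i 0, sub b i 1] (map e.toRingHom (Psi F)) := by
      simp only [R]
      rw [map_add, map_aeval', map_aeval', hΨ]
      refine congrArg₂ (· + ·) (congrArg₂ (fun f x => aeval f x) ?_ ?_) (congrArg (fun f => aeval f _) ?_)
      · funext j
        rw [map_sub', hbB]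
      · rw [map_add, Ft, map_add, map_map, map_map, map_mul, map_mul, map_C, map_C, ht, map_pow, map_pow, map_X, map_X]
        congr 2
      · funext j
        fin_cases j
        · exact map_sub' _ _ _ _
        · exact map_sub' _ _ _ _
    rw [h1, ← hη, ← map_add, ← map_add, Psi, add_sub_cancel, map_pow, map_pow]
  obtain ⟨q, hq⟩ := gauss_sq P hR
  have hq2 : q ^ 2 = R := by
    apply map_injective _ (ι_injective P)
    rw [map_pow, hq, hR]
  have hqh : q.IsHomogeneous 2 := by
    refine IsHomogeneous.of_map (ι_injective P) ?_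
    rw [hq]
    have := ((qq_homog (k := k)).map e.toRingHom).aeval ![sub b i 0, sub b i 1] (n := 1) (by
      intro j
      fin_cases j
      · exact sub_homog b i 0
      · exact sub_homog b i 1)
    simpa using this
  have hfin : (map (ρ P) q) ^ 2 = aeval (sub (fun l => ρ P (B l)) i) F := by
    rw [← map_pow, hq2]
    simp only [R]
    rw [map_add, map_aeval', map_aeval', hΨ0, map_zero, add_zero, map_add, map_map, map_mul, map_C, ht0, C_0, zero_mul,
      add_zero]
    refine congrArg₂ (fun f x => aeval f x) ?_ ?_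
    · funext j
      rw [map_sub']
    · have : (ρ P).comp (algebraMap k P.O) = RingHom.id k := by
        ext c
        exact ρ_algebraMap P c
      rw [this, map_id]
  have hρi : ρ P (B i) = 1 := by rw [hBi, map_one]
  obtain ⟨H, hH, hFH⟩ := exists_homog_factor (n := 3) (lf_homog (fun l => ρ P (B l)))
    (A := F - (map (ρ P) q) ^ 2) (hF.sub ((hqh.map _).pow 2)) (by
      rw [hfin]
      exact dvd_sub_aeval _ i F)
  refine ⟨lf (fun l => ρ P (B l)), H, map (ρ P) q, lf_homog _, hH, hqh.map _, ?_, by rw [← hFH]; ring⟩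
  intro h0
  have h1 := congrArg (coeff (Finsupp.single i 1)) h0
  rw [lf, coeff_sum, Finset.sum_eq_single i, coeff_C_mul, coeff_X, hρi, one_mul, coeff_zero] at h1
  · rw [if_pos rfl] at h1
    exact one_ne_zero h1
  · intro l _ hl
    rw [coeff_C_mul, coeff_X', if_neg, mul_zero]
    intro h
    exact hl (Finsupp.single_left_injective one_ne_zero h)
  · intro h
    exact absurd (Finset.mem_univ _) h

end

end Groth.Agent.Surf.K460.YBit
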