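import Groth.Agent.Surf.K460.YVal

/-!
# Degenerating sections of Weierstrass families

`core`: a section of a Weierstrass family `w² = z³ + a z + b` with unbounded coordinates forces a singular point.
-/

set_option autoImplicit false

namespace Groth.Agent.Surf.K460.YCusp

open YPlace YVal Polynomial

/-- the point `(r, z)` is a singular point of `z³ + a z + b = 0` -/
def Sg {k : Type*} [Field k] (a b : k[X]) (r z : k) : Prop :=
  z ^ 3 + a.eval r * z + b.eval r = 0 ∧ 3 * z ^ 2 + a.eval r = 0 ∧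
    (derivative a).eval r * z + (derivative b).eval r = 0

section coeffs

variable {R : Type*} [CommRing R]

/-- `n₃ u³ + n₂ u² + n₁ u + n₀` -/
noncomputable def cub (n3 n2 n1 n0 : R) : R[X] := C n3 * X ^ 3 + C n2 * X ^ 2 + C n1 * X + C n0

/-- `l u² + m` -/
noncomputable def quad (l m : R) : R[X] := C l * X ^ 2 + C m

theorem cub_sq (n3 n2 n1 n0 : R) : (cub n3 n2 n1 n0) ^ 2 = C (n3 ^ 2) * X ^ 6 + C (2 * n3 * n2) * X ^ 5 +
    C (n2 ^ 2 + 2 * n3 * n1) * X ^ 4 + C (2 * n3 * n0 + 2 * n2 * n1) * X ^ 3 + C (n1 ^ 2 + 2 * n2 * n0) * X ^ 2 +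
    C (2 * n1 * n0) * X + C (n0 ^ 2) := by
  simp only [cub, C_mul, C_add, C_pow, show (C (2 : R) : R[X]) = 2 from rfl]
  ring

theorem quad_cube (l m : R) : (quad l m) ^ 3 = C (l ^ 3) * X ^ 6 + C (3 * l ^ 2 * m) * X ^ 4 +
    C (3 * l * m ^ 2) * X ^ 2 + C (m ^ 3) := by
  simp only [quad, C_mul, C_pow, show (C (3 : R) : R[X]) = 3 from rfl]
  ring

theorem coeff7 (c6 c5 c4 c3 c2 c1 c0 : R) (n : ℕ) :
    (C c6 * X ^ 6 + C c5 * X ^ 5 + C c4 * X ^ 4 + C c3 * X ^ 3 + C c2 * X ^ 2 + C c1 * X + C c0 : R[X]).coeff n =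
      if n = 0 then c0 else if n = 1 then c1 else if n = 2 then c2 else if n = 3 then c3 else if n = 4 then c4 else
        if n = 5 then c5 else if n = 6 then c6 else 0 := by
  rcases n with _ | _ | _ | _ | _ | _ | _ | n
  all_goals simp [coeff_X, coeff_X_pow, coeff_C]

end coeffs

theorem cusp1 {k : Type*} [Field k] [CharZero k] {n3 n2 n1 n0 l m α β : k} (hl : l ≠ 0)
    (h : (cub n3 n2 n1 n0) ^ 2 = (quad l m) ^ 3 + C α * quad l m + C β) :
    n3 ^ 2 = l ^ 3 ∧ n2 = 0 ∧ n0 = 0 ∧ 2 * n3 * n1 = 3 * l ^ 2 * m ∧ n1 ^ 2 = l * (3 * m ^ 2 + α) ∧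
      m ^ 3 + α * m + β = 0 := by
  have h1 : C (n3 ^ 2) * X ^ 6 + C (2 * n3 * n2) * X ^ 5 +
      C (n2 ^ 2 + 2 * n3 * n1) * X ^ 4 + C (2 * n3 * n0 + 2 * n2 * n1) * X ^ 3 + C (n1 ^ 2 + 2 * n2 * n0) * X ^ 2 +
      C (2 * n1 * n0) * X + C (n0 ^ 2) = (C (l ^ 3) * X ^ 6 + C 0 * X ^ 5 + C (3 * l ^ 2 * m) * X ^ 4 + C 0 * X ^ 3 +
      C (3 * l * m ^ 2 + α * l) * X ^ 2 + C 0 * X + C (m ^ 3 + α * m + β) : k[X]) := by
    rw [← cub_sq, h, quad_cube]
    simp only [quad, C_add, C_mul, C_0]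
    ring
  have hc := fun n => congrArg (fun f : k[X] => f.coeff n) h1
  simp only [coeff7] at hc
  have c6 := hc 6
  have c5 := hc 5
  have c4 := hc 4
  have c3 := hc 3
  have c2 := hc 2
  have c0 := hc 0
  norm_num at c6 c5 c4 c3 c2 c0
  have hn3 : n3 ≠ 0 := by
    rintro rfl
    rw [zero_pow two_ne_zero] at c6
    exact pow_ne_zero 3 hl c6.symm
  have hn2 : n2 = 0 := by
    rcases c5 with h | h
    · exact absurd h hn3
    · exact h
  subst hn2
  simp only [mul_zero, zero_mul, add_zero, mul_eq_zero, two_ne_zero, false_or, hn3, zero_pow two_ne_zero, zero_add,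
    ne_eq, OfNat.ofNat_ne_zero, not_false_eq_true] at c4 c3 c2
  subst c3
  refine ⟨c6, rfl, rfl, c4, by rw [c2]; ring, ?_⟩
  rw [← c0]
  ring

theorem cusp0 {k : Type*} [Field k] [CharZero k] {n3 n2 n1 n0 l m : k} (hl : l ≠ 0)
    (h : (cub n3 n2 n1 n0) ^ 2 = (quad l m) ^ 3) : m = 0 ∧ n2 = 0 ∧ n1 = 0 ∧ n0 = 0 := by
  obtain ⟨-, h2, h0, -, h1, hm⟩ := cusp1 (α := 0) (β := 0) hl (by rw [h, C_0]; ring)
  rw [zero_mul, add_zero, add_zero] at hm
  have hm0 : m = 0 := by simpa using hm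
  refine ⟨hm0, h2, ?_, h0⟩
  rw [hm0] at h1
  simpa using h1

/-- Scaling of the variable. -/
theorem scale {R : Type*} [CommRing R] [IsDomain R] {D b0 b1 b2 b3 b4 m2 n3 : R} (hD : D ≠ 0) {A4 A6 : R[X]}
    (h : (cub n3 (D * b2) (D ^ 2 * b3) (D ^ 3 * b4)) ^ 2 = (quad m2 (D ^ 2 * b1)) ^ 3 +
      C ((D * b0) ^ 4) * A4 * quad m2 (D ^ 2 * b1) + C ((D * b0) ^ 6) * A6) :
    (cub n3 b2 b3 b4) ^ 2 = (quad m2 b1) ^ 3 + C (b0 ^ 4) * A4.comp (C D * X) * quad m2 b1 +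
      C (b0 ^ 6) * A6.comp (C D * X) := by
  have hD6 : (C (D ^ 6) : R[X]) ≠ 0 := by
    rw [Ne, C_eq_zero]
    exact pow_ne_zero _ hD
  have e1 : (cub n3 (D * b2) (D ^ 2 * b3) (D ^ 3 * b4)).comp (C D * X) = C (D ^ 3) * cub n3 b2 b3 b4 := by
    simp only [cub, add_comp, mul_comp, C_comp, pow_comp, X_comp, C_mul, C_pow]
    ring
  have e2 : (quad m2 (D ^ 2 * b1)).comp (C D * X) = C (D ^ 2) * quad m2 b1 := by
    simp only [quad, add_comp, mul_comp, C_comp, pow_comp, X_comp, C_mul, C_pow]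
    ring
  have h2 := congrArg (fun f : R[X] => f.comp (C D * X)) h
  simp only [add_comp, mul_comp, pow_comp, C_comp, e1, e2] at h2
  apply mul_left_cancel₀ hD6
  simp only [C_pow, C_mul] at h2 ⊢
  linear_combination h2

section place

variable {k Ω : Type*} [Field k] [Field Ω] [Algebra k Ω] (P : Place k Ω)

theorem mem_of_pow {x : Ω} {n : ℕ} (hn : n ≠ 0) (h : x ^ n ∈ P.O) : x ∈ P.O := by
  by_contra hx
  obtain ⟨h1, h2⟩ := inv_of_not_mem P hx
  have h3 : ρ P ((⟨x⁻¹, h1⟩ : P.O) ^ n * ⟨x ^ n, h⟩) = 0 := by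
    rw [map_mul, map_pow, h2, zero_pow hn, zero_mul]
  have hx0 : x ≠ 0 := by
    rintro rfl
    exact hx (zero_mem _)
  have h4 : (⟨x⁻¹, h1⟩ : P.O) ^ n * ⟨x ^ n, h⟩ = 1 := by
    apply Subtype.ext
    change (x⁻¹) ^ n * x ^ n = 1
    rw [← mul_pow, inv_mul_cancel₀ hx0, one_pow]
  rw [h4, map_one] at h3
  exact one_ne_zero h3

theorem map_cub (n3 n2 n1 n0 : P.O) : (cub n3 n2 n1 n0).map (ρ P) = cub (ρ P n3) (ρ P n2) (ρ P n1) (ρ P n0) := by
  simp [cub]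

theorem map_quad (l m : P.O) : (quad l m).map (ρ P) = quad (ρ P l) (ρ P m) := by
  simp [quad]

/-- The coefficients are divisible by the powers of `π`. -/
theorem divis [IsAlgClosed Ω] [CharZero k] {m2 μ n3 n2 n1 n0 π : P.O} {A4 A6 : Polynomial P.O} (hπ : π ≠ 0)
    (hm2 : ρ P m2 ≠ 0)
    (h : (cub n3 n2 n1 n0) ^ 2 = (quad m2 μ) ^ 3 + C (π ^ 4) * A4 * quad m2 μ + C (π ^ 6) * A6) :
    ∃ b1 b2 b3 b4 : P.O, μ = π ^ 2 * b1 ∧ n2 = π * b2 ∧ n1 = π ^ 2 * b3 ∧ n0 = π ^ 3 * b4 := by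
  obtain ⟨s1, hs1⟩ := IsAlgClosed.exists_pow_nat_eq (μ : Ω) (n := 2) (by norm_num)
  obtain ⟨s2, hs2⟩ := IsAlgClosed.exists_pow_nat_eq (n1 : Ω) (n := 2) (by norm_num)
  obtain ⟨s3, hs3⟩ := IsAlgClosed.exists_pow_nat_eq (n0 : Ω) (n := 3) (by norm_num)
  have m1 : s1 ∈ P.O := mem_of_pow P two_ne_zero (by rw [hs1]; exact μ.2)
  have m2' : s2 ∈ P.O := mem_of_pow P two_ne_zero (by rw [hs2]; exact n1.2)
  have m3 : s3 ∈ P.O := mem_of_pow P three_ne_zero (by rw [hs3]; exact n0.2)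
  have hπ' : (π : Ω) ≠ 0 := fun h => hπ (Subtype.ext h)
  let a : Fin 5 → P.O := ![π, ⟨s1, m1⟩, n2, ⟨s2, m2'⟩, ⟨s3, m3⟩]
  obtain ⟨i, -, hi0, hij⟩ := exists_dom P Finset.univ (fun j => (a j : Ω)) ⟨0, Finset.mem_univ _, hπ'⟩
  let b : Fin 5 → P.O := fun j => ⟨(a j : Ω) / a i, hij j (Finset.mem_univ _)⟩
  have hab : ∀ j, a j = a i * b j := fun j => Subtype.ext (by
    change (a j : Ω) = a i * (a j / a i)
    rw [mul_div_cancel₀ _ hi0])
  have hai : a i ≠ 0 := fun h => hi0 (by rw [h]; rfl)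
  have hbi : b i = 1 := Subtype.ext (div_self hi0)
  have e0 : π = a i * b 0 := hab 0
  have e1 : μ = (a i) ^ 2 * (b 1) ^ 2 := by
    rw [← mul_pow, ← hab 1]
    exact Subtype.ext hs1.symm
  have e2 : n2 = a i * b 2 := hab 2
  have e3 : n1 = (a i) ^ 2 * (b 3) ^ 2 := by
    rw [← mul_pow, ← hab 3]
    exact Subtype.ext hs2.symm
  have e4 : n0 = (a i) ^ 3 * (b 4) ^ 3 := by
    rw [← mul_pow, ← hab 4]
    exact Subtype.ext hs3.symm
  by_cases hb0 : ρ P (b 0) = 0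
  · exfalso
    rw [e0, e1, e2, e3, e4] at h
    have h1 := congrArg (Polynomial.map (ρ P)) (scale hai h)
    simp only [Polynomial.map_add, Polynomial.map_mul, Polynomial.map_pow, map_C, map_pow, hb0, map_cub, map_quad] at h1
    simp only [C_0, zero_pow, ne_eq, OfNat.ofNat_ne_zero, not_false_eq_true, zero_mul, add_zero] at h1
    obtain ⟨c1, c2, c3, c4⟩ := cusp0 hm2 h1
    have key : ∀ j, ρ P (b j) = 0 := by
      intro j
      fin_cases j
      · exact hb0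
      · exact pow_eq_zero_iff two_ne_zero |>.1 c1
      · exact c2
      · exact pow_eq_zero_iff two_ne_zero |>.1 c3
      · exact pow_eq_zero_iff three_ne_zero |>.1 c4
    have := key i
    rw [hbi, map_one] at this
    exact one_ne_zero this
  · obtain ⟨y, hy⟩ := exists_inv P hb0
    have ha : a i = π * y := by rw [e0, mul_assoc, hy, mul_one]
    refine ⟨(y * b 1) ^ 2, y * b 2, (y * b 3) ^ 2, (y * b 4) ^ 3, ?_, ?_, ?_, ?_⟩
    · rw [e1, ha]; ring
    · rw [e2, ha]; ring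
    · rw [e3, ha]; ring
    · rw [e4, ha]; ring

theorem exists_odd {R : Type*} [CommRing R] (A : R[X]) :
    ∃ B : R[X], A - A.comp (-X) = 2 * X * B ∧ B.coeff 0 = A.coeff 1 := by
  induction A using Polynomial.induction_on' with
  | add p q hp hq =>
    obtain ⟨B, hB, hB'⟩ := hp
    obtain ⟨B', hB'', hB'''⟩ := hq
    refine ⟨B + B', ?_, by rw [coeff_add, coeff_add, hB', hB''']⟩
    rw [add_comp]
    linear_combination hB + hB''
  | monomial n a =>
    have h1 : (monomial n a : R[X]).comp (-X) = C a * (-X) ^ n := monomial_comp n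
    rw [h1, ← C_mul_X_pow_eq_monomial]
    rcases Nat.even_or_odd n with hn | hn
    · refine ⟨0, ?_, ?_⟩
      · rw [hn.neg_pow]; ring
      · rw [coeff_zero, coeff_C_mul, coeff_X_pow, if_neg, mul_zero]
        rintro rfl
        exact absurd hn (by decide)
    · obtain ⟨m, rfl⟩ := hn
      refine ⟨C a * X ^ (2 * m), ?_, ?_⟩
      · rw [neg_pow, Odd.neg_one_pow ⟨m, rfl⟩]; ring
      · rw [coeff_C_mul, coeff_C_mul, coeff_X_pow, coeff_X_pow]
        rcases Nat.eq_zero_or_pos m with rfl | hm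
        · simp
        · rw [if_neg (by omega), if_neg (by omega)]

theorem map_comp_zero {R S : Type*} [CommRing R] [CommRing S] (f : R →+* S) {x : R} (hx : f x = 0) (A : R[X]) :
    (A.comp (C x * X)).map f = C (f (A.coeff 0)) := by
  rw [Polynomial.map_comp, Polynomial.map_mul, map_C, hx, C_0, zero_mul, comp_zero, ← coeff_zero_eq_eval_zero,
    coeff_map]

theorem comp_neg {R : Type*} [CommRing R] (x : R) (A : R[X]) :
    (A.comp (C x * X)).comp (-X) = (A.comp (-X)).comp (C x * X) := by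
  rw [comp_assoc, comp_assoc]
  congr 1
  simp only [mul_comp, C_comp, X_comp, neg_comp]
  ring

/-- The odd part of the equation. -/
theorem odd_part {R : Type*} [CommRing R] [IsDomain R] (h2 : (2 : R) ≠ 0) {m2 b1 n3 b2 b3 b4 x : R} {A4 A6 : R[X]}
    (h : (cub n3 b2 b3 b4) ^ 2 = (quad m2 b1) ^ 3 + A4.comp (C x * X) * quad m2 b1 + A6.comp (C x * X))
    {B4 B6 : R[X]} (hB4 : A4 - A4.comp (-X) = 2 * X * B4) (hB6 : A6 - A6.comp (-X) = 2 * X * B6) {v : R}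
    (hv : n3 * v ^ 2 + b3 = 0) (hx : x ≠ 0) : B4.eval (x * v) * (m2 * v ^ 2 + b1) + B6.eval (x * v) = 0 := by
  have h5 := congrArg (fun f : R[X] => f.comp (-X)) h
  simp only [add_comp, mul_comp, pow_comp, comp_neg] at h5
  have g1 : (cub n3 b2 b3 b4).comp (-X) = C b2 * X ^ 2 + C b4 - X * (C n3 * X ^ 2 + C b3) := by
    simp only [cub, add_comp, mul_comp, pow_comp, C_comp, X_comp]
    ring
  have g1' : cub n3 b2 b3 b4 = C b2 * X ^ 2 + C b4 + X * (C n3 * X ^ 2 + C b3) := by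
    rw [cub]; ring
  have g2 : (quad m2 b1).comp (-X) = quad m2 b1 := by
    simp only [quad, add_comp, mul_comp, pow_comp, C_comp, X_comp]
    ring
  have g4 := congrArg (fun f : R[X] => f.comp (C x * X)) hB4
  have g6 := congrArg (fun f : R[X] => f.comp (C x * X)) hB6
  simp only [sub_comp, mul_comp, X_comp, ofNat_comp] at g4 g6
  rw [g1, g2] at h5
  rw [g1'] at h
  have hchar : (2 : R[X]) ≠ 0 := by
    intro h0
    apply h2
    have := congrArg (fun f : R[X] => f.coeff 0) h0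
    simpa using this
  have h6 : (2 * X) * (2 * (C n3 * X ^ 2 + C b3) * (C b2 * X ^ 2 + C b4) -
      C x * (B4.comp (C x * X) * quad m2 b1 + B6.comp (C x * X))) = 0 := by
    linear_combination h - h5 + quad m2 b1 * g4 + g6
  have h7 := (mul_eq_zero.1 h6).resolve_left (mul_ne_zero hchar X_ne_zero)
  have h8 := congrArg (Polynomial.eval v) h7
  simp only [eval_sub, eval_mul, eval_add, eval_C, eval_pow, eval_X, eval_ofNat, eval_comp, eval_zero, quad] at h8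
  rw [hv, mul_zero, zero_mul, zero_sub, neg_eq_zero] at h8
  exact (mul_eq_zero.1 h8).resolve_left hx

theorem numer {k : Type*} [Field k] [CharZero k] {l n i r m α β : k} (hl : l ≠ 0) (k1 : n * i = 1)
    (f1 : n ^ 2 = l ^ 3) (f4 : 2 * n * r = 3 * l ^ 2 * m) (f5 : r ^ 2 = l * (3 * m ^ 2 + α))
    (f6 : m ^ 3 + α * m + β = 0) :
    (l * (-(r * i)) + m) ^ 3 + α * (l * (-(r * i)) + m) + β = 0 ∧ 3 * (l * (-(r * i)) + m) ^ 2 + α = 0 := by
  have k2 : l * (r * i) = 3 / 2 * m := by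
    have : l ^ 2 * (l * (r * i)) = l ^ 2 * (3 / 2 * m) := by
      linear_combination (-(r * i)) * f1 + (n * r) * k1 + f4 / 2
    exact mul_left_cancel₀ (pow_ne_zero 2 hl) this
  have k3 : α = -3 / 4 * m ^ 2 := by
    have : l ^ 4 * α = l ^ 4 * (-3 / 4 * m ^ 2) := by
      linear_combination (-(l ^ 3)) * f5 - r ^ 2 * f1 + (n * r / 2 + 3 * l ^ 2 * m / 4) * f4
    exact mul_left_cancel₀ (pow_ne_zero 4 hl) this
  have k4 : l * (-(r * i)) + m = -(1 / 2) * m := by linear_combination -k2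
  rw [k4]
  rw [k3] at f6 ⊢
  exact ⟨by linear_combination f6, by ring⟩

theorem ρ_eval {x : P.O} (hx : ρ P x = 0) (f : Polynomial P.O) : ρ P (f.eval x) = ρ P (f.coeff 0) := by
  rw [← eval_map_apply, hx, ← coeff_zero_eq_eval_zero, coeff_map]

/-- The centred case. -/
theorem centered [IsAlgClosed Ω] [CharZero k] {m2 μ n3 n2 n1 n0 π : P.O} {A4 A6 : Polynomial P.O} (hπ : π ≠ 0)
    (hπ0 : ρ P π = 0) (hm2 : ρ P m2 ≠ 0)
    (h : (cub n3 n2 n1 n0) ^ 2 = (quad m2 μ) ^ 3 + C (π ^ 4) * A4 * quad m2 μ + C (π ^ 6) * A6) :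
    ∃ z : k, z ^ 3 + ρ P (A4.coeff 0) * z + ρ P (A6.coeff 0) = 0 ∧ 3 * z ^ 2 + ρ P (A4.coeff 0) = 0 ∧
      ρ P (A4.coeff 1) * z + ρ P (A6.coeff 1) = 0 := by
  obtain ⟨b1, b2, b3, b4, e1, e2, e3, e4⟩ := divis P hπ hm2 h
  rw [e1, e2, e3, e4] at h
  have h3 : (cub n3 b2 b3 b4) ^ 2 = (quad m2 b1) ^ 3 + A4.comp (C π * X) * quad m2 b1 + A6.comp (C π * X) := by
    have := scale (D := π) (b0 := 1) (b1 := b1) (b2 := b2) (b3 := b3) (b4 := b4) (m2 := m2) (n3 := n3) (A4 := A4)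
      (A6 := A6) hπ (by simpa only [mul_one] using h)
    simpa only [one_pow, C_1, one_mul] using this
  have h4 := congrArg (Polynomial.map (ρ P)) h3
  simp only [Polynomial.map_add, Polynomial.map_mul, Polynomial.map_pow, map_cub, map_quad,
    map_comp_zero (ρ P) hπ0] at h4
  obtain ⟨f1, f2, f3, f4, f5, f6⟩ := cusp1 hm2 h4
  have hn3 : ρ P n3 ≠ 0 := by
    intro h0
    rw [h0, zero_pow two_ne_zero] at f1
    exact pow_ne_zero 3 hm2 f1.symm
  obtain ⟨y, hy⟩ := exists_inv P hn3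
  obtain ⟨B4, hB4, hB4'⟩ := exists_odd A4
  obtain ⟨B6, hB6, hB6'⟩ := exists_odd A6
  have hchar : (2 : P.O) ≠ 0 := by
    intro h0
    have := congrArg (ρ P) h0
    rw [map_ofNat, map_zero] at this
    exact two_ne_zero this
  obtain ⟨u, hu⟩ := IsAlgClosed.exists_pow_nat_eq (-(b3 * y : P.O) : Ω) (n := 2) (by norm_num)
  have huO : u ∈ P.O := mem_of_pow P two_ne_zero (by rw [hu]; exact (-(b3 * y)).2)
  obtain ⟨v, hv2⟩ : ∃ v : P.O, v ^ 2 = -(b3 * y) := ⟨⟨u, huO⟩, Subtype.ext hu⟩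
  have h9 : n3 * v ^ 2 + b3 = 0 := by
    rw [hv2]
    linear_combination (-b3) * hy
  have h10 := odd_part hchar h3 hB4 hB6 h9 hπ
  have hπv : ρ P (π * v) = 0 := by rw [map_mul, hπ0, zero_mul]
  have h11 := congrArg (ρ P) h10
  rw [map_add, map_mul, ρ_eval P hπv, ρ_eval P hπv, hB4', hB6', map_zero] at h11
  have k1 : ρ P n3 * ρ P y = 1 := by rw [← map_mul, hy, map_one]
  have h12 : ρ P (m2 * v ^ 2 + b1) = ρ P m2 * (-(ρ P b3 * ρ P y)) + ρ P b1 := by
    rw [hv2, map_add, map_mul, map_neg, map_mul]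
  obtain ⟨r1, r2⟩ := numer hm2 k1 f1 f4 f5 f6
  rw [← h12] at r1 r2
  exact ⟨_, r1, r2, h11⟩

end place

end Groth.Agent.Surf.K460.YCusp
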