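import Groth.Agent.Surf.K460.ZGeo
import Groth.Agent.Fdesc.LocGenAmple

/-!
# Rational functions as quotients of sections of an ample invertible module

* `exists_rat`: a section of an invertible module as a rational function, with its generating locus;
* `exists_frac`: if `u / δ_q^n` is regular at `q`, there are `m` and `c ∈ H⁰(D^m)` not vanishing at `q` with
  `c u ∈ H⁰(D^(m+n))` (`D` ample).
-/

set_option autoImplicit false
universe u
open CategoryTheory CategoryTheory.Limits AlgebraicGeometry TopologicalSpace Opposite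

namespace Groth.Agent.Surf.K460.YFrac

open Groth.Agent Groth.Agent.Fdesc.LocGen Groth.Agent.Lefpen.H725.CocDef Groth.Agent.Lefpen.H521.CartierCoc
open K801.Cousin K801.CousinH1 K801.LEq SurfKit DelPezzo ZSec ZCurve ZGeo K464.Curves K464.Base

attribute [local instance] algK

variable {X : Scheme.{u}} [IsIntegral X]

theorem exists_affine_le (U : X.Opens) (x : X) (hx : x ∈ U) : ∃ V : X.affineOpens, x ∈ V.1 ∧ V.1 ≤ U := by
  obtain ⟨V, hV, hxV, hVU⟩ := exists_isAffineOpen_mem_and_subset (U := U) (x := x) hx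
  exact ⟨⟨V, hV⟩, hxV, hVU⟩

theorem exists_pow_mul {U : X.Opens} (hU : IsAffineOpen U) (hη : genericPoint X ∈ U) (w : Γ(X, U))
    (c : X.functionField) (h : ∀ x ∈ U, UnitAt x (ff U hη w) → RegAt x c) :
    ∃ (n : ℕ) (b : Γ(X, U)), ff U hη b = ff U hη w ^ n * c := by
  by_cases hw : ff U hη w = 0
  · exact ⟨1, 0, by rw [hw, map_zero, pow_one, zero_mul]⟩
  have hηw : genericPoint X ∈ X.basicOpen w := by
    rw [Scheme.mem_basicOpen X w _ hη, isUnit_iff_ne_zero]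
    exact hw
  obtain ⟨t, ht⟩ := exists_of_regAt hηw (u := c) fun x hx => h x (X.basicOpen_le w hx)
    ((unitAt_iff (X.basicOpen_le w hx) w).2 hx)
  obtain ⟨n, b, hb⟩ := exists_eq_pow_mul_of_isAffineOpen X U hU w t
  have hb' : ores (X.basicOpen_le w) b = ores (X.basicOpen_le w) w ^ n * t := hb
  refine ⟨n, b, ?_⟩
  have h1 := congrArg (ff (X.basicOpen w) hηw) hb'
  rw [map_mul, map_pow, ff_ores, ff_ores, ht] at h1
  exact h1

/-- A section as a rational function. -/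
theorem exists_rat {L : X.Modules} {c : X → X.functionField} (hc : HasCoc L c)
    (s : Coh.structureModule X ⟶ L) : ∃ b : X.functionField, (∀ x, RegAt x (b / c x)) ∧
      ∀ x, x ∈ CohB1.genLocus L s ↔ UnitAt x (b / c x) := by
  obtain ⟨E⟩ := nonempty_dat hc
  let t : Γ(L, ⊤) := sec s ⊤
  have hval : ∀ x : X, E.value t (⟨genericPoint X, trivial⟩ : (⊤ : X.Opens)) =
      ff (⊤ ⊓ E.U x) ⟨trivial, E.hη x⟩ (E.coef t x) * c x := fun x =>
    E.value_const t (⟨genericPoint X, trivial⟩ : (⊤ : X.Opens)) ⟨x, trivial⟩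
  have hval' : ∀ x : X, E.value t (⟨genericPoint X, trivial⟩ : (⊤ : X.Opens)) / c x =
      ff (⊤ ⊓ E.U x) ⟨trivial, E.hη x⟩ (E.coef t x) := fun x => by
    rw [hval x, mul_div_cancel_right₀ _ (E.h0 x)]
  refine ⟨E.value t (⟨genericPoint X, trivial⟩ : (⊤ : X.Opens)), fun x => ?_, fun x => ?_⟩
  · rw [hval' x]
    exact ⟨⊤ ⊓ E.U x, ⟨trivial, E.hU x⟩, _, _, rfl⟩
  · have h1 := E.coef_spec t x
    have h2 : sec s (⊤ ⊓ E.U x) = E.coef t x • res L (inf_le_right : ⊤ ⊓ E.U x ≤ E.U x) (E.e x) := by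
      rw [← h1]
      exact (res_sec s inf_le_left).symm
    have h3 := genLocus_inf_eq s ((E.gen x).res inf_le_right) h2
    rw [hval' x, unitAt_iff (show x ∈ ⊤ ⊓ E.U x from ⟨trivial, E.hU x⟩), ← h3]
    exact ⟨fun h => ⟨h, trivial, E.hU x⟩, fun h => h.1⟩

theorem unitAt_one (x : X) : UnitAt x (1 : X.functionField) :=
  ⟨⊤, trivial, trivial, 1, isUnit_one, map_one _⟩

theorem unitAt_pow {x : X} {u : X.functionField} (h : UnitAt x u) (n : ℕ) : UnitAt x (u ^ n) := by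
  induction n with
  | zero => rw [pow_zero]; exact unitAt_one x
  | succ n ih => rw [pow_succ]; exact unitAt_mul ih h

/-- Extension of a rational function after multiplication by a power of a section. -/
theorem exists_pow_mem [CompactSpace X] {c e : X → X.functionField} (hc0 : ∀ x, c x ≠ 0)
    (hcl : ∀ x, ∃ U : X.Opens, x ∈ U ∧ ∀ y ∈ U, UnitAt y (c x / c y))
    (he0 : ∀ x, e x ≠ 0) (hel : ∀ x, ∃ U : X.Opens, x ∈ U ∧ ∀ y ∈ U, UnitAt y (e x / e y))
    {b u : X.functionField} (hb : ∀ x, RegAt x (b / c x)) (hu : ∀ x, UnitAt x (b / c x) → RegAt x (u / e x)) :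
    ∃ m : ℕ, ∀ x, RegAt x (b ^ m * u / (c x ^ m * e x)) := by
  have key : ∀ x : X, ∃ (W : X.Opens) (n : ℕ), x ∈ W ∧ ∀ m, n ≤ m → ∀ y ∈ W,
      RegAt y (b ^ m * u / (c y ^ m * e y)) := by
    intro x
    obtain ⟨U₁, hx₁, hU₁⟩ := hcl x
    obtain ⟨U₂, hx₂, hU₂⟩ := hel x
    obtain ⟨U₃, hx₃, hη₃, g, hg⟩ := hb x
    obtain ⟨W, hxW, hW⟩ := exists_affine_le (U₁ ⊓ U₂ ⊓ U₃) x ⟨⟨hx₁, hx₂⟩, hx₃⟩
    have k1 : W.1 ≤ U₁ := hW.trans (inf_le_left.trans inf_le_left)
    have k2 : W.1 ≤ U₂ := hW.trans (inf_le_left.trans inf_le_right)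
    have k3 : W.1 ≤ U₃ := hW.trans inf_le_right
    have hηW : genericPoint X ∈ W.1 := gen_mem hxW
    have hfw : ff W.1 hηW (ores k3 g) = b / c x := by rw [ff_ores, hg]
    obtain ⟨n, r, hr⟩ := exists_pow_mul W.2 hηW (ores k3 g) (u / e x) (by
      intro y hy huy
      rw [hfw] at huy
      have h1 : UnitAt y (b / c y) := by
        have := unitAt_mul huy (hU₁ y (k1 hy))
        rwa [div_mul_div_cancel₀ (hc0 x)] at this
      have h2 := regAt_mul (hu y h1) (unitAt_regAt (unitAt_inv (hU₂ y (k2 hy))))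
      rwa [inv_div, div_mul_div_cancel₀ (he0 y)] at h2)
    rw [hfw] at hr
    refine ⟨W.1, n, hxW, fun m hm y hy => ?_⟩
    have h1 : RegAt y ((b / c x) ^ n * (u / e x)) := by
      rw [← hr]
      exact ⟨W.1, hy, hηW, r, rfl⟩
    have h2 := regAt_mul (regAt_mul (regAt_mul (regAt_pow (hb y) (m - n)) h1)
      (regAt_pow (unitAt_regAt (hU₁ y (k1 hy))) n)) (unitAt_regAt (hU₂ y (k2 hy)))
    convert h2 using 1
    have e1 := hc0 x
    have e2 := hc0 y
    have e3 := he0 x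
    have e4 := he0 y
    obtain ⟨l, rfl⟩ := Nat.exists_eq_add_of_le hm
    rw [Nat.add_sub_cancel_left, pow_add, pow_add]
    simp only [div_pow]
    field_simp
  choose W n hxW hW using key
  obtain ⟨t, ht⟩ := CompactSpace.elim_nhds_subcover (fun x => (W x : Set X))
    (fun x => (W x).isOpen.mem_nhds (hxW x))
  refine ⟨t.sup n, fun x => ?_⟩
  have hx : x ∈ ⋃ y ∈ t, (W y : Set X) := by rw [ht]; trivial
  rw [Set.mem_iUnion₂] at hx
  obtain ⟨y, hy, hxy⟩ := hx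
  exact hW y _ (Finset.le_sup hy) x hxy

/-- Fractions of sections of an ample invertible module. -/
theorem exists_frac {D : X.Modules} (hD : CohB1.IsAmple D) {δ : X → X.functionField} (hδ : HasCoc D δ)
    {q : X} {n : ℤ} {u : X.functionField} (hu : RegAt q (u / δ q ^ n)) :
    ∃ (m : ℕ) (c : X.functionField), (∀ x, RegAt x (c / δ x ^ (m : ℤ))) ∧ UnitAt q (c / δ q ^ (m : ℤ)) ∧
      ∀ x, RegAt x (c * u / δ x ^ ((m : ℤ) + n)) := by
  have : CompactSpace X := hD.2.1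
  obtain ⟨U₁, hq₁, hU₁⟩ := zpow_loc hD.1 hδ n q
  obtain ⟨U₂, hq₂, hU₂⟩ := regAt_open hu
  obtain ⟨N, s, hqs, hs, -⟩ := IsAmple.exists_genLocus_le hD (x := q) (W := U₁ ⊓ U₂) ⟨hq₁, hq₂⟩
  obtain ⟨b, hb, hbs⟩ := exists_rat (hasCoc_pow hδ (N + 1)) s
  obtain ⟨m, hm⟩ := exists_pow_mem (c := fun x => δ x ^ (N + 1)) (e := fun x => δ x ^ n)
    (fun x => pow_ne_zero _ (hδ.1 x)) (by
      intro x
      obtain ⟨U, hx, hU⟩ := zpow_loc hD.1 hδ ((N + 1 : ℕ) : ℤ) x
      exact ⟨U, hx, fun y hy => by simpa only [zpow_natCast] using hU y hy⟩)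
    (fun x => zpow_ne_zero _ (hδ.1 x)) (zpow_loc hD.1 hδ n) hb (u := u) (by
      intro x hx
      have hxs := hs ((hbs x).2 hx)
      have h1 := regAt_mul (hU₂ x hxs.2) (unitAt_regAt (hU₁ x hxs.1))
      rwa [div_mul_div_cancel₀ (zpow_ne_zero _ (hδ.1 q))] at h1)
  have hpow : ∀ x, δ x ^ (((N + 1) * m : ℕ) : ℤ) = (δ x ^ (N + 1)) ^ m := fun x => by
    rw [zpow_natCast, pow_mul]
  refine ⟨(N + 1) * m, b ^ m, fun x => ?_, ?_, fun x => ?_⟩
  · rw [hpow, ← div_pow]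
    exact regAt_pow (hb x) m
  · rw [hpow, ← div_pow]
    exact unitAt_pow ((hbs q).1 hqs) m
  · rw [zpow_add₀ (hδ.1 x), hpow]
    exact hm x

end Groth.Agent.Surf.K460.YFrac
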