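import Mathlib

/-!
# The Jacobian criterion for algebraic independence in characteristic zero
-/

set_option autoImplicit false

namespace Groth.Agent.Surf.K460.YJac

open MvPolynomial

variable {k : Type*} [Field k] {σ : Type*} [Fintype σ]

/-- The derivative at `p` in the direction `v`. -/
noncomputable def dd (p v : σ → k) (u : MvPolynomial σ k) : k := ∑ j, v j * eval p (pderiv j u)

variable (p v : σ → k)

theorem dd_add (a b : MvPolynomial σ k) : dd p v (a + b) = dd p v a + dd p v b := by
  simp only [dd, map_add, mul_add, Finset.sum_add_distrib]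

theorem dd_neg (a : MvPolynomial σ k) : dd p v (-a) = -dd p v a := by
  simp only [dd, map_neg, mul_neg, Finset.sum_neg_distrib]

theorem dd_zero : dd p v (0 : MvPolynomial σ k) = 0 := by
  simp only [dd, map_zero, mul_zero, Finset.sum_const_zero]

theorem dd_sub (a b : MvPolynomial σ k) : dd p v (a - b) = dd p v a - dd p v b := by
  rw [sub_eq_add_neg, dd_add, dd_neg, sub_eq_add_neg]

theorem dd_sum {ι : Type*} (s : Finset ι) (f : ι → MvPolynomial σ k) :
    dd p v (∑ i ∈ s, f i) = ∑ i ∈ s, dd p v (f i) := by
  classical
  induction s using Finset.induction_on with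
  | empty => simp [dd_zero]
  | insert a s ha ih => rw [Finset.sum_insert ha, Finset.sum_insert ha, dd_add, ih]

theorem dd_mul (a b : MvPolynomial σ k) : dd p v (a * b) = dd p v a * eval p b + eval p a * dd p v b := by
  simp only [dd, pderiv_mul, map_add, map_mul, mul_add, Finset.sum_add_distrib, Finset.sum_mul, Finset.mul_sum]
  congr 1
  · exact Finset.sum_congr rfl fun j _ => by ring
  · exact Finset.sum_congr rfl fun j _ => by ring

theorem dd_C (a : k) : dd p v (C a) = 0 := by
  simp only [dd, pderiv_C, map_zero, mul_zero, Finset.sum_const_zero]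

theorem dd_X (i : σ) : dd p v (X i) = v i := by
  classical
  rw [dd, Finset.sum_eq_single i]
  · rw [pderiv_X_self, map_one, mul_one]
  · intro j _ hj
    rw [pderiv_X_of_ne hj.symm, map_zero, mul_zero]
  · intro h
    exact absurd (Finset.mem_univ _) h

omit [Fintype σ] in
theorem totalDegree_pderiv (i : σ) (E : MvPolynomial σ k) :
    (pderiv i E).totalDegree ≤ E.totalDegree - 1 := by
  classical
  rw [totalDegree, Finset.sup_le_iff]
  intro m hm
  rw [mem_support_iff, coeff_pderiv] at hm
  have h1 : m + Finsupp.single i 1 ∈ E.support := mem_support_iff.2 (left_ne_zero_of_mul hm)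
  have h2 := le_totalDegree h1
  rw [Finsupp.sum_add_index' (fun _ => rfl) (fun _ _ _ => rfl), Finsupp.sum_single_index rfl] at h2
  omega

omit [Fintype σ] in
theorem eq_C_of_pderiv [CharZero k] {E : MvPolynomial σ k} (h : ∀ i, pderiv i E = 0) : E = C (coeff 0 E) := by
  classical
  ext m
  by_cases hm : m = 0
  · rw [hm, coeff_zero_C]
  · rw [coeff_C, if_neg (Ne.symm hm)]
    obtain ⟨i, hi⟩ : ∃ i, m i ≠ 0 := by
      by_contra hne
      push Not at hne
      exact hm (Finsupp.ext hne)
    have h1 := congrArg (coeff (m - Finsupp.single i 1)) (h i)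
    rw [coeff_pderiv, coeff_zero, tsub_add_cancel_of_le (Finsupp.single_le_iff.2 (Nat.one_le_iff_ne_zero.2 hi))] at h1
    rcases mul_eq_zero.1 h1 with h2 | h2
    · exact h2
    · exfalso
      have h3 : (((m - Finsupp.single i 1 : σ →₀ ℕ) i + 1 : ℕ) : k) = 0 := by push_cast; exact h2
      rw [Nat.cast_eq_zero] at h3
      omega

theorem pderiv_aeval (g : σ → MvPolynomial σ k) (j : σ) (E : MvPolynomial σ k) :
    pderiv j (aeval g E) = ∑ i, aeval g (pderiv i E) * pderiv j (g i) := by
  classical
  induction E using MvPolynomial.induction_on with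
  | C a =>
    simp only [pderiv_C, map_zero, zero_mul, Finset.sum_const_zero]
    rw [aeval_C, algebraMap_eq, pderiv_C]
  | add a b ha hb => simp only [map_add, ha, hb, add_mul, Finset.sum_add_distrib]
  | mul_X a n ha =>
    simp only [map_mul, pderiv_mul, aeval_X, ha, map_add, add_mul, Finset.sum_add_distrib, Finset.sum_mul]
    congr 1
    · exact Finset.sum_congr rfl fun j _ => by ring
    · rw [Finset.sum_eq_single n]
      · rw [pderiv_X_self, map_one, mul_one]
      · intro i _ hi
        rw [pderiv_X_of_ne hi.symm, map_zero, mul_zero, zero_mul]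
      · intro h
        exact absurd (Finset.mem_univ _) h

/-- The Jacobian criterion. -/
theorem algebraicIndependent_of_dd [CharZero k] (g : σ → MvPolynomial σ k)
    (h : ∀ v : σ → k, (∀ i, dd p v (g i) = 0) → v = 0) : AlgebraicIndependent k g := by
  classical
  have hdet : (Matrix.of fun i j => pderiv j (g i)).det ≠ 0 := by
    intro h0
    have h1 : (Matrix.of fun i j => eval p (pderiv j (g i))).det = 0 := by
      have h2 := congrArg (eval p) h0
      rw [RingHom.map_det, map_zero] at h2
      exact h2
    obtain ⟨w, hw, hw'⟩ := Matrix.exists_mulVec_eq_zero_iff.2 h1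
    refine hw (h w fun i => ?_)
    have h3 := congrFun hw' i
    rw [Matrix.mulVec, dotProduct] at h3
    rw [dd]
    refine Eq.trans (Finset.sum_congr rfl fun j _ => mul_comm _ _) h3
  have key : ∀ (n : ℕ) (E : MvPolynomial σ k), E.totalDegree ≤ n → aeval g E = 0 → E = 0 := by
    intro n
    induction n with
    | zero =>
      intro E hE hgE
      have h1 := totalDegree_eq_zero_iff_eq_C.1 (Nat.le_zero.1 hE)
      rw [h1, aeval_C, algebraMap_eq, C_eq_zero] at hgE
      rw [h1, hgE, C_0]
    | succ n ih =>
      intro E hE hgE
      have h1 : ∀ i, pderiv i E = 0 := by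
        intro i
        refine ih _ ((totalDegree_pderiv i E).trans (by omega)) ?_
        have h2 : (fun i => aeval g (pderiv i E)) = 0 := by
          refine Matrix.eq_zero_of_vecMul_eq_zero hdet ?_
          ext1 j
          rw [Matrix.vecMul, dotProduct]
          refine Eq.trans (pderiv_aeval g j E).symm ?_
          rw [hgE, map_zero]
          rfl
        exact congrFun h2 i
      have h2 := eq_C_of_pderiv h1
      rw [h2, aeval_C, algebraMap_eq, C_eq_zero] at hgE
      rw [h2, hgE, C_0]
  rw [AlgebraicIndependent, injective_iff_map_eq_zero]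
  exact fun E hE => key _ E le_rfl hE

end Groth.Agent.Surf.K460.YJac
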