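import Groth.Agent.Surf.K460.YFrac

/-!
# The Koszul lemma on a surface whose Picard group is generated by the canonical class

`koszul`: `s, t` sections without common factor; a section locally in the ideal `(s, t)` is a combination of `s`, `t`.
-/

set_option autoImplicit false
universe u
open CategoryTheory CategoryTheory.Limits AlgebraicGeometry TopologicalSpace Opposite

namespace Groth.Agent.Surf.K460.YKos

open Groth.Agent Groth.Agent.Fdesc.LocGen Groth.Agent.Lefpen.H725.CocDef Groth.Agent.Lefpen.H521.CartierCoc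
open K801.Cousin K801.CousinH1 K801.LEq Groth.Agent.Grpsch.PicGrp K464.Curves K464.Base
open SurfKit DelPezzo ZSec ZCurve ZGeo PicZ YFrac

attribute [local instance] algK

variable {k : Type u} [Field k] [IsAlgClosed k] {X : Scheme.{u}} [X.Over (Spec (CommRingCat.of k))]
  [IsIntegral X] [IsProper (X ↘ Spec (CommRingCat.of k))] [Smooth (X ↘ Spec (CommRingCat.of k))]
  {W D : X.Modules} (P : DP k X W D)
  (hpic : ∀ c : Pic X, ∃ n : ℤ, c = mk W P.hWi ^ n)
  {δ : X → X.functionField} (hδ : HasCoc D δ)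

theorem mem_gr {n : ℤ} {f : X.functionField} : f ∈ (gr P hpic hδ).V n ↔ ∀ x, RegAt x (f / δ x ^ n) := Iff.rfl

include P in
theorem exists_frac' {q : X} {n : ℤ} {u : X.functionField} (hu : RegAt q (u / δ q ^ n)) :
    ∃ (m : ℕ) (c : X.functionField), c ∈ (gr P hpic hδ).V m ∧ UnitAt q (c / δ q ^ (m : ℤ)) ∧
      c * u ∈ (gr P hpic hδ).V (m + n) :=
  exists_frac P.hamp hδ hu

/-- Two sections without a common factor have no common factor locally. -/
theorem regAt_of_cop {i j : ℤ} {s t : X.functionField} (hs : (gr P hpic hδ).IsPr i s)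
    (ht : t ∈ (gr P hpic hδ).V j) (hst : t / s ∉ (gr P hpic hδ).V (j - i)) {q : X} {l : ℤ} {e : X.functionField}
    (h1 : RegAt q (s * e / δ q ^ (i + l))) (h2 : RegAt q (t * e / δ q ^ (j + l))) : RegAt q (e / δ q ^ l) := by
  obtain ⟨m₁, c₁, hc₁, hu₁, hm₁⟩ := exists_frac' P hpic hδ h1
  obtain ⟨m₂, c₂, hc₂, hu₂, hm₂⟩ := exists_frac' P hpic hδ h2
  have hs0 := hs.ne
  have k1 : s * (c₁ * c₂ * e) ∈ (gr P hpic hδ).V (m₁ + m₂ + l + i) := by
    have := Gr.mul_mem' hm₁ hc₂ (l := m₁ + m₂ + l + i) (by ring)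
    convert this using 1
    ring
  have k2 : t * (c₁ * c₂ * e) ∈ (gr P hpic hδ).V (m₁ + m₂ + l + j) := by
    have := Gr.mul_mem' hm₂ hc₁ (l := m₁ + m₂ + l + j) (by ring)
    convert this using 1
    ring
  rcases hs.prime ht k1 (by
    have h3 : t * (s * (c₁ * c₂ * e)) / s = t * (c₁ * c₂ * e) := by field_simp
    rw [h3]
    convert k2 using 1
    ring_nf) with h | h
  · exact absurd h hst
  · have h3 : s * (c₁ * c₂ * e) / s = c₁ * c₂ * e := by field_simp
    rw [h3] at h
    have h4 : RegAt q (c₁ * c₂ * e / δ q ^ (m₁ + m₂ + l + i - i)) := h q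
    have h5 := regAt_mul h4 (unitAt_regAt (unitAt_inv (unitAt_mul hu₁ hu₂)))
    convert h5 using 1
    have e1 := unitAt_ne_zero hu₁
    have e2 := unitAt_ne_zero hu₂
    have hc1 : c₁ ≠ 0 := fun h => e1 (by rw [h, zero_div])
    have hc2 : c₂ ≠ 0 := fun h => e2 (by rw [h, zero_div])
    have e3 := hδ.1 q
    rw [add_sub_cancel_right, zpow_add₀ e3, zpow_add₀ e3]
    field_simp

include P in
theorem solv_zpow (hδ : HasCoc D δ) (hK : Kod k X) (n : ℤ) : Solv (fun x => δ x ^ n) := by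
  obtain ⟨L, hL, hc, hmk⟩ := coc_zpow P.hamp.1 hδ n
  rw [← subsingleton_iff_solv hc]
  have h1 := h1_zpow P hK n
  rw [← hmk, h_mk] at h1
  have := Fga.HodgeSec.finite_HH k hL 1
  exact Module.finrank_zero_iff.1 h1

/-- The Koszul lemma. -/
theorem koszul (hK : Kod k X) {i j n : ℤ} {s t f : X.functionField} (hs : (gr P hpic hδ).IsPr i s)
    (ht : t ∈ (gr P hpic hδ).V j) (ht0 : t ≠ 0) (hst : t / s ∉ (gr P hpic hδ).V (j - i))
    (hloc : ∀ q : X, ∃ a b : X.functionField, RegAt q (a / δ q ^ (n - i)) ∧ RegAt q (b / δ q ^ (n - j)) ∧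
      f = s * a + t * b) :
    ∃ a ∈ (gr P hpic hδ).V (n - i), ∃ b ∈ (gr P hpic hδ).V (n - j), f = s * a + t * b := by
  choose a b ha hb hab using hloc
  have hD := P.hamp.1
  have hs0 := hs.ne
  have near : ∀ (l : ℤ) (x : X) (u : X.functionField), RegAt x (u / δ x ^ l) →
      ∃ U : X.Opens, x ∈ U ∧ ∀ y ∈ U, RegAt y (u / δ y ^ l) := by
    intro l x u hu
    obtain ⟨U₁, hx₁, hU₁⟩ := zpow_loc hD hδ l x
    obtain ⟨U₂, hx₂, hU₂⟩ := regAt_open hu
    refine ⟨U₁ ⊓ U₂, ⟨hx₁, hx₂⟩, fun y hy => ?_⟩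
    have h1 := regAt_mul (hU₂ y hy.2) (unitAt_regAt (hU₁ y hy.1))
    rwa [div_mul_div_cancel₀ (zpow_ne_zero _ (hδ.1 x))] at h1
  obtain ⟨r, hr⟩ := solv_zpow P hδ hK (n - i - j) (fun x => a x / t) (by
    intro x
    obtain ⟨U₁, hx₁, hU₁⟩ := near (n - i) x (a x) (ha x)
    obtain ⟨U₂, hx₂, hU₂⟩ := near (n - j) x (b x) (hb x)
    refine ⟨U₁ ⊓ U₂, ⟨hx₁, hx₂⟩, fun y hy => ?_⟩
    refine regAt_of_cop P hpic hδ hs ht hst (l := n - i - j) ?_ ?_
    · have h1 := regAt_sub (hb y) (hU₂ y hy.2)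
      have h2 : s * (a x - a y) = t * (b y - b x) := by linear_combination hab y - hab x
      rw [← sub_div] at h1
      rw [← sub_div, mul_div_assoc', h2, mul_div_cancel_left₀ _ ht0, show i + (n - i - j) = n - j by ring]
      exact h1
    · have h1 := regAt_sub (hU₁ y hy.1) (ha y)
      rw [← sub_div] at h1
      rw [← sub_div, mul_div_cancel₀ _ ht0, show j + (n - i - j) = n - i by ring]
      exact h1)
  have hzadd : ∀ (x : X) (l m : ℤ), δ x ^ (l + m) = δ x ^ l * δ x ^ m := fun x l m => zpow_add₀ (hδ.1 x) l m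
  refine ⟨r * t, fun x => ?_, (f - s * (r * t)) / t, fun x => ?_, by field_simp; ring⟩
  · change RegAt x (r * t / δ x ^ (n - i))
    have h1 := regAt_sub (ha x) (regAt_mul (hr x) (ht x))
    change RegAt x (a x / δ x ^ (n - i) - (a x / t - r) / δ x ^ (n - i - j) * (t / δ x ^ j)) at h1
    convert h1 using 1
    have e1 := hδ.1 x
    rw [show n - i = n - i - j + j by ring, hzadd x (n - i - j) j]
    rw [show n - i - j + j - j = n - i - j by ring]
    field_simp
    ring
  · change RegAt x ((f - s * (r * t)) / t / δ x ^ (n - j))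
    have h1 := regAt_add (hb x) (regAt_mul (hr x) (hs.mem x))
    change RegAt x (b x / δ x ^ (n - j) + (a x / t - r) / δ x ^ (n - i - j) * (s / δ x ^ i)) at h1
    convert h1 using 1
    have e1 := hδ.1 x
    rw [show n - j = n - i - j + i by ring, hzadd x (n - i - j) i, hab x]
    field_simp
    ring

end Groth.Agent.Surf.K460.YKos
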