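import Groth.Agent.Surf.K460.YCusp
import Groth.Agent.Surf.K460.YDer

/-!
# Sections of Weierstrass families of degree one

`exists_section_or`: over an algebraically closed field of characteristic zero the surface `w² = z³ + a z + b`
(`deg a ≤ 4`, `deg b ≤ 6`) has a section `z = q`, `w = c` (`deg q ≤ 2`, `deg c ≤ 3`) or a singular point.
-/

set_option autoImplicit false

namespace Groth.Agent.Surf.K460.YWei

open YPlace YVal YCusp Polynomial

section

variable {k Ω : Type*} [Field k] [Field Ω] [Algebra k Ω] (P : Place k Ω)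

theorem eq_quad {R : Type*} [CommRing R] {q : R[X]} (hq : q.natDegree ≤ 2) :
    q = C (q.coeff 2) * X ^ 2 + C (q.coeff 1) * X + C (q.coeff 0) := by
  conv_lhs => rw [q.as_sum_range' 3 (by omega)]
  simp only [Finset.sum_range_succ, Finset.sum_range_zero, ← C_mul_X_pow_eq_monomial, pow_zero, pow_one, mul_one]
  ring

theorem eq_cub {R : Type*} [CommRing R] {q : R[X]} (hq : q.natDegree ≤ 3) :
    q = C (q.coeff 3) * X ^ 3 + C (q.coeff 2) * X ^ 2 + C (q.coeff 1) * X + C (q.coeff 0) := by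
  conv_lhs => rw [q.as_sum_range' 4 (by omega)]
  simp only [Finset.sum_range_succ, Finset.sum_range_zero, ← C_mul_X_pow_eq_monomial, pow_zero, pow_one, mul_one]
  ring

theorem core [IsAlgClosed Ω] [CharZero k] {π : P.O} {A4 A6 q c : Polynomial P.O} (hπ : π ≠ 0) (hπ0 : ρ P π = 0)
    (hq : q.natDegree ≤ 2) (hc : c.natDegree ≤ 3) {l : k} (hl : l ≠ 0) (hql : q.map (ρ P) = C l * X ^ 2)
    (h : c ^ 2 = q ^ 3 + C (π ^ 4) * A4 * q + C (π ^ 6) * A6) : ∃ z, Sg (A4.map (ρ P)) (A6.map (ρ P)) 0 z := by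
  have hcoef : ∀ n, ρ P (q.coeff n) = if n = 2 then l else 0 := by
    intro n
    rw [← coeff_map, hql, coeff_C_mul, coeff_X_pow]
    split_ifs <;> simp
  have h2 := hcoef 2
  have h1 := hcoef 1
  have h0 := hcoef 0
  norm_num at h2 h1 h0
  obtain ⟨y, hy⟩ := exists_inv P (x := 2 * q.coeff 2) (by
    rw [map_mul, map_ofNat, h2]
    exact mul_ne_zero two_ne_zero hl)
  set x₀ : P.O := -(y * q.coeff 1) with hx₀
  have hx0 : ρ P x₀ = 0 := by rw [hx₀, map_neg, map_mul, h1, mul_zero, neg_zero]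
  have hx1 : 2 * q.coeff 2 * x₀ + q.coeff 1 = 0 := by
    rw [hx₀]
    linear_combination (-(q.coeff 1)) * hy
  have e1 : q.comp (X + C x₀) = quad (q.coeff 2) (q.coeff 2 * x₀ ^ 2 + q.coeff 1 * x₀ + q.coeff 0) := by
    have hX : (C (2 * q.coeff 2 * x₀ + q.coeff 1) : Polynomial P.O) = 0 := by rw [hx1, C_0]
    conv_lhs => rw [eq_quad hq]
    simp only [quad, add_comp, mul_comp, pow_comp, C_comp, X_comp, C_add, C_mul, C_pow] at hX ⊢
    rw [show (C 2 : Polynomial P.O) = 2 from rfl] at hX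
    linear_combination X * hX
  obtain ⟨n3, n2, n1, n0, e2⟩ : ∃ n3 n2 n1 n0, c.comp (X + C x₀) = cub n3 n2 n1 n0 := by
    refine ⟨c.coeff 3, 3 * c.coeff 3 * x₀ + c.coeff 2, 3 * c.coeff 3 * x₀ ^ 2 + 2 * c.coeff 2 * x₀ + c.coeff 1,
      c.coeff 3 * x₀ ^ 3 + c.coeff 2 * x₀ ^ 2 + c.coeff 1 * x₀ + c.coeff 0, ?_⟩
    conv_lhs => rw [eq_cub hc]
    simp only [cub, add_comp, mul_comp, pow_comp, C_comp, X_comp, C_add, C_mul, C_pow,
      show (C 2 : Polynomial P.O) = 2 from rfl, show (C 3 : Polynomial P.O) = 3 from rfl]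
    ring
  have h3 := congrArg (fun f : Polynomial P.O => f.comp (X + C x₀)) h
  simp only [pow_comp, add_comp, mul_comp, C_comp] at h3
  rw [e1, e2] at h3
  obtain ⟨z, z1, z2, z3⟩ := centered P hπ hπ0 (by rw [h2]; exact hl) h3
  have hA : ∀ (A : Polynomial P.O) (n : ℕ), ρ P ((A.comp (X + C x₀)).coeff n) = (A.map (ρ P)).coeff n := by
    intro A n
    rw [← coeff_map, Polynomial.map_comp, Polynomial.map_add, map_X, map_C, hx0, C_0, add_zero, comp_X]
  rw [hA, hA] at z1
  rw [hA] at z2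
  rw [hA, hA] at z3
  refine ⟨z, ?_, ?_, ?_⟩
  · rw [← coeff_zero_eq_eval_zero, ← coeff_zero_eq_eval_zero]
    exact z1
  · rw [← coeff_zero_eq_eval_zero]
    exact z2
  · rw [← coeff_zero_eq_eval_zero, ← coeff_zero_eq_eval_zero, coeff_derivative, coeff_derivative]
    simpa using z3

end

theorem sq_cube {k : Type*} [Field k] [IsAlgClosed k] {q c : k[X]} (h : c ^ 2 = q ^ 3) (hq0 : q ≠ 0)
    (hq : q.natDegree ≤ 2) : (∃ l : k, l ≠ 0 ∧ q = C l) ∨ ∃ l r : k, l ≠ 0 ∧ q = C l * (X - C r) ^ 2 := by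
  have hd : 2 * c.natDegree = 3 * q.natDegree := by
    rw [← natDegree_pow, h, natDegree_pow]
  rcases Nat.eq_zero_or_pos q.natDegree with h0 | h0
  · left
    obtain ⟨l, hl⟩ := natDegree_eq_zero.1 h0
    exact ⟨l, fun h => hq0 (by rw [← hl, h, C_0]), hl.symm⟩
  · right
    have h2 : q.natDegree = 2 := by omega
    obtain ⟨r, hr⟩ := IsAlgClosed.exists_root q (by
      rw [degree_eq_natDegree hq0, h2]
      exact two_ne_zero)
    have hp : Prime (X - C r : k[X]) := prime_X_sub_C r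
    have hX0 := hp.ne_zero
    obtain ⟨s, hs⟩ := dvd_iff_isRoot.2 hr
    obtain ⟨d, hd'⟩ : X - C r ∣ c := hp.dvd_of_dvd_pow (n := 2) (by
      rw [h, hs]
      exact ⟨(X - C r) ^ 2 * s ^ 3, by ring⟩)
    have e1 : d ^ 2 = (X - C r) * s ^ 3 := by
      apply mul_left_cancel₀ (pow_ne_zero 2 hX0)
      rw [hs, hd'] at h
      linear_combination h
    obtain ⟨e, he⟩ : X - C r ∣ d := hp.dvd_of_dvd_pow (n := 2) (by
      rw [e1]
      exact dvd_mul_right _ _)
    have e2 : s ^ 3 = (X - C r) * e ^ 2 := by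
      apply mul_left_cancel₀ hX0
      rw [he] at e1
      linear_combination -e1
    obtain ⟨f, hf⟩ : X - C r ∣ s := hp.dvd_of_dvd_pow (n := 3) (by
      rw [e2]
      exact dvd_mul_right _ _)
    have hf0 : f ≠ 0 := by
      rintro rfl
      rw [mul_zero] at hf
      rw [hf, mul_zero] at hs
      exact hq0 hs
    have h3 : f.natDegree = 0 := by
      have := h2
      rw [hs, hf, natDegree_mul hX0 (mul_ne_zero hX0 hf0), natDegree_mul hX0 hf0, natDegree_X_sub_C] at this
      omega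
    obtain ⟨l, rfl⟩ := natDegree_eq_zero.1 h3
    refine ⟨l, r, fun h => hf0 (by rw [h, C_0]), ?_⟩
    rw [hs, hf]
    ring

section

variable {k Ω : Type*} [Field k] [Field Ω] [Algebra k Ω] (P : Place k Ω)

/-- Unbounded sections give singular points. -/
theorem degen [IsAlgClosed k] [IsAlgClosed Ω] [CharZero k] {π : P.O} {A4 A6 q c : Polynomial P.O} (hπ : π ≠ 0)
    (hπ0 : ρ P π = 0) (hA4 : A4.natDegree ≤ 4) (hA6 : A6.natDegree ≤ 6)
    (hq : q.natDegree ≤ 2) (hc : c.natDegree ≤ 3) (hq0 : q.map (ρ P) ≠ 0)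
    (h : c ^ 2 = q ^ 3 + C (π ^ 4) * A4 * q + C (π ^ 6) * A6) :
    (∃ r z, Sg (A4.map (ρ P)) (A6.map (ρ P)) r z) ∨
      ∃ z, Sg (reflect 4 (A4.map (ρ P))) (reflect 6 (A6.map (ρ P))) 0 z := by
  have h1 := congrArg (Polynomial.map (ρ P)) h
  simp only [Polynomial.map_add, Polynomial.map_mul, Polynomial.map_pow, map_C, map_pow, hπ0, C_0, zero_pow, ne_eq,
    OfNat.ofNat_ne_zero, not_false_eq_true, zero_mul, add_zero] at h1
  rcases sq_cube h1 hq0 (natDegree_map_le.trans hq) with ⟨l, hl, hql⟩ | ⟨l, r, hl, hql⟩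
  · right
    have h2 : (reflect 3 c) ^ 2 = (reflect 2 q) ^ 3 + C (π ^ 4) * reflect 4 A4 * reflect 2 q +
        C (π ^ 6) * reflect 6 A6 := by
      have e1 : reflect 6 (c ^ 2) = (reflect 3 c) ^ 2 := by
        rw [pow_two, pow_two, show 6 = 3 + 3 from rfl, reflect_mul _ _ hc hc]
      have e2 : reflect 6 (q ^ 3) = (reflect 2 q) ^ 3 := by
        have h4 : (q ^ 2).natDegree ≤ 4 := (natDegree_pow_le).trans (by omega)
        rw [pow_succ, show 6 = 4 + 2 from rfl, reflect_mul _ _ h4 hq, pow_two, show 4 = 2 + 2 from rfl,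
          reflect_mul _ _ hq hq]
        ring
      have e3 : reflect 6 (A4 * q) = reflect 4 A4 * reflect 2 q := by
        rw [show 6 = 4 + 2 from rfl, reflect_mul _ _ hA4 hq]
      have h3 := congrArg (reflect 6) h
      rw [e1, reflect_add, reflect_add, e2, mul_assoc, reflect_C_mul, reflect_C_mul, e3] at h3
      rw [h3]
      ring
    obtain ⟨z, hz⟩ := core P hπ hπ0 (A4 := reflect 4 A4) (A6 := reflect 6 A6) (q := reflect 2 q) (c := reflect 3 c)
      (natDegree_reflect_le.trans (max_le le_rfl hq)) (natDegree_reflect_le.trans (max_le le_rfl hc)) hl (by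
        rw [← reflect_map, hql, reflect_C]) h2
    rw [← reflect_map, ← reflect_map] at hz
    exact ⟨z, hz⟩
  · left
    set r' : P.O := algebraMap k P.O r with hr'
    have hr0 : ρ P r' = r := ρ_algebraMap P r
    have hmap : ∀ A : Polynomial P.O, (A.comp (X + C r')).map (ρ P) = (A.map (ρ P)).comp (X + C r) := by
      intro A
      rw [Polynomial.map_comp, Polynomial.map_add, map_X, map_C, hr0]
    have hdeg : ∀ {A : Polynomial P.O} {n : ℕ}, A.natDegree ≤ n → (A.comp (X + C r')).natDegree ≤ n := by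
      intro A n hA
      refine natDegree_comp_le.trans ?_
      rw [natDegree_X_add_C, mul_one]
      exact hA
    have h3 := congrArg (fun f : Polynomial P.O => f.comp (X + C r')) h
    simp only [pow_comp, add_comp, mul_comp, C_comp] at h3
    obtain ⟨z, z1, z2, z3⟩ := core P hπ hπ0 (hdeg hq) (hdeg hc) hl (by
      rw [hmap, hql]
      simp) h3
    rw [hmap] at z1 z2 z3
    rw [hmap] at z1 z3
    refine ⟨r, z, ?_, ?_, ?_⟩
    · simpa using z1
    · simpa using z2
    · simpa [derivative_comp] using z3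

end

section generic

open YJac YDer

variable {k : Type*} [Field k] (a : k[X])

/-- The ring of the parameters. -/
abbrev U (k : Type*) [Field k] := MvPolynomial (Fin 7) k

open MvPolynomial in
/-- the generic `q` -/
noncomputable def gq (k : Type*) [Field k] : Polynomial (U k) :=
  Polynomial.C (X 2) * Polynomial.X ^ 2 + Polynomial.C (X 1) * Polynomial.X + Polynomial.C (X 0)

open MvPolynomial in
/-- the generic `c` -/
noncomputable def gc (k : Type*) [Field k] : Polynomial (U k) :=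
  Polynomial.C (X 6) * Polynomial.X ^ 3 + Polynomial.C (X 5) * Polynomial.X ^ 2 +
    Polynomial.C (X 4) * Polynomial.X + Polynomial.C (X 3)

/-- the constant term of the generic family -/
noncomputable def Phi : Polynomial (U k) := (gc k) ^ 2 - (gq k) ^ 3 - a.map MvPolynomial.C * gq k

noncomputable def gg (i : Fin 7) : U k := (Phi a).coeff i

theorem gg_indep [CharZero k] : AlgebraicIndependent k (gg a) := by
  obtain ⟨κ, hκ⟩ : ∃ κ : k, 3 * κ ^ 2 + a.coeff 0 ≠ 0 := by
    by_cases h : a.coeff 0 = 0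
    · exact ⟨1, by rw [h]; norm_num⟩
    · exact ⟨0, by simpa using h⟩
  refine algebraicIndependent_of_dd ![κ, 0, 0, 0, 0, 0, 1] _ fun v hv => ?_
  set p : Fin 7 → k := ![κ, 0, 0, 0, 0, 0, 1] with hp
  set A : k[X] := C (3 * κ ^ 2) + a with hA
  have hD : DP p v (Phi a) = C (2 * v 6) * X ^ 6 + C (2 * v 5) * X ^ 5 + C (2 * v 4) * X ^ 4 + C (2 * v 3) * X ^ 3 -
      A * (C (v 2) * X ^ 2 + C (v 1) * X + C (v 0)) := by
    have e1 : DP p v (gq k) = C (v 2) * X ^ 2 + C (v 1) * X + C (v 0) := by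
      rw [gq, DP_add, DP_add, DP_C_mul_X_pow, DP_C, DP_mul, DP_C, DP_X, dd_X, dd_X, dd_X, mul_zero, add_zero,
        Polynomial.map_X]
    have e2 : DP p v (gc k) = C (v 6) * X ^ 3 + C (v 5) * X ^ 2 + C (v 4) * X + C (v 3) := by
      rw [gc, DP_add, DP_add, DP_add, DP_C_mul_X_pow, DP_C_mul_X_pow, DP_C, DP_mul, DP_C, DP_X, dd_X, dd_X, dd_X,
        dd_X, mul_zero, add_zero, Polynomial.map_X]
    have e3 : (gq k).map (ev p) = C κ := by
      simp [gq, hp]
    have e4 : (gc k).map (ev p) = X ^ 3 := by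
      simp [gc, hp]
    have e5 : DP p v (a.map MvPolynomial.C) = 0 := by
      ext n
      rw [coeff_DP, coeff_map, dd_C, coeff_zero]
    have e6 : (a.map MvPolynomial.C : Polynomial (U k)).map (ev p) = a := by
      rw [map_map]
      have : (ev p).comp (MvPolynomial.C : k →+* U k) = RingHom.id k := by
        ext x
        simp
      rw [this, map_id]
    rw [Phi, DP_sub, DP_sub, DP_sq, DP_cube, DP_mul, e1, e2, e3, e4, e5, e6, hA]
    simp only [C_mul, C_pow, show (C 2 : k[X]) = 2 from rfl, show (C 3 : k[X]) = 3 from rfl]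
    ring
  have hA0 : A.coeff 0 ≠ 0 := by
    rw [hA, coeff_add, coeff_C_zero]
    exact hκ
  have hc : ∀ n < 7, (DP p v (Phi a)).coeff n = 0 := by
    intro n hn
    rw [coeff_DP]
    exact hv ⟨n, hn⟩
  obtain ⟨x6, hx6⟩ : ∃ x, x = 2 * v 6 := ⟨_, rfl⟩
  obtain ⟨x5, hx5⟩ : ∃ x, x = 2 * v 5 := ⟨_, rfl⟩
  obtain ⟨x4, hx4⟩ : ∃ x, x = 2 * v 4 := ⟨_, rfl⟩
  obtain ⟨x3, hx3⟩ : ∃ x, x = 2 * v 3 := ⟨_, rfl⟩
  have hD' : DP p v (Phi a) = C x6 * X ^ 6 + C x5 * X ^ 5 + C x4 * X ^ 4 + C x3 * X ^ 3 -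
      A * C (v 2) * X ^ 2 - A * C (v 1) * X - A * C (v 0) := by
    rw [hD, hx6, hx5, hx4, hx3]
    ring
  have c0 := hc 0 (by norm_num)
  rw [hD'] at c0
  simp [coeff_X_pow, hA0] at c0
  have c1 := hc 1 (by norm_num)
  rw [hD', c0] at c1
  simp [coeff_X_pow, coeff_mul_X_pow', hA0] at c1
  have c2 := hc 2 (by norm_num)
  rw [hD', c0, c1] at c2
  simp only [C_0, mul_zero, zero_mul, sub_zero, coeff_sub, coeff_add, coeff_C_mul, coeff_X_pow, coeff_mul_X_pow',
    coeff_mul_C] at c2
  norm_num [hA0] at c2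
  have c3 := hc 3 (by norm_num)
  rw [hD', c0, c1, c2] at c3
  simp [coeff_X_pow] at c3
  rw [hx3, mul_eq_zero, or_iff_right two_ne_zero] at c3
  have c4 := hc 4 (by norm_num)
  rw [hD', c0, c1, c2] at c4
  simp [coeff_X_pow] at c4
  rw [hx4, mul_eq_zero, or_iff_right two_ne_zero] at c4
  have c5 := hc 5 (by norm_num)
  rw [hD', c0, c1, c2] at c5
  simp [coeff_X_pow] at c5
  rw [hx5, mul_eq_zero, or_iff_right two_ne_zero] at c5
  have c6 := hc 6 (by norm_num)
  rw [hD', c0, c1, c2] at c6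
  simp [coeff_X_pow] at c6
  rw [hx6, mul_eq_zero, or_iff_right two_ne_zero] at c6
  funext i
  fin_cases i
  · exact c0
  · exact c1
  · exact c2
  · exact c3
  · exact c4
  · exact c5
  · exact c6

end generic

section gauss

variable {k Ω : Type*} [Field k] [Field Ω] [Algebra k Ω] (P : Place k Ω)

theorem exists_prim_poly {g : Polynomial Ω} (hg : g ≠ 0) :
    ∃ (γ : Ω) (g' : Polynomial P.O), γ ≠ 0 ∧ g'.map (ρ P) ≠ 0 ∧ g = C γ * g'.map (ι P) := by
  classical
  have hne : ∃ n, g.coeff n ≠ 0 := by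
    by_contra h
    push Not at h
    exact hg (Polynomial.ext h)
  obtain ⟨m, hm⟩ := hne
  obtain ⟨i, hi, hi0, hij⟩ := exists_dom P g.support (fun m => g.coeff m) ⟨m, mem_support_iff.2 hm, hm⟩
  obtain ⟨g', hg'⟩ := exists_lift_poly P (g := C (g.coeff i)⁻¹ * g) (by
    intro m
    rw [coeff_C_mul, mul_comm, ← div_eq_mul_inv]
    by_cases hm : m ∈ g.support
    · exact hij m hm
    · rw [notMem_support_iff.1 hm, zero_div]
      exact zero_mem _)
  refine ⟨g.coeff i, g', hi0, ?_, ?_⟩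
  · intro h0
    have h1 := congrArg (fun f : Polynomial Ω => f.coeff i) hg'
    simp only [coeff_map, coeff_C_mul] at h1
    rw [inv_mul_cancel₀ hi0] at h1
    have h2 : g'.coeff i = 1 := ι_injective P (by rw [h1, map_one])
    have h3 := congrArg (fun f : k[X] => f.coeff i) h0
    simp only [coeff_map, h2, map_one, coeff_zero] at h3
    exact one_ne_zero h3
  · rw [hg', ← mul_assoc, ← C_mul, mul_inv_cancel₀ hi0, C_1, one_mul]

theorem gauss_sq_poly {g : Polynomial Ω} {R : Polynomial P.O} (h : g ^ 2 = R.map (ι P)) :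
    ∃ g' : Polynomial P.O, g'.map (ι P) = g := by
  by_cases hg : g = 0
  · exact ⟨0, by rw [hg, Polynomial.map_zero]⟩
  obtain ⟨γ, g', hγ, hg', rfl⟩ := exists_prim_poly P hg
  by_cases hγO : γ ∈ P.O
  · exact ⟨C ⟨γ, hγO⟩ * g', by rw [Polynomial.map_mul, map_C]; rfl⟩
  · exfalso
    obtain ⟨hi, hi0⟩ := inv_of_not_mem P hγO
    have h1 : g' ^ 2 = C ((⟨γ⁻¹, hi⟩ : P.O) ^ 2) * R := by
      apply Polynomial.map_injective _ (ι_injective P)
      rw [Polynomial.map_mul, map_C, Polynomial.map_pow, ← h, map_pow, mul_pow, ← C_pow, ← mul_assoc, ← C_mul,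
        ι_apply, ← mul_pow]
      change _ = C ((γ⁻¹ * γ) ^ 2) * _
      rw [inv_mul_cancel₀ hγ, one_pow, C_1, one_mul]
    have h2 := congrArg (Polynomial.map (ρ P)) h1
    rw [Polynomial.map_mul, map_C, map_pow, Polynomial.map_pow, hi0, zero_pow two_ne_zero, C_0, zero_mul] at h2
    exact hg' (pow_eq_zero_iff two_ne_zero |>.1 h2)

end gauss

/-- Sections or singular points. -/
theorem exists_section_or {k : Type*} [Field k] [IsAlgClosed k] [CharZero k] {a b : k[X]} (ha : a.natDegree ≤ 4)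
    (hb : b.natDegree ≤ 6) :
    (∃ q c : k[X], q.natDegree ≤ 2 ∧ c.natDegree ≤ 3 ∧ c ^ 2 = q ^ 3 + a * q + b) ∨ (∃ r z, Sg a b r z) ∨
      ∃ z, Sg (reflect 4 a) (reflect 6 b) 0 z := by
  classical
  let K := FractionRing (U k)
  let Ω := AlgebraicClosure K
  let e : U k →ₐ[k] Ω := (IsScalarTower.toAlgHom k K Ω).comp (IsScalarTower.toAlgHom k (U k) K)
  have he : Function.Injective e := by
    refine Function.Injective.comp (g := (IsScalarTower.toAlgHom k K Ω)) ?_ (IsFractionRing.injective (U k) K)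
    exact (algebraMap K Ω).injective
  obtain ⟨P, hP⟩ := exists_place ((gg_indep a).map' he) (fun i => b.coeff i)
  have dq : (gq k).natDegree ≤ 2 := by
    rw [gq]
    compute_degree
  have dc : (gc k).natDegree ≤ 3 := by
    rw [gc]
    compute_degree
  have dPhi : (Phi a).natDegree ≤ 6 := by
    rw [Phi]
    refine (natDegree_sub_le _ _).trans (max_le ((natDegree_sub_le _ _).trans (max_le ?_ ?_)) ?_)
    · exact natDegree_pow_le.trans (by omega)
    · exact natDegree_pow_le.trans (by omega)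
    · refine natDegree_mul_le.trans ?_
      have := (natDegree_map_le (f := (MvPolynomial.C : k →+* U k)) (p := a)).trans ha
      omega
  have hcoef : ∀ n, ∃ y : P.O, ι P y = ((Phi a).map e.toRingHom).coeff n ∧ ρ P y = b.coeff n := by
    intro n
    rw [coeff_map]
    by_cases hn : n < 7
    · obtain ⟨h, h'⟩ := hP ⟨n, hn⟩
      exact ⟨⟨_, h⟩, rfl, h'⟩
    · refine ⟨0, ?_, ?_⟩
      · rw [coeff_eq_zero_of_natDegree_lt (by omega), map_zero, map_zero]
      · rw [coeff_eq_zero_of_natDegree_lt (by omega), map_zero]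
  obtain ⟨A6, hA6⟩ := exists_lift_poly P (g := (Phi a).map e.toRingHom) (fun n => by
    obtain ⟨y, hy, -⟩ := hcoef n
    rw [← hy]
    exact y.2)
  have hA6b : A6.map (ρ P) = b := by
    ext n
    rw [coeff_map]
    obtain ⟨y, hy, hy0⟩ := hcoef n
    rw [← hy0]
    congr 1
    apply ι_injective P
    rw [hy, ← hA6, coeff_map]
  have hA6d : A6.natDegree ≤ 6 := by
    rw [← natDegree_map_eq_of_injective (ι_injective P), hA6]
    exact natDegree_map_le.trans dPhi
  let A4 : Polynomial P.O := a.map (algebraMap k P.O)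
  have hA4 : A4.map (ρ P) = a := by
    change (a.map (algebraMap k P.O)).map (ρ P) = a
    rw [map_map]
    have : (ρ P).comp (algebraMap k P.O) = RingHom.id k := by
      ext c
      exact ρ_algebraMap P c
    rw [this, map_id]
  have hA4d : A4.natDegree ≤ 4 := natDegree_map_le.trans ha
  have hA4e : (a.map (MvPolynomial.C : k →+* U k)).map e.toRingHom = A4.map (ι P) := by
    change _ = (a.map (algebraMap k P.O)).map (ι P)
    rw [map_map, map_map]
    congr 1
  set q := (gq k).map e.toRingHom with hq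
  set c := (gc k).map e.toRingHom with hc
  have dq' : q.natDegree ≤ 2 := natDegree_map_le.trans dq
  have dc' : c.natDegree ≤ 3 := natDegree_map_le.trans dc
  have hrel : c ^ 2 = q ^ 3 + A4.map (ι P) * q + A6.map (ι P) := by
    rw [hA6, Phi, ← hA4e]
    simp only [Polynomial.map_sub, Polynomial.map_mul, Polynomial.map_pow, ← hq, ← hc]
    ring
  by_cases hqO : ∀ n, q.coeff n ∈ P.O
  · left
    obtain ⟨q', hq'⟩ := exists_lift_poly P hqO
    rw [← hq'] at hrel
    obtain ⟨c', hc'⟩ := gauss_sq_poly P (R := q' ^ 3 + A4 * q' + A6) (by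
      rw [hrel]
      simp only [Polynomial.map_add, Polynomial.map_mul, Polynomial.map_pow])
    refine ⟨q'.map (ρ P), c'.map (ρ P), ?_, ?_, ?_⟩
    · refine natDegree_map_le.trans ?_
      rw [← natDegree_map_eq_of_injective (ι_injective P), hq']
      exact dq'
    · refine natDegree_map_le.trans ?_
      rw [← natDegree_map_eq_of_injective (ι_injective P), hc']
      exact dc'
    · have h1 : c' ^ 2 = q' ^ 3 + A4 * q' + A6 := by
        apply Polynomial.map_injective _ (ι_injective P)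
        simp only [Polynomial.map_add, Polynomial.map_mul, Polynomial.map_pow]
        rw [hc', hrel]
      have h2 := congrArg (Polynomial.map (ρ P)) h1
      simp only [Polynomial.map_add, Polynomial.map_mul, Polynomial.map_pow, hA4, hA6b] at h2
      exact h2
  · right
    have hq0 : q ≠ 0 := by
      intro h0
      apply hqO
      intro n
      rw [h0, coeff_zero]
      exact zero_mem _
    obtain ⟨γ, q', hγ, hq', hqq⟩ := exists_prim_poly P hq0
    have hγO : γ ∉ P.O := by
      intro h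
      apply hqO
      intro n
      rw [hqq, coeff_C_mul, coeff_map]
      exact mul_mem h (q'.coeff n).2
    obtain ⟨hi, hi0⟩ := inv_of_not_mem P hγO
    obtain ⟨π, hπ⟩ := IsAlgClosed.exists_pow_nat_eq γ⁻¹ (n := 2) (by norm_num)
    have hπO : π ∈ P.O := mem_of_pow P two_ne_zero (by rw [hπ]; exact hi)
    have hπ0 : π ≠ 0 := by
      rintro rfl
      rw [zero_pow two_ne_zero] at hπ
      exact inv_ne_zero hγ hπ.symm
    obtain ⟨p, hp, hp0, hpz⟩ : ∃ p : P.O, ι P p = π ∧ p ≠ 0 ∧ ρ P p = 0 := by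
      refine ⟨⟨π, hπO⟩, rfl, fun h => hπ0 (congrArg Subtype.val h), ?_⟩
      have : (⟨π, hπO⟩ : P.O) ^ 2 = ⟨γ⁻¹, hi⟩ := Subtype.ext hπ
      have h1 := congrArg (ρ P) this
      rw [map_pow, hi0] at h1
      exact pow_eq_zero_iff two_ne_zero |>.1 h1
    have hqq' : q'.map (ι P) = C (π ^ 2) * q := by
      rw [hqq, hπ, ← mul_assoc, ← C_mul, inv_mul_cancel₀ hγ, C_1, one_mul]
    have hcc : (C (π ^ 3) * c) ^ 2 = (q' ^ 3 + C (p ^ 4) * A4 * q' + C (p ^ 6) * A6).map (ι P) := by
      simp only [Polynomial.map_add, Polynomial.map_mul, Polynomial.map_pow, map_C, map_pow, hp, hqq']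
      rw [mul_pow, hrel]
      ring
    obtain ⟨c', hc'⟩ := gauss_sq_poly P hcc
    have h1 : c' ^ 2 = q' ^ 3 + C (p ^ 4) * A4 * q' + C (p ^ 6) * A6 := by
      apply Polynomial.map_injective _ (ι_injective P)
      rw [Polynomial.map_pow, hc', hcc]
    have h2 := degen P hp0 hpz hA4d hA6d (q := q') (c := c') (by
      rw [← natDegree_map_eq_of_injective (ι_injective P), hqq']
      exact (natDegree_C_mul_le _ _).trans dq') (by
      rw [← natDegree_map_eq_of_injective (ι_injective P), hc']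
      exact (natDegree_C_mul_le _ _).trans dc') hq' h1
    rwa [hA4, hA6b] at h2

end Groth.Agent.Surf.K460.YWei
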