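import Groth.Agent.Surf.K460.ZGr
import Groth.Agent.S11851
import Groth.Agent.Fano.K713.Count
import Groth.Agent.LoccohA.GradDom

/-!
# The case of degree three

* `false_of_three`: `dim V 1 = 4`, `dim V 3 ≤ 19` is impossible.
-/

set_option autoImplicit false
universe u v

namespace Groth.Agent.Surf.K460.PicZ.Gr

open Module MvPolynomial

variable {k : Type u} {L : Type v} [Field k] [Field L] [Algebra k L] {G : Gr k L}

theorem prod_mem {σ : Type*} {x : σ → L} (hx : ∀ i, x i ∈ G.V 1) (d : σ → ℕ) (s : Finset σ) :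
    ∏ i ∈ s, x i ^ d i ∈ G.V ((∑ i ∈ s, d i : ℕ) : ℤ) := by
  classical
  induction s using Finset.induction_on with
  | empty => simpa using G.one_mem
  | insert a s ha ih =>
    rw [Finset.prod_insert ha, Finset.sum_insert ha]
    exact mul_mem' (pow_mem (hx a) _) ih (by push_cast; ring)

/-- Homogeneous forms of degree `n` take elements of degree one to elements of degree `n`. -/
theorem aeval_mem {σ : Type*} {x : σ → L} (hx : ∀ i, x i ∈ G.V 1) {n : ℕ} {f : MvPolynomial σ k}
    (hf : f.IsHomogeneous n) : aeval x f ∈ G.V n := by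
  rw [aeval_def, eval₂_eq]
  refine Submodule.sum_mem _ fun d hd => ?_
  have h1 : Finsupp.degree d = n := by
    rw [Finsupp.degree_eq_weight_one]
    exact hf (mem_support_iff.1 hd)
  rw [← Algebra.smul_def, ← h1, Finsupp.degree_apply]
  exact Submodule.smul_mem _ _ (prod_mem hx d d.support)

theorem quadL_X (g : {p : Fin 4 × Fin 4 // p.1 ≤ p.2} → k) (x : Fin 4 → L) :
    aeval x (∑ p : {p : Fin 4 × Fin 4 // p.1 ≤ p.2}, C (g p) * (X p.1.1 * X p.1.2 : MvPolynomial (Fin 4) k)) =
      quadL (k := k) x g := by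
  rw [quadL_apply, map_sum]
  refine Finset.sum_congr rfl fun p _ => ?_
  simp [Algebra.smul_def]

variable [IsAlgClosed k] [CharZero k]

/-- No quadratic relation, in polynomial form. -/
theorem quad4_poly {x : Fin 4 → L} (hx : ∀ i, x i ∈ G.V 1) (hl : LinearIndependent k x)
    {f : MvPolynomial (Fin 4) k} (hf : f.IsHomogeneous 2) (h : aeval x f = 0) : f = 0 := by
  let Θ : ({p : Fin 4 × Fin 4 // p.1 ≤ p.2} → k) →ₗ[k] homogeneousSubmodule (Fin 4) k 2 :=
    { toFun := fun g => ⟨∑ p : {p : Fin 4 × Fin 4 // p.1 ≤ p.2}, C (g p) * (X p.1.1 * X p.1.2), by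
        refine Submodule.sum_mem _ fun p _ => ?_
        rw [mem_homogeneousSubmodule]
        have h1 := (isHomogeneous_C (Fin 4) (g p)).mul ((isHomogeneous_X k p.1.1).mul (isHomogeneous_X k p.1.2))
        simpa using h1⟩
      map_add' := fun g g' => by
        ext1
        simp [add_mul, Finset.sum_add_distrib]
      map_smul' := fun c g => by
        ext1
        simp [smul_eq_C_mul, Finset.mul_sum, mul_assoc] }
  have hinj0 : ∀ g, quadL (k := k) x g = 0 → g = 0 := by
    intro g hg
    refine symM_injective 4 ?_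
    rw [map_zero]
    refine quad4 hx hl (symM_isSymm 4 g) ?_
    rw [sum_symM, hg, smul_zero]
  have hinj : Function.Injective Θ := by
    rw [injective_iff_map_eq_zero]
    intro g hg
    refine hinj0 g ?_
    rw [← quadL_X, show (∑ p : {p : Fin 4 × Fin 4 // p.1 ≤ p.2}, C (g p) * (X p.1.1 * X p.1.2 :
      MvPolynomial (Fin 4) k)) = (Θ g).1 from rfl, hg]
    simp
  have hdim : finrank k ({p : Fin 4 × Fin 4 // p.1 ≤ p.2} → k) = finrank k (homogeneousSubmodule (Fin 4) k 2) := by
    rw [K713.Count.finrank_homogeneous, Module.finrank_fintype_fun_eq_card]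
    decide
  have : FiniteDimensional k (homogeneousSubmodule (Fin 4) k 2) := Module.finite_of_finrank_pos (by
    rw [← hdim, Module.finrank_fintype_fun_eq_card]
    decide)
  obtain ⟨g, hg⟩ := (LinearMap.injective_iff_surjective_of_finrank_eq_finrank hdim).1 hinj ⟨f, hf⟩
  have hg' : f = ∑ p : {p : Fin 4 × Fin 4 // p.1 ≤ p.2}, C (g p) * (X p.1.1 * X p.1.2 : MvPolynomial (Fin 4) k) :=
    (congrArg Subtype.val hg).symm
  rw [hg', quadL_X] at h
  rw [hg', hinj0 g h]
  simp

omit [IsAlgClosed k] in
/-- A form vanishing on a coordinate plane. -/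
theorem exists_split {n : ℕ} {f : MvPolynomial (Fin 4) k} (hf : f.IsHomogeneous (n + 1))
    (h0 : ∀ a b : k, eval ![0, 0, a, b] f = 0) :
    ∃ A B : MvPolynomial (Fin 4) k, A.IsHomogeneous n ∧ B.IsHomogeneous n ∧ f = A * X 0 + B * X 1 := by
  let r : MvPolynomial (Fin 4) k := aeval ![0, 0, X 2, X 3] f
  have hr : r = 0 := by
    refine MvPolynomial.funext fun c => ?_
    rw [map_zero, ← h0 (c 2) (c 3)]
    change (aeval c) (aeval _ f) = aeval _ f
    rw [← AlgHom.comp_apply]
    congr 1
    refine MvPolynomial.algHom_ext fun i => ?_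
    fin_cases i <;> simp
  have h1 : f - r ∈ Ideal.span {(X 0 : MvPolynomial (Fin 4) k), X 1} := by
    rw [← Ideal.Quotient.mk_eq_mk_iff_sub_mem]
    change (Ideal.Quotient.mkₐ k _) f = ((Ideal.Quotient.mkₐ k _).comp (aeval ![0, 0, X 2, X 3])) f
    congr 1
    refine MvPolynomial.algHom_ext fun i => ?_
    fin_cases i
    · simp only [AlgHom.comp_apply, aeval_X]
      change Ideal.Quotient.mk _ (X 0) = Ideal.Quotient.mk _ 0
      rw [map_zero, Ideal.Quotient.eq_zero_iff_mem]
      exact Ideal.subset_span (by simp)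
    · simp only [AlgHom.comp_apply, aeval_X]
      change Ideal.Quotient.mk _ (X 1) = Ideal.Quotient.mk _ 0
      rw [map_zero, Ideal.Quotient.eq_zero_iff_mem]
      exact Ideal.subset_span (by simp)
    · simp
    · simp
  rw [hr, sub_zero, Ideal.mem_span_pair] at h1
  obtain ⟨A, B, hAB⟩ := h1
  refine ⟨homogeneousComponent n A, homogeneousComponent n B, homogeneousComponent_isHomogeneous _ _,
    homogeneousComponent_isHomogeneous _ _, ?_⟩
  rw [← LoccohA.GradDom.homogeneousComponent_mul A (isHomogeneous_X k 0) n,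
    ← LoccohA.GradDom.homogeneousComponent_mul B (isHomogeneous_X k 1) n, ← map_add, hAB,
    homogeneousComponent_eq_self hf]

/-- The case of degree three. -/
theorem false_of_three (h1 : finrank k (G.V 1) = 4) (h3 : finrank k (G.V 3) ≤ 19) : False := by
  have := G.fin
  let b := Module.finBasisOfFinrankEq k (G.V 1) h1
  let x : Fin 4 → L := fun i => b i
  have hx : LinearIndependent k x := b.linearIndependent.map' (G.V 1).subtype (Submodule.ker_subtype _)
  have hxV : ∀ i, x i ∈ G.V 1 := fun i => (b i).2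
  -- a cubic relation
  obtain ⟨f, hf, hf0, hfx⟩ : ∃ f : MvPolynomial (Fin 4) k, f.IsHomogeneous 3 ∧ f ≠ 0 ∧ aeval x f = 0 := by
    let Θ : homogeneousSubmodule (Fin 4) k 3 →ₗ[k] G.V 3 :=
      LinearMap.codRestrict _ ((aeval (R := k) x).toLinearMap.comp (homogeneousSubmodule (Fin 4) k 3).subtype)
        (fun f => aeval_mem hxV f.2)
    have h4 : finrank k (homogeneousSubmodule (Fin 4) k 3) = 20 := by
      rw [K713.Count.finrank_homogeneous]
      decide
    have h5 := LinearMap.ker_ne_bot_of_finrank_lt (f := Θ) (by omega)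
    obtain ⟨f, hf, hf0⟩ := Submodule.exists_mem_ne_zero_of_ne_bot h5
    exact ⟨f.1, f.2, fun h => hf0 (Subtype.ext h), congrArg Subtype.val (LinearMap.mem_ker.1 hf)⟩
  obtain ⟨U, hU2, hU⟩ := Groth.Agent.S11851.result k 3 3 (by norm_num) (by norm_num) f hf
  -- a basis adapted to `U`
  obtain ⟨v, hv⟩ : ∃ v : Basis (Fin 4) k (Fin 4 → k), v 2 ∈ U ∧ v 3 ∈ U := by
    obtain ⟨U', hU'⟩ := Submodule.exists_isCompl U
    have h5 := Submodule.finrank_add_eq_of_isCompl hU'
    rw [hU2] at h5
    simp only [finrank_fintype_fun_eq_card, Fintype.card_fin] at h5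
    let bU := Module.finBasisOfFinrankEq k U hU2
    let bU' := Module.finBasisOfFinrankEq k U' (show finrank k U' = 2 by omega)
    let e := (bU'.prod bU).map (Submodule.prodEquivOfIsCompl U' U hU'.symm)
    refine ⟨e.reindex (finSumFinEquiv (m := 2) (n := 2)), ?_, ?_⟩
    · rw [Basis.reindex_apply]
      have : (finSumFinEquiv (m := 2) (n := 2)).symm 2 = Sum.inr 0 := by decide
      rw [this]
      simp [e]
    · rw [Basis.reindex_apply]
      have : (finSumFinEquiv (m := 2) (n := 2)).symm 3 = Sum.inr 1 := by decide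
      rw [this]
      simp [e]
  let y : Fin 4 → L := fun a => ∑ i, v.repr (Pi.single i 1) a • x i
  have hyV : ∀ a, y a ∈ G.V 1 := fun a => Submodule.sum_mem _ fun i _ => Submodule.smul_mem _ _ (hxV i)
  have hxy : ∀ i, x i = ∑ a, v a i • y a := by
    intro i
    simp only [y, Finset.smul_sum, smul_smul]
    rw [Finset.sum_comm]
    have h6 : ∀ j, ∑ a, v a i * v.repr (Pi.single j 1) a = if i = j then 1 else 0 := by
      intro j
      have h7 := congrFun (v.sum_repr (Pi.single j 1)) i
      rw [Finset.sum_apply] at h7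
      simp only [Pi.smul_apply, smul_eq_mul, Pi.single_apply] at h7
      rw [← h7]
      exact Finset.sum_congr rfl fun a _ => mul_comm _ _
    simp only [← Finset.sum_smul, h6]
    simp
  have hy : LinearIndependent k y := by
    rw [Fintype.linearIndependent_iff] at hx ⊢
    intro g hg
    have h1 : ∀ i, ∑ a, g a * v.repr (Pi.single i 1) a = 0 := by
      apply hx
      rw [← hg]
      simp only [y, Finset.sum_smul, Finset.smul_sum, smul_smul]
      exact Finset.sum_comm
    let φ : (Fin 4 → k) →ₗ[k] k := ∑ a, g a • v.coord a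
    have hφ : φ = 0 := by
      refine (Pi.basisFun k (Fin 4)).ext fun i => ?_
      simpa [φ] using h1 i
    intro a
    have := LinearMap.congr_fun hφ (v a)
    simpa [φ, Finsupp.single_apply] using this
  let lin : Fin 4 → MvPolynomial (Fin 4) k := fun i => ∑ a, C (v a i) * X a
  let g : MvPolynomial (Fin 4) k := aeval lin f
  have hg : g.IsHomogeneous 3 := by
    have hlin : ∀ i, (lin i).IsHomogeneous 1 := fun i => by
      refine IsHomogeneous.sum _ _ _ fun a _ => ?_
      simpa using (isHomogeneous_C (Fin 4) (v a i)).mul (isHomogeneous_X k a)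
    simpa only [one_mul] using hf.aeval lin hlin
  have hgy : aeval y g = 0 := by
    rw [← hfx]
    change (aeval y) (aeval lin f) = _
    rw [← AlgHom.comp_apply]
    congr 1
    refine MvPolynomial.algHom_ext fun i => ?_
    rw [AlgHom.comp_apply, aeval_X, aeval_X, hxy i]
    simp [lin, Algebra.smul_def]
  have hg0 : g ≠ 0 := by
    intro h
    apply hf0
    refine MvPolynomial.funext fun c => ?_
    rw [map_zero]
    have h8 : eval (fun a => v.repr c a) g = 0 := by rw [h, map_zero]
    rw [← h8]
    change aeval c f = (aeval (fun a => v.repr c a)) (aeval lin f)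
    rw [← AlgHom.comp_apply]
    congr 1
    refine MvPolynomial.algHom_ext fun i => ?_
    rw [AlgHom.comp_apply, aeval_X, aeval_X]
    have h7 := congrFun (v.sum_repr c) i
    rw [Finset.sum_apply] at h7
    rw [← h7]
    simp [lin, mul_comm]
  have hgv : ∀ a b : k, eval ![0, 0, a, b] g = 0 := by
    intro a b
    have h9 : eval (a • v 2 + b • v 3) f = 0 := hU _ (Submodule.add_mem _ (Submodule.smul_mem _ _ hv.1)
      (Submodule.smul_mem _ _ hv.2))
    refine Eq.trans ?_ h9
    change (aeval ![0, 0, a, b]) (aeval lin f) = aeval _ f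
    rw [← AlgHom.comp_apply]
    congr 1
    refine MvPolynomial.algHom_ext fun i => ?_
    rw [AlgHom.comp_apply, aeval_X, aeval_X]
    simp [lin, Fin.sum_univ_four, mul_comm]
  obtain ⟨A, B, hA, hB, hAB⟩ := exists_split hg hgv
  have hA2 := aeval_mem hyV hA
  have hB2 := aeval_mem hyV hB
  rw [hAB, map_add, map_mul, map_mul, aeval_X, aeval_X] at hgy
  have hy0 : y 0 ≠ 0 := hy.ne_zero 0
  have hy1 : y 1 ≠ 0 := hy.ne_zero 1
  -- `y 0` divides `B`
  have hdiv : aeval y B / y 0 ∈ G.V 1 := by
    rcases (isPr_one (hyV 0) hy0).prime hB2 (hyV 1) (by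
      have : aeval y B * y 1 / y 0 = - aeval y A := by
        rw [div_eq_iff hy0]
        linear_combination hgy
      rw [this]
      norm_num
      exact_mod_cast hA2) with h | h
    · norm_num at h
      exact h
    · exfalso
      obtain ⟨c, hc⟩ := smul_of_div hy0 (by simpa using h)
      rw [Fintype.linearIndependent_iff] at hy
      have h10 := hy ![-c, 1, 0, 0] (by
        rw [Fin.sum_univ_four]
        simp [hc])
      have := h10 1
      simp at this
  -- express the quotient through the `y i`
  obtain ⟨m, hm⟩ : ∃ m : Fin 4 → k, aeval y B / y 0 = ∑ i, m i • y i := by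
    have h11 : Submodule.span k (Set.range y) = G.V 1 := by
      refine Submodule.eq_of_le_of_finrank_eq (Submodule.span_le.2 (by rintro _ ⟨i, rfl⟩; exact hyV i)) ?_
      rw [finrank_span_eq_card hy, h1, Fintype.card_fin]
    rw [← h11, Submodule.mem_span_range_iff_exists_fun] at hdiv
    obtain ⟨m, hm⟩ := hdiv
    exact ⟨m, hm.symm⟩
  let M : MvPolynomial (Fin 4) k := ∑ i, C (m i) * X i
  have hM : M.IsHomogeneous 1 := by
    refine IsHomogeneous.sum _ _ _ fun a _ => ?_
    simpa using (isHomogeneous_C (Fin 4) (m a)).mul (isHomogeneous_X k a)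
  have hMy : aeval y M = aeval y B / y 0 := by
    rw [hm]
    simp [M, Algebra.smul_def]
  have hB' : B = M * X 0 := by
    rw [← sub_eq_zero]
    refine quad4_poly hyV hy (hB.sub (by simpa using hM.mul (isHomogeneous_X k 0))) ?_
    rw [map_sub, map_mul, aeval_X, hMy, div_mul_cancel₀ _ hy0, sub_self]
  have hA' : A = - (M * X 1) := by
    rw [← sub_eq_zero, sub_neg_eq_add]
    refine quad4_poly hyV hy (hA.add (by simpa using hM.mul (isHomogeneous_X k 1))) ?_
    rw [map_add, map_mul, aeval_X, hMy]
    field_simp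
    linear_combination hgy
  apply hg0
  rw [hAB, hA', hB']
  ring

end Groth.Agent.Surf.K460.PicZ.Gr
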