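import Mathlib

/-!
# Extending derivations in characteristic zero

* `exists_der`: a derivation of a domain `R` extends to every field of characteristic zero containing `R`.
-/

set_option autoImplicit false
universe u v

namespace Groth.Agent.Surf.K460.PicZ

open TrivSqZeroExt

theorem formallySmooth_of_charZero (K L : Type*) [Field K] [Field L] [Algebra K L] [CharZero K] :
    Algebra.FormallySmooth K L := by
  obtain ⟨ι, v, hv⟩ := exists_isTranscendenceBasis' K L
  have h1 : Algebra.IsAlgebraic (IntermediateField.adjoin K (Set.range v)) L := hv.isAlgebraic_field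
  have : CharZero (IntermediateField.adjoin K (Set.range v)) := charZero_of_injective_algebraMap
    (algebraMap K (IntermediateField.adjoin K (Set.range v))).injective
  have : Algebra.IsSeparable (IntermediateField.adjoin K (Set.range v)) L := inferInstance
  exact Algebra.FormallySmooth.of_algebraicIndependent_of_isSeparable hv.1

theorem exists_der (R L : Type*) [CommRing R] [IsDomain R] [Field L] [CharZero L] [Algebra R L]
    [FaithfulSMul R L] (d : R →+ R) (hd : ∀ a b, d (a * b) = a * d b + b * d a) :
    ∃ D : L →+ L, (∀ a b, D (a * b) = a * D b + b * D a) ∧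
      ∀ r, D (algebraMap R L r) = algebraMap R L (d r) := by
  have hd1 : d 1 = 0 := by
    have := hd 1 1
    simpa using this
  letI := FractionRing.liftAlgebra R L
  have : IsScalarTower R (FractionRing R) L := inferInstance
  have : CharZero (FractionRing R) := by
    have : CharZero R := (RingHom.charZero_iff (FaithfulSMul.algebraMap_injective R L)).2 inferInstance
    infer_instance
  have h1 : Algebra.FormallySmooth (FractionRing R) L := formallySmooth_of_charZero _ _
  have h2 : Algebra.FormallySmooth R (FractionRing R) := .of_isLocalization (nonZeroDivisors R)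
  have h3 : Algebra.FormallySmooth R L := .comp _ (FractionRing R) _
  let ψ : R →+* TrivSqZeroExt L L :=
    { toFun := fun r => inl (algebraMap R L r) + inr (algebraMap R L (d r))
      map_one' := by simp [hd1]
      map_mul' := fun r s => by
        ext
        · simp
        · simp only [fst_add, snd_add, fst_mul, snd_mul, fst_inl, snd_inl, fst_inr, snd_inr, map_mul, add_zero,
            zero_add, smul_eq_mul, op_smul_eq_smul, hd, map_add]
      map_zero' := by simp
      map_add' := fun r s => by
        ext
        · simp only [fst_add, fst_inl, fst_inr, map_add, add_zero]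
        · simp only [snd_add, snd_inl, snd_inr, map_add, zero_add] }
  letI : Algebra R (TrivSqZeroExt L L) := ψ.toAlgebra
  let g : TrivSqZeroExt L L →ₐ[R] L :=
    { toRingHom := (fstHom L L L).toRingHom
      commutes' := fun r => by
        change (ψ r).fst = _
        simp [ψ] }
  have hg : Function.Surjective g := fun l => ⟨inl l, rfl⟩
  have hker : IsNilpotent (RingHom.ker (g : TrivSqZeroExt L L →+* L)) := by
    refine ⟨2, ?_⟩
    rw [show (2 : ℕ) = 1 + 1 from rfl, Submodule.pow_succ, Submodule.pow_one, Ideal.zero_eq_bot, eq_bot_iff,
      Ideal.mul_le]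
    intro a ha b hb
    have ha' : a.fst = 0 := ha
    have hb' : b.fst = 0 := hb
    rw [Ideal.mem_bot]
    ext
    · simp [ha']
    · simp [ha', hb']
  let f := Algebra.FormallySmooth.liftOfSurjective (AlgHom.id R L) g hg hker
  have hf : ∀ l, (f l).fst = l := fun l =>
    Algebra.FormallySmooth.liftOfSurjective_apply (AlgHom.id R L) g hg hker l
  let D₀ : L →+ L :=
    { toFun := fun l => (f l).snd
      map_zero' := by simp
      map_add' := fun a b => by simp }
  refine ⟨D₀, fun a b => ?_, fun r => ?_⟩
  · change (f (a * b)).snd = a * (f b).snd + b * (f a).snd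
    rw [map_mul, snd_mul, hf, hf, op_smul_eq_smul, smul_eq_mul, smul_eq_mul]
  change (f (algebraMap R L r)).snd = _
  rw [AlgHom.commutes]
  change (inl (algebraMap R L r) + inr (algebraMap R L (d r)) : TrivSqZeroExt L L).snd = _
  simp only [snd_add, snd_inl, snd_inr, zero_add]

end Groth.Agent.Surf.K460.PicZ
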