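import Groth.Agent.Surf.K460.ZGr
import Groth.Agent.Surf.K460.ZDer
import Groth.Agent.Books.PointsAC

/-!
# Projection from a point

* `ev_injective`: ratios of three independent elements of degree one are algebraically independent;
* `project`: a subspace `U` of `V 1` of dimension at least three has a hyperplane `U'` with
  `dim U'² + 3 ≤ dim U²`;
* `false_of_four_le`: `dim V 1 = d + 1`, `dim V 2 ≤ 3 d + 1` is impossible for `d ≥ 4`.
-/

set_option autoImplicit false

namespace Groth.Agent.Surf.K460.PicZ.Gr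

open Module Polynomial

variable {k L : Type*} [Field k] [Field L] [Algebra k L] {G : Gr k L}

/-- The prime `l` of degree one divides no product of degree one elements none of which is proportional to it. -/
theorem exists_of_prod {l : L} (hl : l ∈ G.V 1) (h0 : l ≠ 0) (s : Multiset L) :
    (∀ a ∈ s, a ∈ G.V 1) → s.prod / l ∈ G.V (Multiset.card s - 1) → ∃ a ∈ s, ∃ c : k, a = c • l := by
  induction s using Multiset.induction_on with
  | empty =>
    intro _ h
    exfalso
    rw [Multiset.prod_zero, Multiset.card_zero] at h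
    have := G.eq_zero_of_neg _ (by norm_num) _ h
    rw [div_eq_zero_iff] at this
    exact this.elim one_ne_zero h0
  | cons a s ih =>
    intro hs h
    rw [Multiset.prod_cons, Multiset.card_cons] at h
    have hprod : s.prod ∈ G.V (Multiset.card s) := by
      clear ih h
      induction s using Multiset.induction_on with
      | empty => simpa using G.one_mem
      | cons b s ih =>
        rw [Multiset.prod_cons, Multiset.card_cons]
        refine mul_mem' (hs b (by simp)) (ih fun c hc => hs c ?_) (by push_cast; ring)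
        rw [Multiset.mem_cons] at hc ⊢
        rcases hc with rfl | hc
        · exact Or.inl rfl
        · exact Or.inr (Multiset.mem_cons_of_mem hc)
    rcases (isPr_one hl h0).prime (hs a (Multiset.mem_cons_self _ _)) hprod (by
      convert h using 2
      push_cast; ring) with h1 | h1
    · exact ⟨a, Multiset.mem_cons_self _ _, smul_of_div h0 (by simpa using h1)⟩
    · obtain ⟨b, hb, hc⟩ := ih (fun b hb => hs b (Multiset.mem_cons_of_mem hb)) h1
      exact ⟨b, Multiset.mem_cons_of_mem hb, hc⟩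

/-- Rational functions with poles along `x` only. -/
def loc (G : Gr k L) {x : L} (hx : x ∈ G.V 1) : Subalgebra k L where
  carrier := {f | ∃ N : ℕ, x ^ N * f ∈ G.V N}
  mul_mem' := by
    rintro f g ⟨N, hN⟩ ⟨M, hM⟩
    refine ⟨N + M, ?_⟩
    rw [pow_add, mul_mul_mul_comm]
    exact mul_mem' hN hM (by push_cast; ring)
  add_mem' := by
    rintro f g ⟨N, hN⟩ ⟨M, hM⟩
    refine ⟨N + M, ?_⟩
    have h1 : x ^ M * (x ^ N * f) ∈ G.V ((N + M : ℕ) : ℤ) := mul_mem' (pow_mem hx M) hN (by push_cast; ring)
    have h2 : x ^ N * (x ^ M * g) ∈ G.V ((N + M : ℕ) : ℤ) := mul_mem' (pow_mem hx N) hM (by push_cast; ring)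
    have := Submodule.add_mem _ h1 h2
    convert this using 1
    ring
  algebraMap_mem' := fun c => ⟨0, by
    rw [pow_zero, one_mul, Algebra.algebraMap_eq_smul_one]
    exact Submodule.smul_mem _ _ G.one_mem⟩

theorem div_mem_loc {x : L} (hx : x ∈ G.V 1) (h0 : x ≠ 0) {y : L} (hy : y ∈ G.V 1) : y / x ∈ loc G hx :=
  ⟨1, by rw [pow_one, mul_div_cancel₀ _ h0]; exact_mod_cast hy⟩

/-- Evaluation of polynomials in two variables. -/
noncomputable def ev (k : Type*) {L : Type*} [Field k] [Field L] [Algebra k L] (s t : L) : k[X][X] →+* L :=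
  Polynomial.eval₂RingHom (Polynomial.aeval (R := k) t).toRingHom s

@[simp] theorem ev_C (s t : L) (p : k[X]) : ev k s t (C p) = aeval t p := by simp [ev]
@[simp] theorem ev_X (s t : L) : ev k s t X = s := by simp [ev]

theorem ev_mem (A : Subalgebra k L) {s t : L} (hs : s ∈ A) (ht : t ∈ A) (q : k[X][X]) : ev k s t q ∈ A := by
  have : ev k s t q = ∑ i ∈ Finset.range (q.natDegree + 1), aeval t (q.coeff i) * s ^ i := by
    rw [ev, coe_eval₂RingHom, eval₂_eq_sum_range]
    rfl
  rw [this]
  refine Subalgebra.sum_mem _ fun i _ => Subalgebra.mul_mem _ ?_ (Subalgebra.pow_mem _ hs i)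
  rw [aeval_eq_sum_range]
  exact Subalgebra.sum_mem _ fun j _ => Subalgebra.smul_mem _ (Subalgebra.pow_mem _ ht j) _

section alg

variable [IsAlgClosed k] {x₀ x₁ x₂ : L} (h₀ : x₀ ∈ G.V 1) (h₁ : x₁ ∈ G.V 1) (h₂ : x₂ ∈ G.V 1)
  (hl : LinearIndependent k ![x₀, x₁, x₂])

include h₀ h₁ h₂ hl

theorem ev_injective : Function.Injective (ev k (x₁ / x₀) (x₂ / x₀)) := by
  have ind : ∀ a b c : k, a • x₀ + b • x₁ + c • x₂ = 0 → a = 0 ∧ b = 0 ∧ c = 0 := by
    rw [Fintype.linearIndependent_iff] at hl
    intro a b c h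
    have := hl ![a, b, c] (by simpa [Fin.sum_univ_three] using h)
    exact ⟨this 0, this 1, this 2⟩
  have hx₀ : x₀ ≠ 0 := hl.ne_zero 0
  have hx₁ : x₁ ≠ 0 := hl.ne_zero 1
  have key : ∀ p : k[X], p ≠ 0 → ∀ f ∈ loc G h₀, aeval (x₂ / x₀) p ≠ x₁ / x₀ * f := by
    rintro p hp f ⟨N, hN⟩ heq
    obtain ⟨s, hs⟩ : ∃ s : Multiset k, p = C p.leadingCoeff * (s.map fun a => X - C a).prod :=
      ⟨p.roots, (IsAlgClosed.splits p).eq_prod_roots⟩
    have hlc : p.leadingCoeff ≠ 0 := leadingCoeff_ne_zero.2 hp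
    let T : Multiset L := s.map (fun a => x₂ - a • x₀) + Multiset.replicate (N + 1) x₀
    have hT : ∀ a ∈ T, a ∈ G.V 1 := by
      intro a ha
      rcases Multiset.mem_add.1 ha with ha | ha
      · obtain ⟨c, -, rfl⟩ := Multiset.mem_map.1 ha
        exact Submodule.sub_mem _ h₂ (Submodule.smul_mem _ _ h₀)
      · rw [Multiset.eq_of_mem_replicate ha]
        exact h₀
    have hprod : T.prod / x₁ ∈ G.V (Multiset.card T - 1) := by
      have e1 : (s.map fun a => x₂ - a • x₀).prod = x₀ ^ (Multiset.card s) *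
          (s.map fun a => x₂ / x₀ - algebraMap k L a).prod := by
        clear T hT hs
        induction s using Multiset.induction_on with
        | empty => simp
        | cons a s ih =>
          rw [Multiset.map_cons, Multiset.prod_cons, Multiset.map_cons, Multiset.prod_cons, Multiset.card_cons,
            pow_succ, ih, Algebra.smul_def]
          field_simp
      have e2 : (s.map fun a => x₂ / x₀ - algebraMap k L a).prod = (algebraMap k L p.leadingCoeff)⁻¹ *
          (x₁ / x₀ * f) := by
        have e0 : aeval (x₂ / x₀) p = algebraMap k L p.leadingCoeff *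
            (s.map fun a => x₂ / x₀ - algebraMap k L a).prod := by
          conv_lhs => rw [hs]
          rw [map_mul, aeval_C, map_multiset_prod, Multiset.map_map]
          simp [Function.comp_def]
        rw [← heq, e0, ← mul_assoc, inv_mul_cancel₀, one_mul]
        exact (_root_.map_ne_zero _).2 hlc
      have e3 : T.prod / x₁ = (p.leadingCoeff)⁻¹ • (x₀ ^ (Multiset.card s) * (x₀ ^ N * f)) := by
        rw [Multiset.prod_add, Multiset.prod_replicate, e1, e2, Algebra.smul_def, map_inv₀]
        field_simp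
        ring
      rw [e3]
      refine Submodule.smul_mem _ _ (mul_mem' (pow_mem h₀ _) hN ?_)
      simp [T]
    obtain ⟨a, ha, c, hc⟩ := exists_of_prod h₁ hx₁ T hT hprod
    rcases Multiset.mem_add.1 ha with ha | ha
    · obtain ⟨b, -, rfl⟩ := Multiset.mem_map.1 ha
      have := ind (-b) (-c) 1 (by
        simp only [neg_smul, one_smul]
        linear_combination hc)
      exact one_ne_zero this.2.2
    · rw [Multiset.eq_of_mem_replicate ha] at hc
      have := ind 1 (-c) 0 (by
        simp only [neg_smul, one_smul, zero_smul, add_zero]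
        linear_combination hc)
      exact one_ne_zero this.1
  rw [injective_iff_map_eq_zero]
  suffices H : ∀ (n : ℕ) (q : k[X][X]), q.natDegree ≤ n → ev k (x₁ / x₀) (x₂ / x₀) q = 0 → q = 0 from
    fun q => H _ q le_rfl
  intro n
  induction n with
  | zero =>
    intro q hq h
    rw [eq_C_of_natDegree_le_zero hq] at h ⊢
    rw [ev_C] at h
    by_contra hne
    exact key (q.coeff 0) (fun h => hne (by rw [h, C_0])) 0 (Subalgebra.zero_mem _) (by rw [h, mul_zero])
  | succ n ih =>
    intro q hq h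
    have h1 := divX_mul_X_add q
    rw [← h1, map_add, map_mul, ev_C, ev_X] at h
    have h2 : q.coeff 0 = 0 := by
      by_contra hne
      refine key (q.coeff 0) hne (-ev k (x₁ / x₀) (x₂ / x₀) q.divX) (Subalgebra.neg_mem _
        (ev_mem _ (div_mem_loc h₀ hx₀ h₁) (div_mem_loc h₀ hx₀ h₂) _)) ?_
      linear_combination h
    rw [h2, map_zero, add_zero, mul_eq_zero] at h
    have h3 := ih q.divX (by rw [natDegree_divX_eq_natDegree_tsub_one]; omega)
      (h.resolve_right (div_ne_zero hx₁ hx₀))
    rw [← h1, h2, h3, C_0, zero_mul, zero_add]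

/-- Derivations separating two ratios. -/
theorem exists_der_ratio [CharZero k] : ∃ D : Derivation k L L, D (x₁ / x₀) = 1 ∧ D (x₂ / x₀) = 0 := by
  letI := (ev k (x₁ / x₀) (x₂ / x₀)).toAlgebra
  have : FaithfulSMul k[X][X] L := (faithfulSMul_iff_algebraMap_injective _ _).2 (ev_injective h₀ h₁ h₂ hl)
  have : CharZero L := charZero_of_injective_algebraMap (algebraMap k L).injective
  obtain ⟨D, hD1, hD⟩ := exists_der k[X][X] L (derivative (R := k[X])).toAddMonoidHom (fun a b => by
    change derivative (a * b) = a * derivative b + b * derivative a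
    rw [derivative_mul]
    ring)
  have e : ∀ q : k[X][X], algebraMap k[X][X] L q = ev k (x₁ / x₀) (x₂ / x₀) q := fun _ => rfl
  have hC : ∀ p : k[X], D (aeval (x₂ / x₀) p) = 0 := by
    intro p
    have := hD (C p)
    rw [e, ev_C, e] at this
    rw [this]
    change ev k _ _ (derivative (C p)) = 0
    rw [derivative_C, map_zero]
  have hk : ∀ c : k, D (algebraMap k L c) = 0 := fun c => by
    have := hC (C c)
    rwa [aeval_C] at this
  let D' : Derivation k L L := Derivation.mk'
    { toFun := D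
      map_add' := map_add D
      map_smul' := fun c a => by
        rw [Algebra.smul_def, hD1, hk, mul_zero, add_zero, RingHom.id_apply, Algebra.smul_def] }
    (fun a b => hD1 a b)
  refine ⟨D', ?_, ?_⟩
  · have := hD X
    rw [e, ev_X, e] at this
    change D _ = 1
    rw [this]
    change ev k _ _ (derivative X) = 1
    rw [derivative_X, map_one]
  · have := hC X
    rwa [aeval_X] at this

end alg

section proj

variable [IsAlgClosed k] [CharZero k]

/-- Projection from a point: a hyperplane whose square is smaller by three dimensions. -/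
theorem project {U : Submodule k L} (hU : U ≤ G.V 1) (h3 : 3 ≤ finrank k U) :
    ∃ U' ≤ U, finrank k U' + 1 = finrank k U ∧
      finrank k (U' * U' : Submodule k L) + 3 ≤ finrank k (U * U : Submodule k L) := by
  have hfin : FiniteDimensional k U := Module.finite_of_finrank_pos (by omega)
  let b := Module.finBasis k U
  let x : Fin 3 → L := fun i => b (Fin.castLE h3 i)
  have hx : LinearIndependent k x := (b.linearIndependent.comp _ (Fin.castLE_injective h3)).map' U.subtype
    (Submodule.ker_subtype U)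
  have hxU : ∀ i, x i ∈ U := fun i => (b (Fin.castLE h3 i)).2
  have hxV : ∀ i, x i ∈ G.V 1 := fun i => hU (hxU i)
  have hl : LinearIndependent k ![x 0, x 1, x 2] := by
    convert hx using 1
    funext i
    fin_cases i <;> rfl
  have hl' : LinearIndependent k ![x 0, x 2, x 1] := by
    have h1 := hx.comp ![0, 2, 1] (by decide)
    convert h1 using 1
    funext i
    fin_cases i <;> rfl
  have hx0 : x 0 ≠ 0 := hx.ne_zero 0
  obtain ⟨D₁, hD11, hD12⟩ := exists_der_ratio (hxV 0) (hxV 1) (hxV 2) hl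
  obtain ⟨D₂, hD22, hD21⟩ := exists_der_ratio (hxV 0) (hxV 2) (hxV 1) hl'
  let S : Set L := Set.range (fun i => (b i : L) / x 0) ∪
    (Set.range (fun i => D₁ ((b i : L) / x 0)) ∪ Set.range (fun i => D₂ ((b i : L) / x 0)))
  have hS : S.Finite := (Set.finite_range _).union ((Set.finite_range _).union (Set.finite_range _))
  let A := Algebra.adjoin k S
  have hSA : S ⊆ A := Algebra.subset_adjoin
  have : Algebra.FiniteType k A := by
    rw [← Subalgebra.fg_iff_finiteType]
    have := Subalgebra.fg_adjoin_finset (R := k) hS.toFinset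
    rwa [hS.coe_toFinset] at this
  obtain ⟨φ⟩ := Books.PointsAC.exists_point k A
  obtain ⟨Φ, hΦ⟩ := LinearMap.exists_extend (p := Subalgebra.toSubmodule A) φ.toLinearMap
  have hΦA : ∀ a (ha : a ∈ A), Φ a = φ ⟨a, ha⟩ := fun a ha => LinearMap.congr_fun hΦ ⟨a, ha⟩
  have hΦmul : ∀ a b, a ∈ A → b ∈ A → Φ (a * b) = Φ a * Φ b := by
    intro a b ha hb
    rw [hΦA _ ha, hΦA _ hb, hΦA _ (A.mul_mem ha hb), ← map_mul]
    rfl
  have hΦone : Φ 1 = 1 := by
    rw [hΦA _ A.one_mem]
    exact map_one φ
  have hUA : ∀ u ∈ U, u / x 0 ∈ A ∧ D₁ (u / x 0) ∈ A ∧ D₂ (u / x 0) ∈ A := by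
    intro u hu
    have h1 := b.sum_repr ⟨u, hu⟩
    have h2 : u / x 0 = ∑ i, b.repr ⟨u, hu⟩ i • ((b i : L) / x 0) := by
      have h3 := congrArg (Subtype.val) h1
      simp only [Submodule.coe_sum, Submodule.coe_smul] at h3
      conv_lhs => rw [← h3]
      rw [Finset.sum_div]
      refine Finset.sum_congr rfl fun i _ => ?_
      rw [Algebra.smul_def, Algebra.smul_def, mul_div_assoc]
    rw [h2]
    simp only [map_sum, map_smul, Derivation.map_smul]
    refine ⟨A.sum_mem fun i _ => A.smul_mem (hSA (Or.inl ⟨i, rfl⟩)) _,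
      A.sum_mem fun i _ => A.smul_mem (hSA (Or.inr (Or.inl ⟨i, rfl⟩))) _,
      A.sum_mem fun i _ => A.smul_mem (hSA (Or.inr (Or.inr ⟨i, rfl⟩))) _⟩
  let ψ : U →ₗ[k] k := (Φ.comp (LinearMap.mulRight k (x 0)⁻¹)).comp U.subtype
  have hψ : ∀ u : U, ψ u = Φ (u / x 0) := fun u => by simp [ψ, div_eq_mul_inv]
  let U' : Submodule k L := (LinearMap.ker ψ).map U.subtype
  have hU' : ∀ u, u ∈ U' ↔ u ∈ U ∧ Φ (u / x 0) = 0 := by
    intro u
    constructor
    · rintro ⟨v, hv, rfl⟩
      exact ⟨v.2, (hψ v).symm.trans hv⟩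
    · rintro ⟨h1, h2⟩
      exact ⟨⟨u, h1⟩, by rw [SetLike.mem_coe, LinearMap.mem_ker, hψ]; exact h2, rfl⟩
  have hdim : finrank k U' + 1 = finrank k U := by
    have h1 := LinearMap.finrank_range_add_finrank_ker ψ
    have h2 : LinearMap.range ψ = ⊤ := by
      rw [LinearMap.range_eq_top]
      intro c
      refine ⟨c • ⟨x 0, hxU 0⟩, ?_⟩
      rw [map_smul, hψ]
      simp [div_self hx0, hΦone]
    rw [h2, finrank_top, finrank_self] at h1
    have h3 : finrank k U' = finrank k (LinearMap.ker ψ) := Submodule.finrank_map_subtype_eq U _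
    omega
  refine ⟨U', fun u hu => ((hU' u).1 hu).1, hdim, ?_⟩
  let μ : L →ₗ[k] L := LinearMap.mulRight k (x 0 * x 0)⁻¹
  have hμ : ∀ u v, μ (u * v) = (u / x 0) * (v / x 0) := fun u v => by
    simp only [μ, LinearMap.mulRight_apply]
    field_simp
  let Ψ : L →ₗ[k] (Fin 3 → k) := LinearMap.pi
    ![Φ.comp μ, (Φ.comp D₁.toLinearMap).comp μ, (Φ.comp D₂.toLinearMap).comp μ]
  have hΨ0 : ∀ f, Ψ f 0 = Φ (μ f) := fun f => rfl
  have hΨ1 : ∀ f, Ψ f 1 = Φ (D₁ (μ f)) := fun f => rfl
  have hΨ2 : ∀ f, Ψ f 2 = Φ (D₂ (μ f)) := fun f => rfl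
  let x' : Fin 3 → L := fun i => x i - Φ (x i / x 0) • x 0
  have hx' : ∀ i, x' i / x 0 = x i / x 0 - algebraMap k L (Φ (x i / x 0)) := fun i => by
    simp only [x', Algebra.smul_def]
    field_simp
  have hx'U : ∀ i, x' i ∈ U := fun i => Submodule.sub_mem _ (hxU i) (Submodule.smul_mem _ _ (hxU 0))
  have hx'0 : ∀ i, Φ (x' i / x 0) = 0 := fun i => by
    rw [hx', map_sub, Algebra.algebraMap_eq_smul_one, map_smul, hΦone, smul_eq_mul, mul_one, sub_self]
  have hD1x' : ∀ i, D₁ (x' i / x 0) = D₁ (x i / x 0) := fun i => by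
    rw [hx', map_sub, Derivation.map_algebraMap, sub_zero]
  have hD2x' : ∀ i, D₂ (x' i / x 0) = D₂ (x i / x 0) := fun i => by
    rw [hx', map_sub, Derivation.map_algebraMap, sub_zero]
  let M : Submodule k L := U * U
  have hMfin : FiniteDimensional k M := finite_mul hfin hfin
  let ΨM : M →ₗ[k] (Fin 3 → k) := Ψ.comp M.subtype
  have hsurj : LinearMap.range ΨM = ⊤ := by
    rw [LinearMap.range_eq_top]
    intro c
    refine ⟨c 0 • ⟨x 0 * x 0, Submodule.mul_mem_mul (hxU 0) (hxU 0)⟩ +
      c 1 • ⟨x 0 * x' 1, Submodule.mul_mem_mul (hxU 0) (hx'U 1)⟩ +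
      c 2 • ⟨x 0 * x' 2, Submodule.mul_mem_mul (hxU 0) (hx'U 2)⟩, ?_⟩
    have e0 : Ψ (x 0 * x 0) = ![1, 0, 0] := by
      funext i
      fin_cases i
      · change Φ (μ _) = 1
        rw [hμ, div_self hx0, mul_one, hΦone]
      · change Φ (D₁ (μ _)) = 0
        rw [hμ, div_self hx0, mul_one, Derivation.map_one_eq_zero, map_zero]
      · change Φ (D₂ (μ _)) = 0
        rw [hμ, div_self hx0, mul_one, Derivation.map_one_eq_zero, map_zero]
    have e1 : Ψ (x 0 * x' 1) = ![0, 1, 0] := by
      funext i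
      fin_cases i
      · change Φ (μ _) = 0
        rw [hμ, div_self hx0, one_mul, hx'0]
      · change Φ (D₁ (μ _)) = 1
        rw [hμ, div_self hx0, one_mul, hD1x', hD11, hΦone]
      · change Φ (D₂ (μ _)) = 0
        rw [hμ, div_self hx0, one_mul, hD2x', hD21, map_zero]
    have e2 : Ψ (x 0 * x' 2) = ![0, 0, 1] := by
      funext i
      fin_cases i
      · change Φ (μ _) = 0
        rw [hμ, div_self hx0, one_mul, hx'0]
      · change Φ (D₁ (μ _)) = 0
        rw [hμ, div_self hx0, one_mul, hD1x', hD12, map_zero]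
      · change Φ (D₂ (μ _)) = 1
        rw [hμ, div_self hx0, one_mul, hD2x', hD22, hΦone]
    change Ψ (c 0 • (x 0 * x 0) + c 1 • (x 0 * x' 1) + c 2 • (x 0 * x' 2)) = c
    rw [map_add, map_add, map_smul, map_smul, map_smul, e0, e1, e2]
    funext i
    fin_cases i <;> simp
  have hrk := LinearMap.finrank_range_add_finrank_ker ΨM
  rw [hsurj, finrank_top, finrank_fin_fun] at hrk
  have hle : (U' * U' : Submodule k L) ≤ (LinearMap.ker ΨM).map M.subtype := by
    rw [Submodule.mul_le]
    intro u hu v hv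
    obtain ⟨hu1, hu2⟩ := (hU' u).1 hu
    obtain ⟨hv1, hv2⟩ := (hU' v).1 hv
    refine ⟨⟨u * v, Submodule.mul_mem_mul hu1 hv1⟩, ?_, rfl⟩
    rw [SetLike.mem_coe, LinearMap.mem_ker]
    change Ψ (u * v) = 0
    obtain ⟨au, au1, au2⟩ := hUA u hu1
    obtain ⟨av, av1, av2⟩ := hUA v hv1
    funext i
    fin_cases i
    · change Φ (μ _) = 0
      rw [hμ, hΦmul _ _ au av, hu2, zero_mul]
    · change Φ (D₁ (μ _)) = 0
      rw [hμ, Derivation.leibniz, map_add, smul_eq_mul, smul_eq_mul, hΦmul _ _ au av1, hΦmul _ _ av au1, hu2, hv2,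
        zero_mul, zero_mul, add_zero]
    · change Φ (D₂ (μ _)) = 0
      rw [hμ, Derivation.leibniz, map_add, smul_eq_mul, smul_eq_mul, hΦmul _ _ au av2, hΦmul _ _ av au2, hu2, hv2,
        zero_mul, zero_mul, add_zero]
  have h1 := Submodule.finrank_mono hle
  rw [Submodule.finrank_map_subtype_eq] at h1
  change _ + 3 ≤ finrank k M
  omega

/-- The case of degree at least four. -/
theorem false_of_four_le (d : ℕ) (hd : 4 ≤ d) {U : Submodule k L} (hU : U ≤ G.V 1) (h1 : finrank k U = d + 1)
    (h2 : finrank k (U * U : Submodule k L) ≤ 3 * d + 1) : False := by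
  induction d, hd using Nat.le_induction generalizing U with
  | base => exact five hU h1 h2
  | succ d hd ih =>
    obtain ⟨U', hU', h3, h4⟩ := project hU (by omega)
    exact ih (hU'.trans hU) (by omega) (by omega)

end proj

end Groth.Agent.Surf.K460.PicZ.Gr
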