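import Groth.Agent.Surf.K460.ZGeo
import Groth.Agent.Surf.K460.ZProj
import Groth.Agent.Surf.K460.ZCubic

/-!
# No del Pezzo surface of degree at least three has Picard group generated by the canonical class

In characteristic zero, over an algebraically closed field.
-/

set_option autoImplicit false
universe u
open CategoryTheory CategoryTheory.Limits AlgebraicGeometry TopologicalSpace Opposite

namespace Groth.Agent.Surf.K460.ZThree

open Groth.Agent Groth.Agent.Lefpen.H725.CocDef Groth.Agent.Lefpen.H521.CartierCoc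
open Groth.Agent.Grpsch.PicGrp K464.Curves K464.Base SurfKit DelPezzo ZSec ZCurve PicZ ZGeo

attribute [local instance] algK

variable {k : Type u} [Field k] [IsAlgClosed k] [CharZero k] {X : Scheme.{u}} [X.Over (Spec (CommRingCat.of k))]
  [IsIntegral X] [IsProper (X ↘ Spec (CommRingCat.of k))] [Smooth (X ↘ Spec (CommRingCat.of k))]
  {W D : X.Modules} (P : DP k X W D)

theorem false_of_three_le (hK : Kod k X) (hpic : ∀ c : Pic X, ∃ n : ℤ, c = mk W P.hWi ^ n)
    (hd : 3 ≤ dot k X (mk W P.hWi) (mk W P.hWi)) : False := by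
  obtain ⟨δ, hδ⟩ := exists_hasCoc P.hamp.1
  obtain ⟨d, hdd⟩ := Int.eq_ofNat_of_zero_le (show 0 ≤ dot k X (mk W P.hWi) (mk W P.hWi) by omega)
  let G := gr P hpic hδ
  have h1 : Module.finrank k (G.V 1) = d + 1 := by
    have h := h0_zpow P hK (n := 1) (by norm_num)
    rw [← finrank_gr P hpic hδ 1, hdd] at h
    change 2 * (Module.finrank k (G.V 1) : ℤ) = _ at h
    omega
  have h2 : Module.finrank k (G.V 2) = 3 * d + 1 := by
    have h := h0_zpow P hK (n := 2) (by norm_num)
    rw [← finrank_gr P hpic hδ 2, hdd] at h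
    change 2 * (Module.finrank k (G.V 2) : ℤ) = _ at h
    omega
  have h3 : Module.finrank k (G.V 3) = 6 * d + 1 := by
    have h := h0_zpow P hK (n := 3) (by norm_num)
    rw [← finrank_gr P hpic hδ 3, hdd] at h
    change 2 * (Module.finrank k (G.V 3) : ℤ) = _ at h
    omega
  rw [hdd] at hd
  rcases Nat.lt_or_ge d 4 with h4 | h4
  · obtain rfl : d = 3 := by omega
    exact Gr.false_of_three (G := G) (by omega) (by omega)
  · refine Gr.false_of_four_le (G := G) d h4 (U := G.V 1) le_rfl h1 ?_
    rw [← h2]
    have := G.fin 2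
    refine Submodule.finrank_mono (Submodule.mul_le.2 fun f hf g hg => ?_)
    exact Gr.mul_mem' hf hg (by norm_num)

end Groth.Agent.Surf.K460.ZThree
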