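import Groth.Agent.Surf.K460.YSingGeo
import Groth.Agent.Surf.K460.YWei
import Groth.Agent.Surf.K460.ZThree

/-!
# No del Pezzo surface of degree one has Picard group generated by the canonical class
-/

set_option autoImplicit false
universe u
open CategoryTheory CategoryTheory.Limits AlgebraicGeometry TopologicalSpace Opposite

namespace Groth.Agent.Surf.K460.PicZ.Gr

open Module

theorem codim' {k L : Type*} [Field k] [Field L] [Algebra k L] {G : Gr k L} {t : L} (h1 : (1 : L) ∈ G.V 1)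
    (ht : t ∈ G.V 1) (ht' : t ∉ G.V 0) (hfr : ∀ n : ℕ, 2 * finrank k (G.V n) = n * (n + 1) + 2) {n : ℕ}
    (hn : 2 ≤ n) : finrank k (G.V n) = finrank k (G.I2 t 1 n) + 1 := by
  obtain ⟨m, rfl⟩ := Nat.exists_eq_add_of_le hn
  have ht0 : t ≠ 0 := fun h => ht' (by rw [h]; exact zero_mem _)
  have h := finrank_I2 ht h1 ht0 one_ne_zero (by
    intro h
    obtain ⟨c, hc⟩ := G.mem_zero _ h
    apply ht'
    have hc0 : c ≠ 0 := by
      rintro rfl
      rw [map_zero, one_div, inv_eq_zero] at hc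
      exact ht0 hc
    have : t = algebraMap k L c⁻¹ := by
      rw [map_inv₀, ← hc, one_div, inv_inv]
    rw [this, Algebra.algebraMap_eq_smul_one]
    exact Submodule.smul_mem _ _ G.one_mem) (((2 + m : ℕ)) : ℤ)
  have h0 := hfr m
  have h1 := hfr (m + 1)
  have h2 := hfr (2 + m)
  rw [show (((2 + m : ℕ)) : ℤ) - 2 = (m : ℕ) by push_cast; ring,
    show (((2 + m : ℕ)) : ℤ) - 1 = ((m + 1 : ℕ) : ℤ) by push_cast; ring] at h
  have e : (2 + m) * (2 + m + 1) + 2 + (m * (m + 1) + 2) = 2 * ((m + 1) * (m + 1 + 1) + 2) + 2 := by ring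
  generalize (2 + m) * (2 + m + 1) = A at h2 e
  generalize m * (m + 1) = B at h0 e
  generalize (m + 1) * (m + 1 + 1) = D at h1 e
  omega

end Groth.Agent.Surf.K460.PicZ.Gr

namespace Groth.Agent.Surf.K460.YOne

open Groth.Agent Groth.Agent.Fdesc.LocGen Groth.Agent.Lefpen.H725.CocDef Groth.Agent.Lefpen.H521.CartierCoc
open K801.Cousin K801.CousinH1 K801.LEq Groth.Agent.Grpsch.PicGrp K464.Curves K464.Base
open SurfKit DelPezzo ZSec ZCurve ZGeo PicZ YFrac YKos YTwo YStalk YSing YCusp YSingGeo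

attribute [local instance] algK

section

variable {X : Scheme.{u}} [IsIntegral X]

theorem hasCoc_div {L : X.Modules} {c : X → X.functionField} (hc : HasCoc L c) {y : X.functionField} (hy : y ≠ 0) :
    HasCoc L (fun x => c x / y) := by
  obtain ⟨h0, U, hU, e, he, hg⟩ := hc
  refine ⟨fun x => div_ne_zero (h0 x) hy, U, hU, e, he, fun x x' => ?_⟩
  obtain ⟨g, hη, h1, h2⟩ := hg x x'
  refine ⟨g, hη, h1, ?_⟩
  change c x / y = ff (U x ⊓ U x') hη g * (c x' / y)
  rw [h2, mul_div_assoc]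

end

variable {k : Type u} [Field k] [IsAlgClosed k] {X : Scheme.{u}} [X.Over (Spec (CommRingCat.of k))]
  [IsIntegral X] [IsProper (X ↘ Spec (CommRingCat.of k))] [Smooth (X ↘ Spec (CommRingCat.of k))]
  {W D : X.Modules} (P : DP k X W D)
  (hpic : ∀ c : Pic X, ∃ n : ℤ, c = mk W P.hWi ^ n)
  {δ : X → X.functionField} (hδ : HasCoc D δ)

theorem mem_div {y : X.functionField} (hy : y ≠ 0) {n : ℤ} {f : X.functionField} :
    f ∈ (gr P hpic (hasCoc_div hδ hy)).V n ↔ f * y ^ n ∈ (gr P hpic hδ).V n := by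
  rw [mem_gr, mem_gr]
  refine forall_congr' fun x => ?_
  have : f / (δ x / y) ^ n = f * y ^ n / δ x ^ n := by
    have := zpow_ne_zero n (hδ.1 x)
    have := zpow_ne_zero n hy
    rw [div_zpow]
    field_simp
  rw [this]

theorem fr (hK : Kod k X) (hd : dot k X (mk W P.hWi) (mk W P.hWi) = 1) (n : ℕ) :
    2 * Module.finrank k ((gr P hpic hδ).V n) = n * (n + 1) + 2 := by
  have h := h0_zpow P hK (n := n) (by positivity)
  rw [← finrank_gr P hpic hδ n, hd, mul_one] at h
  exact_mod_cast h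

/-- A section of degree at least two outside the ideal does not vanish at some base point. -/
theorem exists_base (hK : Kod k X) (hd : dot k X (mk W P.hWi) (mk W P.hWi) = 1) {t : X.functionField}
    (h1 : 1 ∈ (gr P hpic hδ).V 1) (ht : t ∈ (gr P hpic hδ).V 1) (ht' : t ∉ (gr P hpic hδ).V 0) {n : ℕ} (hn : 2 ≤ n)
    {f : X.functionField} (hf : f ∈ (gr P hpic hδ).V n) (hf' : f ∉ (gr P hpic hδ).I2 t 1 n) :
    ∃ q : X, ¬ UnitAt q (t / δ q) ∧ ¬ UnitAt q (1 / δ q) ∧ UnitAt q (f / δ q ^ (n : ℤ)) := by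
  by_contra hne
  push Not at hne
  apply hf'
  have ht0 : t ≠ 0 := fun h => ht' (by rw [h]; exact zero_mem _)
  have hst : 1 / t ∉ (gr P hpic hδ).V (1 - 1) := by
    rw [sub_self]
    intro h
    obtain ⟨c, hc⟩ := (gr P hpic hδ).mem_zero _ h
    apply ht'
    have hc0 : c ≠ 0 := by
      rintro rfl
      rw [map_zero, one_div, inv_eq_zero] at hc
      exact ht0 hc
    have : t = algebraMap k _ c⁻¹ := by
      rw [map_inv₀, ← hc, one_div, inv_inv]
    rw [this, Algebra.algebraMap_eq_smul_one]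
    exact Submodule.smul_mem _ _ (gr P hpic hδ).one_mem
  obtain ⟨a, ha, b, hb, hab⟩ := koszul P hpic hδ hK (i := 1) (j := 1) (n := n) (s := t) (t := 1) (f := f)
    (Gr.isPr_one ht ht0) h1 one_ne_zero hst (by
      intro q
      have hδ0 := hδ.1 q
      by_cases c1 : UnitAt q (t / δ q)
      · refine ⟨f / t, 0, regAt_div_unit hδ0 (by rw [zpow_one]; exact c1) (reg_V P hpic hδ hf q),
          by rw [zero_div]; exact regAt_zero q, ?_⟩
        field_simp
        ring
      by_cases c2 : UnitAt q (1 / δ q)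
      · refine ⟨0, f / 1, by rw [zero_div]; exact regAt_zero q,
          regAt_div_unit hδ0 (by rw [zpow_one]; exact c2) (reg_V P hpic hδ hf q), ?_⟩
        ring
      have hfq := hne q c1 c2
      obtain ⟨m, c, hc, hcu, hcn⟩ := exists_frac' P hpic hδ (q := q) (n := n) (u := δ q ^ (n : ℤ)) (by
        rw [div_self (zpow_ne_zero _ hδ0)]
        exact regAt_one q)
      have hcu' : UnitAt q (c * δ q ^ (n : ℤ) / δ q ^ ((m : ℤ) + n)) := by
        rw [zpow_add₀ hδ0, mul_div_mul_right _ _ (zpow_ne_zero _ hδ0)]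
        exact hcu
      have hc' : c * δ q ^ (n : ℤ) ∉ (gr P hpic hδ).I2 t 1 ((m : ℤ) + n) := fun h =>
        nonunit_I2 P hpic hδ ht h1 c1 c2 h hcu'
      have hcf : c * f ∈ (gr P hpic hδ).V ((m : ℤ) + n) := Gr.mul_mem' hc hf rfl
      have := (gr P hpic hδ).fin ((m : ℤ) + n)
      obtain ⟨α, hα⟩ := Gr.span_one (Gr.I2_le ht h1 ((m : ℤ) + n)) (by
        have := Gr.codim' h1 ht ht' (fr P hpic hδ hK hd) (n := m + n) (by omega)
        push_cast at this
        exact this) hcn hc' _ hcf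
      have hα0 : α = 0 := by
        by_contra hα0
        have hcφ : algebraMap k X.functionField α ≠ 0 := (map_ne_zero _).2 hα0
        have e : c * δ q ^ (n : ℤ) / δ q ^ ((m : ℤ) + n) =
            f / δ q ^ (n : ℤ) * (algebraMap k _ α⁻¹ * (c / δ q ^ (m : ℤ))) +
            (-α⁻¹) • (c * f - α • (c * δ q ^ (n : ℤ))) / δ q ^ ((m : ℤ) + n) := by
          have e1 := zpow_ne_zero (n : ℤ) hδ0
          have e2 := zpow_ne_zero (m : ℤ) hδ0
          rw [Algebra.smul_def, Algebra.smul_def, map_neg, map_inv₀, zpow_add₀ hδ0]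
          field_simp
          ring
        rw [e] at hcu'
        have r1 : RegAt q (algebraMap k _ α⁻¹ * (c / δ q ^ (m : ℤ))) := regAt_mul (regAt_algebraMap k q _) (hc q)
        rcases nonunit_add (regAt_mul (reg_V P hpic hδ hf q) r1) (reg_V P hpic hδ
          (Gr.I2_le ht h1 ((m : ℤ) + n) (Submodule.smul_mem _ (-α⁻¹) hα)) q) hcu' with h | h
        · exact hfq (unit_of_mul (reg_V P hpic hδ hf q) r1 h)
        · exact nonunit_I2 P hpic hδ ht h1 c1 c2 (Submodule.smul_mem _ (-α⁻¹) hα) h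
      rw [hα0, zero_smul, sub_zero] at hα
      obtain ⟨a, ha, b, hb, hab⟩ := hα
      have hc0 : c ≠ 0 := fun h => unitAt_ne_zero hcu (by rw [h, zero_div])
      refine ⟨a / c, b / c, ?_, ?_, ?_⟩
      · have := regAt_div_unit hδ0 hcu (reg_V P hpic hδ ha q)
        convert this using 3
        ring
      · have := regAt_div_unit hδ0 hcu (reg_V P hpic hδ hb q)
        convert this using 3
        ring
      · field_simp
        linear_combination hab)
  exact ⟨a, ha, b, hb, hab⟩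

theorem one_of (hK : Kod k X) (hd : dot k X (mk W P.hWi) (mk W P.hWi) = 1) {t : X.functionField}
    (h1 : 1 ∈ (gr P hpic hδ).V 1) (ht : t ∈ (gr P hpic hδ).V 1) (ht' : t ∉ (gr P hpic hδ).V 0) :
    (gr P hpic hδ).One t where
  one_mem := h1
  t_mem := ht
  t_not := ht'
  fr := fr P hpic hδ hK hd
  red := by
    intro n f hn hf hf' m hm h
    obtain ⟨q, c1, c2, hu⟩ := exists_base P hpic hδ hK hd h1 ht ht' hn hf hf'
    refine nonunit_I2 P hpic hδ ht h1 c1 c2 h ?_
    have := unitAt_pow hu m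
    rw [div_pow, ← zpow_natCast (δ q ^ (n : ℤ)) m, ← zpow_mul] at this
    convert this using 3
    push_cast
    ring

/-- Change of chart. -/
theorem I2_div {t : X.functionField} (ht : t ≠ 0) {n : ℕ} {f : X.functionField}
    (hf : f / t ^ (n : ℤ) ∈ (gr P hpic (hasCoc_div hδ ht)).I2 t⁻¹ 1 n) : f ∈ (gr P hpic hδ).I2 t 1 n := by
  obtain ⟨a, ha, b, hb, hab⟩ := hf
  refine ⟨b * t ^ ((n : ℤ) - 1), (mem_div P hpic hδ ht).1 hb, a * t ^ ((n : ℤ) - 1), (mem_div P hpic hδ ht).1 ha, ?_⟩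
  rw [div_eq_iff (zpow_ne_zero _ ht)] at hab
  rw [hab, zpow_sub₀ ht, zpow_one]
  field_simp
  ring

theorem mem_div' {t : X.functionField} (ht : t ≠ 0) {n : ℤ} {f : X.functionField}
    (hf : f ∈ (gr P hpic hδ).V n) : f / t ^ n ∈ (gr P hpic (hasCoc_div hδ ht)).V n := by
  rw [mem_div P hpic hδ ht, div_mul_cancel₀ _ (zpow_ne_zero _ ht)]
  exact hf

omit [IsAlgClosed k] [IsProper (X ↘ Spec (CommRingCat.of k))] [Smooth (X ↘ Spec (CommRingCat.of k))] in
theorem aeval_reflect {t : X.functionField} (ht : t ≠ 0) (N : ℕ) (f : Polynomial k) (hf : f.natDegree ≤ N) :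
    Polynomial.aeval t⁻¹ (Polynomial.reflect N f) = Polynomial.aeval t f / t ^ N := by
  letI := invertibleOfNonzero ht
  have := Polynomial.eval₂_reflect_mul_pow (algebraMap k X.functionField) t N f hf
  rw [invOf_eq_inv] at this
  rw [eq_div_iff (pow_ne_zero _ ht)]
  exact this

include P hpic hδ in
theorem false_of_one [CharZero k] (hK : Kod k X) (hd : dot k X (mk W P.hWi) (mk W P.hWi) = 1)
    (h1 : 1 ∈ (gr P hpic hδ).V 1) : False := by
  obtain ⟨t, ht, ht'⟩ : ∃ t ∈ (gr P hpic hδ).V 1, t ∉ (gr P hpic hδ).V 0 := by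
    by_contra h
    push Not at h
    have e0 := fr P hpic hδ hK hd 0
    have e1 := fr P hpic hδ hK hd 1
    have := (gr P hpic hδ).fin 0
    have e2 := Submodule.finrank_mono (s := (gr P hpic hδ).V 1) (t := (gr P hpic hδ).V 0) h
    push_cast at e0 e1
    omega
  have ht0 : t ≠ 0 := fun h => ht' (by rw [h]; exact zero_mem _)
  have O := one_of P hpic hδ hK hd h1 ht ht'
  obtain ⟨z, hz, hz', w, hw, hw', a, b, ha, hb, hF⟩ := O.weier
  rcases YWei.exists_section_or ha hb with ⟨q, c, hq, hc, hqc⟩ | ⟨r, z₀, hS⟩ | ⟨z₀, hS⟩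
  · exact O.false_of_section hz hz' hw hw' ha hF hq hc hqc
  · exact false_of_sing P hpic hδ O hK hz hz' hw hw' hF hS
  · have hδ' := hasCoc_div hδ ht0
    have k1 : (1 : X.functionField) ∈ (gr P hpic hδ').V 1 := by
      rw [mem_div P hpic hδ ht0, one_mul, zpow_one]
      exact ht
    have k2 : t⁻¹ ∈ (gr P hpic hδ').V 1 := by
      rw [mem_div P hpic hδ ht0, zpow_one, inv_mul_cancel₀ ht0]
      exact h1
    have k3 : t⁻¹ ∉ (gr P hpic hδ').V 0 := by
      rw [mem_div P hpic hδ ht0, zpow_zero, mul_one]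
      have := O.one_div_not 0 0
      rw [map_zero, sub_zero, one_div] at this
      exact_mod_cast this
    have O' := one_of P hpic hδ' hK hd k1 k2 k3
    have mz : z / t ^ (2 : ℤ) ∈ (gr P hpic hδ').V 2 := mem_div' P hpic hδ ht0 hz
    have mw : w / t ^ (3 : ℤ) ∈ (gr P hpic hδ').V 3 := mem_div' P hpic hδ ht0 hw
    refine false_of_sing P hpic hδ' O' hK mz ?_ mw ?_ ?_ hS
    · intro h
      exact hz' (I2_div P hpic hδ ht0 (n := 2) h)
    · intro h
      exact hw' (I2_div P hpic hδ ht0 (n := 3) h)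
    · rw [aeval_reflect ht0 4 a ha, aeval_reflect ht0 6 b hb]
      simp only [zpow_ofNat]
      field_simp
      linear_combination hF

include P hpic in
/-- degree one -/
theorem false_of_deg_one [CharZero k] (hK : Kod k X) (hd : dot k X (mk W P.hWi) (mk W P.hWi) = 1) : False := by
  obtain ⟨δ, hδ⟩ := exists_hasCoc P.hamp.1
  obtain ⟨y, hy, hy0⟩ : ∃ y ∈ (gr P hpic hδ).V 1, y ≠ 0 := by
    have e1 := fr P hpic hδ hK hd 1
    push_cast at e1
    have : Nontrivial ((gr P hpic hδ).V 1) := Module.nontrivial_of_finrank_pos (R := k) (by omega)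
    obtain ⟨y, hy⟩ := exists_ne (0 : (gr P hpic hδ).V 1)
    exact ⟨y, y.2, fun h => hy (Subtype.ext h)⟩
  refine false_of_one P hpic (hasCoc_div hδ hy0) hK hd ?_
  rw [mem_div P hpic hδ hy0, one_mul, zpow_one]
  exact hy

end Groth.Agent.Surf.K460.YOne

namespace Groth.Agent.Surf.K460.YOne

open Groth.Agent Groth.Agent.Grpsch.PicGrp K464.Base SurfKit DelPezzo

/-- The Picard group of a del Pezzo surface of degree at most seven is not generated by the canonical class. -/
theorem false_of_pic_eq_zpow {k : Type u} [Field k] [IsAlgClosed k] [CharZero k] {X : Scheme.{u}}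
    [X.Over (Spec (CommRingCat.of k))] [IsIntegral X] [IsProper (X ↘ Spec (CommRingCat.of k))]
    [Smooth (X ↘ Spec (CommRingCat.of k))] {W D : X.Modules} (P : DP k X W D) (hK : Kod k X)
    (hpic : ∀ c : Pic X, ∃ n : ℤ, c = mk W P.hWi ^ n) : False := by
  have h0 := P.deg_pos
  rcases lt_or_ge (dot k X (mk W P.hWi) (mk W P.hWi)) 2 with h | h
  · exact YOne.false_of_deg_one P hpic hK (by omega)
  · rcases lt_or_ge (dot k X (mk W P.hWi) (mk W P.hWi)) 3 with h' | h'
    · obtain ⟨δ, hδ⟩ := Groth.Agent.Lefpen.H521.CartierCoc.exists_hasCoc P.hamp.1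
      exact YTwo.false_of_two P hpic hδ hK (by omega)
    · exact ZThree.false_of_three_le P hK hpic h'

end Groth.Agent.Surf.K460.YOne
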