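import Mathlib

/-!
# Places with values in an algebraically closed field

* `Place k Ω`: a `k`-subalgebra `O` of `Ω` with a homomorphism `O → k` such that `x ∈ O` or `x⁻¹ ∈ O` for all `x`;
* `exists_place`: an algebraically independent family can be specialised to any family of elements of `k` by a place.
-/

set_option autoImplicit false

namespace Groth.Agent.Surf.K460.YPlace

open Polynomial

variable {k Ω : Type*} [Field k] [Field Ω] [Algebra k Ω]

/-- The subalgebra `G` is the graph of a function. -/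
def Fun (G : Subalgebra k (Ω × k)) : Prop := ∀ c : k, ((0 : Ω), c) ∈ G → c = 0

theorem exists_max {G₀ : Subalgebra k (Ω × k)} (h₀ : Fun G₀) :
    ∃ G : Subalgebra k (Ω × k), G₀ ≤ G ∧ Fun G ∧ ∀ G', G ≤ G' → Fun G' → G' ≤ G := by
  obtain ⟨G, h1, h2⟩ := zorn_le_nonempty₀ {G : Subalgebra k (Ω × k) | Fun G} (by
    intro C hC hchain G hG
    refine ⟨sSup C, ?_, fun G' h => le_sSup h⟩
    intro c hc
    have : Nonempty C := ⟨⟨G, hG⟩⟩
    rw [sSup_eq_iSup'] at hc
    have hdir : Directed (· ≤ ·) (fun i : C => i.1) := hchain.directed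
    rw [← SetLike.mem_coe, Subalgebra.coe_iSup_of_directed hdir, Set.mem_iUnion] at hc
    obtain ⟨⟨G', hG'⟩, hc⟩ := hc
    exact hC hG' c hc) G₀ h₀
  exact ⟨G, h1, h2.1, fun G' h h' => h2.2 h' h⟩

section

variable (G : Subalgebra k (Ω × k))

/-- The projections. -/
noncomputable def p1 : G →+* Ω := (RingHom.fst Ω k).comp G.val.toRingHom
noncomputable def p2 : G →+* k := (RingHom.snd Ω k).comp G.val.toRingHom

theorem p1_apply (g : G) : p1 G g = g.1.1 := rfl
theorem p2_apply (g : G) : p2 G g = g.1.2 := rfl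

theorem p2_surjective : Function.Surjective (p2 G) := fun c =>
  ⟨algebraMap k G c, rfl⟩

/-- The ideal of the reductions of the polynomials vanishing at `x`. -/
noncomputable def J (x : Ω) : Ideal k[X] := Ideal.map (mapRingHom (p2 G)) (RingHom.ker (eval₂RingHom (p1 G) x))

theorem mem_J {x : Ω} {q : k[X]} : q ∈ J G x ↔ ∃ p : G[X], p.eval₂ (p1 G) x = 0 ∧ p.map (p2 G) = q := by
  rw [J, Ideal.mem_map_iff_of_surjective _ (Polynomial.map_surjective _ (p2_surjective G))]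
  rfl

end

variable {G : Subalgebra k (Ω × k)}

theorem aeval_fst (x : Ω) (γ : k) (p : G[X]) : (aeval (x, γ) p : Ω × k).1 = p.eval₂ (p1 G) x := by
  have h : (RingHom.fst Ω k).comp (aeval (R := G) (x, γ) : G[X] →ₐ[G] Ω × k).toRingHom = eval₂RingHom (p1 G) x := by
    apply Polynomial.ringHom_ext
    · intro a
      simp [p1_apply]
    · simp
  exact congrArg (fun f : G[X] →+* Ω => f p) h

theorem aeval_snd (x : Ω) (γ : k) (p : G[X]) : (aeval (x, γ) p : Ω × k).2 = (p.map (p2 G)).eval γ := by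
  have h : (RingHom.snd Ω k).comp (aeval (R := G) (x, γ) : G[X] →ₐ[G] Ω × k).toRingHom =
      (evalRingHom γ).comp (mapRingHom (p2 G)) := by
    apply Polynomial.ringHom_ext
    · intro a
      simp [p2_apply]
    · simp
  exact congrArg (fun f : G[X] →+* k => f p) h

theorem exists_mem_of_J [IsAlgClosed k] (hmax : ∀ G', G ≤ G' → Fun G' → G' ≤ G) {x : Ω} (hJ : J G x ≠ ⊤) :
    ∃ γ : k, (x, γ) ∈ G := by
  obtain ⟨γ, hγ⟩ : ∃ γ : k, ∀ q ∈ J G x, q.eval γ = 0 := by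
    obtain ⟨f, hf⟩ := (IsPrincipalIdealRing.principal (J G x)).principal
    change J G x = Ideal.span {f} at hf
    by_cases h0 : f = 0
    · refine ⟨0, fun q hq => ?_⟩
      rw [hf, h0, Ideal.span_singleton_eq_bot.2 rfl, Ideal.mem_bot] at hq
      rw [hq, eval_zero]
    · obtain ⟨γ, hγ⟩ := IsAlgClosed.exists_root f (fun hd => hJ (by
        rw [hf, Ideal.span_singleton_eq_top]
        exact isUnit_iff_degree_eq_zero.2 hd))
      refine ⟨γ, fun q hq => ?_⟩
      rw [hf, Ideal.mem_span_singleton] at hq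
      obtain ⟨r, rfl⟩ := hq
      rw [eval_mul, hγ.eq_zero, zero_mul]
  refine ⟨γ, ?_⟩
  let G' : Subalgebra k (Ω × k) := ((aeval (R := G) (x, γ) : G[X] →ₐ[G] Ω × k).range).restrictScalars k
  refine hmax G' ?_ ?_ ?_
  · intro g hg
    exact ⟨C ⟨g, hg⟩, by
      change aeval (x, γ) (C (⟨g, hg⟩ : G)) = g
      rw [aeval_C]
      rfl⟩
  · rintro c ⟨p, hp⟩
    change aeval (x, γ) p = _ at hp
    have h1 := aeval_fst x γ p
    have h2 := aeval_snd x γ p
    rw [hp] at h1 h2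
    change (0 : Ω) = _ at h1
    change c = _ at h2
    rw [h2]
    exact hγ _ ((mem_J G).2 ⟨p, h1.symm, rfl⟩)
  · exact ⟨X, by
      change aeval (x, γ) (X : G[X]) = _
      rw [aeval_X]⟩

theorem eval₂_reflect {x : Ω} (hx : x ≠ 0) {n : ℕ} {p : G[X]} (hn : p.natDegree ≤ n)
    (h : p.eval₂ (p1 G) x⁻¹ = 0) : (reflect n p).eval₂ (p1 G) x = 0 := by
  let : Invertible x⁻¹ := invertibleOfNonzero (inv_ne_zero hx)
  have h1 := (eval₂_reflect_eq_zero_iff (p1 G) x⁻¹ n p hn).2 h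
  rwa [invOf_eq_inv, inv_inv] at h1

theorem inv_mem_of [IsAlgClosed k] (hF : Fun G) (hmax : ∀ G', G ≤ G' → Fun G' → G' ≤ G) {g : Ω × k} (hg : g ∈ G)
    (h2 : g.2 ≠ 0) : g⁻¹ ∈ G := by
  have hg1 : g.1 ≠ 0 := fun h => h2 (hF g.2 (by
    have : ((0 : Ω), g.2) = g := Prod.ext h.symm rfl
    rw [this]
    exact hg))
  by_cases hJ : J G g.1⁻¹ = ⊤
  · exfalso
    obtain ⟨p, hp1, hp2⟩ := (mem_J G).1 (by rw [hJ]; trivial : (1 : k[X]) ∈ J G g.1⁻¹)
    let g' : G := ⟨g, hg⟩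
    let r : G := eval g' (reflect p.natDegree p)
    have h3 : p1 G r = 0 := by
      change p1 G (eval g' _) = _
      rw [← eval₂_hom]
      exact eval₂_reflect hg1 le_rfl hp1
    have h4 : p2 G r = g.2 ^ p.natDegree := by
      change p2 G (eval g' _) = _
      rw [← eval₂_hom, ← eval_map, ← reflect_map, hp2, reflect_one, eval_pow, eval_X]
      rfl
    exact pow_ne_zero _ h2 (h4.symm.trans (hF _ (by
      have : ((0 : Ω), p2 G r) = r.1 := Prod.ext h3.symm rfl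
      rw [this]
      exact r.2)))
  · obtain ⟨γ, hγ⟩ := exists_mem_of_J hmax hJ
    have h3 : (g.1⁻¹, γ) * g - 1 ∈ G := sub_mem (mul_mem hγ hg) (one_mem _)
    have h4 : (g.1⁻¹, γ) * g - 1 = (0, γ * g.2 - 1) := by
      ext
      · simp [hg1]
      · simp
    rw [h4] at h3
    have h5 := hF _ h3
    have h6 : g⁻¹ = (g.1⁻¹, γ) := by
      refine Prod.ext rfl ?_
      change g.2⁻¹ = γ
      rw [sub_eq_zero] at h5
      exact (eq_inv_of_mul_eq_one_left h5).symm
    rw [h6]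
    exact hγ

theorem red [IsAlgClosed k] (hF : Fun G) (hmax : ∀ G', G ≤ G' → Fun G' → G' ≤ G) {x : Ω} (hx : x ≠ 0) {p q : G[X]}
    (hp1 : p.eval₂ (p1 G) x = 0) (hp2 : p.map (p2 G) = 1) (hq1 : q.eval₂ (p1 G) x⁻¹ = 0) (hq2 : q.map (p2 G) = 1)
    (hqp : q.natDegree ≤ p.natDegree) :
    ∃ p' : G[X], p'.eval₂ (p1 G) x = 0 ∧ p'.map (p2 G) = 1 ∧ p'.natDegree < p.natDegree := by
  have hn : p.natDegree ≠ 0 := by
    intro hn
    rw [natDegree_eq_zero] at hn
    obtain ⟨g, rfl⟩ := hn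
    rw [eval₂_C] at hp1
    rw [map_C, ← C_1] at hp2
    have h1 := C_injective hp2
    refine one_ne_zero (hF (1 : k) ?_)
    have : ((0 : Ω), (1 : k)) = g.1 := Prod.ext hp1.symm h1.symm
    rw [this]
    exact g.2
  have h1 := eval₂_reflect hx hqp hq1
  have h2 : (reflect p.natDegree q).map (p2 G) = X ^ p.natDegree := by
    rw [← reflect_map, hq2, reflect_one]
  have h3 : p2 G (q.coeff 0) = 1 := by
    rw [← coeff_map, hq2, coeff_one_zero]
  have h4 : ((q.coeff 0).1)⁻¹ ∈ G := inv_mem_of hF hmax (q.coeff 0).2 (by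
    change p2 G (q.coeff 0) ≠ 0
    rw [h3]
    exact one_ne_zero)
  have h5 : (⟨_, h4⟩ : G) * q.coeff 0 = 1 := by
    apply Subtype.ext
    have h6 : (q.coeff 0).1.2 ≠ 0 := by
      change p2 G (q.coeff 0) ≠ 0
      rw [h3]
      exact one_ne_zero
    have h7 : (q.coeff 0).1.1 ≠ 0 := fun h => h6 (hF _ (by
      have : ((0 : Ω), (q.coeff 0).1.2) = (q.coeff 0).1 := Prod.ext h.symm rfl
      rw [this]
      exact (q.coeff 0).2))
    exact Prod.ext (inv_mul_cancel₀ h7) (inv_mul_cancel₀ h6)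
  have h6 : p2 G p.leadingCoeff = 0 := by
    rw [leadingCoeff, ← coeff_map, hp2, coeff_one, if_neg hn]
  refine ⟨p - C (p.leadingCoeff * ⟨_, h4⟩) * reflect p.natDegree q, ?_, ?_, ?_⟩
  · rw [eval₂_sub, eval₂_mul, hp1, h1, mul_zero, sub_zero]
  · rw [Polynomial.map_sub, Polynomial.map_mul, hp2, map_C, map_mul, h6, zero_mul, C_0, zero_mul, sub_zero]
  · have h7 : (p - C (p.leadingCoeff * ⟨_, h4⟩) * reflect p.natDegree q).natDegree ≤ p.natDegree := by
      refine (natDegree_sub_le _ _).trans (max_le le_rfl ?_)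
      refine (natDegree_C_mul_le _ _).trans ?_
      exact natDegree_reflect_le.trans (max_le le_rfl hqp)
    refine lt_of_le_of_ne h7 fun heq => ?_
    have h8 : (p - C (p.leadingCoeff * ⟨_, h4⟩) * reflect p.natDegree q).coeff p.natDegree = 0 := by
      rw [coeff_sub, coeff_C_mul, coeff_reflect, revAt_le le_rfl, Nat.sub_self, mul_assoc, h5, mul_one,
        leadingCoeff, sub_self]
    generalize p - C (p.leadingCoeff * ⟨_, h4⟩) * reflect p.natDegree q = r at h8 heq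
    have h9 : r = 0 := by
      rw [← leadingCoeff_eq_zero, leadingCoeff, heq]
      exact h8
    rw [h9, natDegree_zero] at heq
    exact hn heq.symm

theorem total_of [IsAlgClosed k] (hF : Fun G) (hmax : ∀ G', G ≤ G' → Fun G' → G' ≤ G) {x : Ω} (hx : x ≠ 0) :
    J G x ≠ ⊤ ∨ J G x⁻¹ ≠ ⊤ := by
  by_contra hne
  push Not at hne
  obtain ⟨h1, h2⟩ := hne
  obtain ⟨p, hp1, hp2⟩ := (mem_J G).1 (by rw [h1]; trivial : (1 : k[X]) ∈ J G x)
  obtain ⟨q, hq1, hq2⟩ := (mem_J G).1 (by rw [h2]; trivial : (1 : k[X]) ∈ J G x⁻¹)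
  have key : ∀ (N : ℕ) (p q : G[X]), p.eval₂ (p1 G) x = 0 → p.map (p2 G) = 1 → q.eval₂ (p1 G) x⁻¹ = 0 →
      q.map (p2 G) = 1 → p.natDegree + q.natDegree ≤ N → False := by
    intro N
    induction N with
    | zero =>
      intro p q hp1 hp2 hq1 hq2 h
      obtain ⟨p', -, -, h'⟩ := red hF hmax hx hp1 hp2 hq1 hq2 (by omega)
      omega
    | succ N ih =>
      intro p q hp1 hp2 hq1 hq2 h
      rcases le_total q.natDegree p.natDegree with hle | hle
      · obtain ⟨p', h3, h4, h'⟩ := red hF hmax hx hp1 hp2 hq1 hq2 hle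
        exact ih p' q h3 h4 hq1 hq2 (by omega)
      · obtain ⟨q', h3, h4, h'⟩ := red hF hmax (inv_ne_zero hx) hq1 hq2 (by rwa [inv_inv]) hp2 hle
        exact ih p q' hp1 hp2 h3 h4 (by omega)
  exact key _ p q hp1 hp2 hq1 hq2 le_rfl

/-- A place of `Ω` over `k` with values in `k`. -/
structure Place (k Ω : Type*) [Field k] [Field Ω] [Algebra k Ω] where
  O : Subalgebra k Ω
  φ : O →ₐ[k] k
  total : ∀ x : Ω, x ∈ O ∨ x⁻¹ ∈ O
  inv_mem : ∀ x : O, φ x ≠ 0 → (x : Ω)⁻¹ ∈ O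

theorem exists_place_graph [IsAlgClosed k] {G₀ : Subalgebra k (Ω × k)} (h₀ : Fun G₀) :
    ∃ P : Place k Ω, ∀ g ∈ G₀, ∃ h : g.1 ∈ P.O, P.φ ⟨g.1, h⟩ = g.2 := by
  obtain ⟨G, hG₀, hF, hmax⟩ := exists_max h₀
  let f : G →ₐ[k] Ω := (AlgHom.fst k Ω k).comp G.val
  let s : G →ₐ[k] k := (AlgHom.snd k Ω k).comp G.val
  have hf : Function.Injective f := by
    rw [injective_iff_map_eq_zero]
    intro g hg
    apply Subtype.ext
    refine Prod.ext hg (hF _ ?_)
    have : ((0 : Ω), g.1.2) = g.1 := Prod.ext hg.symm rfl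
    change ((0 : Ω), g.1.2) ∈ G
    rw [this]
    exact g.2
  have hφ : ∀ (g : G) (h : f g ∈ f.range), s ((AlgEquiv.ofInjective f hf).symm ⟨f g, h⟩) = s g := by
    intro g h
    congr 1
    rw [AlgEquiv.symm_apply_eq]
    rfl
  have hmem : ∀ {x : Ω} {γ : k}, (x, γ) ∈ G → x ∈ f.range := fun {x γ} h => ⟨⟨(x, γ), h⟩, rfl⟩
  refine ⟨⟨f.range, s.comp (AlgEquiv.ofInjective f hf).symm.toAlgHom, ?_, ?_⟩, ?_⟩
  · intro x
    by_cases hx : x = 0
    · exact Or.inl (hx ▸ zero_mem _)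
    · rcases total_of hF hmax hx with h | h
      · obtain ⟨γ, hγ⟩ := exists_mem_of_J hmax h
        exact Or.inl (hmem hγ)
      · obtain ⟨γ, hγ⟩ := exists_mem_of_J hmax h
        exact Or.inr (hmem hγ)
  · rintro ⟨x, g, rfl⟩ hx
    have hx' : s g ≠ 0 := by
      rw [← hφ g ⟨g, rfl⟩]
      exact hx
    have h1 := inv_mem_of hF hmax g.2 hx'
    exact ⟨⟨_, h1⟩, rfl⟩
  · intro g hg
    exact ⟨⟨⟨g, hG₀ hg⟩, rfl⟩, hφ ⟨g, hG₀ hg⟩ ⟨⟨g, hG₀ hg⟩, rfl⟩⟩

/-- An algebraically independent family specialises to any family of elements of `k`. -/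
theorem exists_place [IsAlgClosed k] {σ : Type*} {f : σ → Ω} (hf : AlgebraicIndependent k f) (b : σ → k) :
    ∃ P : Place k Ω, ∀ i, ∃ h : f i ∈ P.O, P.φ ⟨f i, h⟩ = b i := by
  let ψ : MvPolynomial σ k →ₐ[k] Ω × k := (MvPolynomial.aeval f).prod (MvPolynomial.aeval b)
  have hF : Fun ψ.range := by
    rintro c ⟨p, hp⟩
    have h1 : MvPolynomial.aeval f p = 0 := congrArg Prod.fst hp
    have h2 : MvPolynomial.aeval b p = c := congrArg Prod.snd hp
    have h3 : p = 0 := hf (by rw [h1, map_zero])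
    rw [← h2, h3, map_zero]
  obtain ⟨P, hP⟩ := exists_place_graph hF
  refine ⟨P, fun i => ?_⟩
  obtain ⟨h, h'⟩ := hP (ψ (MvPolynomial.X i)) ⟨_, rfl⟩
  have h1 : (ψ (MvPolynomial.X i)).1 = f i := MvPolynomial.aeval_X _ _
  have h2 : (ψ (MvPolynomial.X i)).2 = b i := MvPolynomial.aeval_X _ _
  refine ⟨h1 ▸ h, ?_⟩
  rw [← h2, ← h']
  congr 1
  exact Subtype.ext h1.symm

end Groth.Agent.Surf.K460.YPlace
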