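import Groth.Agent.Surf.K460.ZCubic
import Groth.Agent.Surf.K460.YBit

/-!
# The quotient of the graded ring by two elements of degree one
-/

set_option autoImplicit false

namespace Groth.Agent.Surf.K460.PicZ.Gr

open Module

variable {k L : Type*} [Field k] [Field L] [Algebra k L] {G : Gr k L}

/-- The degree `n` part of the ideal generated by two elements of degree one. -/
def I2 (G : Gr k L) (x y : L) (n : ℤ) : Submodule k L where
  carrier := {f | ∃ a ∈ G.V (n - 1), ∃ b ∈ G.V (n - 1), f = x * a + y * b}
  add_mem' := by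
    rintro _ _ ⟨a, ha, b, hb, rfl⟩ ⟨a', ha', b', hb', rfl⟩
    exact ⟨a + a', add_mem ha ha', b + b', add_mem hb hb', by ring⟩
  zero_mem' := ⟨0, zero_mem _, 0, zero_mem _, by ring⟩
  smul_mem' := by
    rintro c _ ⟨a, ha, b, hb, rfl⟩
    refine ⟨c • a, Submodule.smul_mem _ _ ha, c • b, Submodule.smul_mem _ _ hb, ?_⟩
    simp only [Algebra.smul_def]
    ring

theorem mem_I2 {x y : L} {n : ℤ} {f : L} :
    f ∈ G.I2 x y n ↔ ∃ a ∈ G.V (n - 1), ∃ b ∈ G.V (n - 1), f = x * a + y * b := Iff.rfl

theorem I2_le {x y : L} (hx : x ∈ G.V 1) (hy : y ∈ G.V 1) (n : ℤ) : G.I2 x y n ≤ G.V n := by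
  rintro _ ⟨a, ha, b, hb, rfl⟩
  exact add_mem (mul_mem' hx ha (by ring)) (mul_mem' hy hb (by ring))

theorem I2_mul {x y : L} {m n l : ℤ} {f g : L} (hf : f ∈ G.I2 x y m) (hg : g ∈ G.V n) (h : m + n = l) :
    f * g ∈ G.I2 x y l := by
  obtain ⟨a, ha, b, hb, rfl⟩ := hf
  exact ⟨a * g, mul_mem' ha hg (by omega), b * g, mul_mem' hb hg (by omega), by ring⟩

/-- The Koszul relation. -/
theorem finrank_I2 {x y : L} (hx : x ∈ G.V 1) (hy : y ∈ G.V 1) (hx0 : x ≠ 0) (hy0 : y ≠ 0) (hxy : y / x ∉ G.V 0)
    (n : ℤ) : finrank k (G.I2 x y n) + finrank k (G.V (n - 2)) = 2 * finrank k (G.V (n - 1)) := by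
  have := G.fin (n - 1)
  have := G.fin (n - 2)
  let φ : (G.V (n - 1) × G.V (n - 1)) →ₗ[k] L :=
    { toFun := fun p => x * (p.1 : L) + y * (p.2 : L)
      map_add' := fun p q => by
        simp only [Prod.fst_add, Prod.snd_add, Submodule.coe_add]
        ring
      map_smul' := fun c p => by
        simp only [Prod.smul_fst, Prod.smul_snd, Submodule.coe_smul, Algebra.smul_def, RingHom.id_apply]
        ring }
  let ψ : G.V (n - 2) →ₗ[k] (G.V (n - 1) × G.V (n - 1)) :=
    { toFun := fun c => (⟨y * (c : L), mul_mem' hy c.2 (by ring)⟩, ⟨-(x * (c : L)), neg_mem (mul_mem' hx c.2 (by ring))⟩)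
      map_add' := fun p q => by
        refine Prod.ext (Subtype.ext ?_) (Subtype.ext ?_)
        · change y * (((p + q : G.V (n - 2))) : L) = y * (p : L) + y * (q : L)
          rw [Submodule.coe_add]; ring
        · change -(x * (((p + q : G.V (n - 2))) : L)) = -(x * (p : L)) + -(x * (q : L))
          rw [Submodule.coe_add]; ring
      map_smul' := fun c p => by
        refine Prod.ext (Subtype.ext ?_) (Subtype.ext ?_)
        · change y * (((c • p : G.V (n - 2))) : L) = c • (y * (p : L))
          rw [Submodule.coe_smul]; simp only [Algebra.smul_def]; ring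
        · change -(x * (((c • p : G.V (n - 2))) : L)) = c • -(x * (p : L))
          rw [Submodule.coe_smul]; simp only [Algebra.smul_def]; ring }
  have hψ : Function.Injective ψ := by
    intro a b hab
    have h1 : y * (a : L) = y * (b : L) := congrArg (fun p : G.V (n - 1) × G.V (n - 1) => (p.1 : L)) hab
    exact Subtype.ext (mul_left_cancel₀ hy0 h1)
  have hr : LinearMap.range φ = G.I2 x y n := by
    ext f
    constructor
    · rintro ⟨⟨a, b⟩, rfl⟩
      exact ⟨a, a.2, b, b.2, rfl⟩
    · rintro ⟨a, ha, b, hb, rfl⟩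
      exact ⟨(⟨a, ha⟩, ⟨b, hb⟩), rfl⟩
  have hk : LinearMap.ker φ = LinearMap.range ψ := by
    ext ⟨a, b⟩
    rw [LinearMap.mem_ker]
    constructor
    · intro h
      have h' : x * (a : L) + y * (b : L) = 0 := h
      have h1 : y * (b : L) / x ∈ G.V (1 + (n - 1) - 1) := by
        have : y * (b : L) / x = -(a : L) := by
          rw [div_eq_iff hx0]
          linear_combination h'
        rw [this]
        exact neg_mem (by simpa using a.2)
      rcases (isPr_one hx hx0).prime hy b.2 h1 with h2 | h2
      · exact absurd (by simpa using h2) hxy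
      · refine ⟨-⟨(b : L) / x, by convert h2 using 2; ring⟩, ?_⟩
        refine Prod.ext (Subtype.ext ?_) (Subtype.ext ?_)
        · change y * (-((b : L) / x)) = (a : L)
          field_simp
          linear_combination -h'
        · change -(x * (-((b : L) / x))) = (b : L)
          field_simp
    · rintro ⟨c, hc⟩
      have h1 : y * (c : L) = (a : L) := congrArg (fun p : G.V (n - 1) × G.V (n - 1) => (p.1 : L)) hc
      have h2 : -(x * (c : L)) = (b : L) := congrArg (fun p : G.V (n - 1) × G.V (n - 1) => (p.2 : L)) hc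
      change x * (a : L) + y * (b : L) = 0
      rw [← h1, ← h2]
      ring
  have h1 := LinearMap.finrank_range_add_finrank_ker φ
  rw [hr, hk, LinearMap.finrank_range_of_inj hψ, Module.finrank_prod] at h1
  omega

theorem span_two {I V : Submodule k L} (hIV : I ≤ V) [FiniteDimensional k V] (hd : finrank k V = finrank k I + 2)
    {u v : L} (hu : u ∈ V) (hv : v ∈ V) (hind : ∀ α β : k, α • u + β • v ∈ I → α = 0 ∧ β = 0) (f : L) (hf : f ∈ V) :
    ∃ α β : k, f - α • u - β • v ∈ I := by
  have : FiniteDimensional k I := Submodule.finiteDimensional_of_le hIV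
  let ψ : (I × k × k) →ₗ[k] V :=
    { toFun := fun p => ⟨(p.1 : L) + p.2.1 • u + p.2.2 • v, add_mem (add_mem (hIV p.1.2)
        (Submodule.smul_mem _ _ hu)) (Submodule.smul_mem _ _ hv)⟩
      map_add' := fun p q => Subtype.ext (by
        change ((p + q).1 : L) + (p + q).2.1 • u + (p + q).2.2 • v =
          (p.1 : L) + p.2.1 • u + p.2.2 • v + ((q.1 : L) + q.2.1 • u + q.2.2 • v)
        simp only [Prod.fst_add, Prod.snd_add, Submodule.coe_add, add_smul]
        ring)
      map_smul' := fun c p => Subtype.ext (by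
        change ((c • p).1 : L) + (c • p).2.1 • u + (c • p).2.2 • v = c • ((p.1 : L) + p.2.1 • u + p.2.2 • v)
        simp only [Prod.smul_fst, Prod.smul_snd, Submodule.coe_smul, smul_add, smul_assoc]) }
  have hinj : Function.Injective ψ := by
    rw [injective_iff_map_eq_zero]
    rintro ⟨i, α, β⟩ h
    have h' : (i : L) + α • u + β • v = 0 := congrArg Subtype.val h
    obtain ⟨rfl, rfl⟩ := hind α β (by
      have : α • u + β • v = -(i : L) := by linear_combination h'
      rw [this]
      exact neg_mem i.2)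
    rw [zero_smul, zero_smul, add_zero, add_zero] at h'
    exact Prod.ext (Subtype.ext h') rfl
  have hfr : finrank k (I × k × k) = finrank k V := by
    rw [Module.finrank_prod, Module.finrank_prod, Module.finrank_self, hd]
  obtain ⟨⟨i, α, β⟩, h⟩ := (LinearMap.injective_iff_surjective_of_finrank_eq_finrank hfr).1 hinj ⟨f, hf⟩
  have h' : (i : L) + α • u + β • v = f := congrArg Subtype.val h
  refine ⟨α, β, ?_⟩
  have : f - α • u - β • v = (i : L) := by rw [← h']; ring
  rw [this]
  exact i.2

theorem span_one {I V : Submodule k L} (hIV : I ≤ V) [FiniteDimensional k V] (hd : finrank k V = finrank k I + 1)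
    {u : L} (hu : u ∈ V) (hu' : u ∉ I) (f : L) (hf : f ∈ V) : ∃ α : k, f - α • u ∈ I := by
  have : FiniteDimensional k I := Submodule.finiteDimensional_of_le hIV
  let ψ : (I × k) →ₗ[k] V :=
    { toFun := fun p => ⟨(p.1 : L) + p.2 • u, add_mem (hIV p.1.2) (Submodule.smul_mem _ _ hu)⟩
      map_add' := fun p q => Subtype.ext (by
        change ((p + q).1 : L) + (p + q).2 • u = (p.1 : L) + p.2 • u + ((q.1 : L) + q.2 • u)
        simp only [Prod.fst_add, Prod.snd_add, Submodule.coe_add, add_smul]
        ring)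
      map_smul' := fun c p => Subtype.ext (by
        change ((c • p).1 : L) + (c • p).2 • u = c • ((p.1 : L) + p.2 • u)
        simp only [Prod.smul_fst, Prod.smul_snd, Submodule.coe_smul, smul_add, smul_assoc]) }
  have hinj : Function.Injective ψ := by
    rw [injective_iff_map_eq_zero]
    rintro ⟨i, α⟩ h
    have h' : (i : L) + α • u = 0 := congrArg Subtype.val h
    have hα : α = 0 := by
      by_contra hα
      apply hu'
      have : u = -(α⁻¹ • (i : L)) := by
        rw [eq_neg_iff_add_eq_zero, ← smul_eq_zero_iff_right hα, smul_add, smul_smul, mul_inv_cancel₀ hα, one_smul,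
          add_comm]
        exact h'
      rw [this]
      exact neg_mem (Submodule.smul_mem _ _ i.2)
    rw [hα, zero_smul, add_zero] at h'
    exact Prod.ext (Subtype.ext h') hα
  have hfr : finrank k (I × k) = finrank k V := by
    rw [Module.finrank_prod, Module.finrank_self, hd]
  obtain ⟨⟨i, α⟩, h⟩ := (LinearMap.injective_iff_surjective_of_finrank_eq_finrank hfr).1 hinj ⟨f, hf⟩
  have h' : (i : L) + α • u = f := congrArg Subtype.val h
  refine ⟨α, ?_⟩
  have : f - α • u = (i : L) := by rw [← h']; ring
  rw [this]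
  exact i.2

end Groth.Agent.Surf.K460.PicZ.Gr
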