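import Groth.Agent.Surf.K460.YStalk

/-!
# A Weierstrass equation of a smooth surface of degree one has no singular point
-/

set_option autoImplicit false
universe u
open CategoryTheory CategoryTheory.Limits AlgebraicGeometry TopologicalSpace Opposite

namespace Groth.Agent.Surf.K460.YSingGeo

open Groth.Agent Groth.Agent.Fdesc.LocGen Groth.Agent.Lefpen.H725.CocDef Groth.Agent.Lefpen.H521.CartierCoc
open K801.Cousin K801.CousinH1 K801.LEq Groth.Agent.Grpsch.PicGrp K464.Curves K464.Base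
open SurfKit DelPezzo ZSec ZCurve ZGeo PicZ YFrac YKos YTwo YStalk YSing YCusp
open Groth.Agent.Picfga.ChiCech

attribute [local instance] algK

variable {k : Type u} [Field k] [IsAlgClosed k] {X : Scheme.{u}} [X.Over (Spec (CommRingCat.of k))]
  [IsIntegral X] [IsProper (X ↘ Spec (CommRingCat.of k))] [Smooth (X ↘ Spec (CommRingCat.of k))]
  {W D : X.Modules} (P : DP k X W D)
  (hpic : ∀ c : Pic X, ∃ n : ℤ, c = mk W P.hWi ^ n)
  {δ : X → X.functionField} (hδ : HasCoc D δ)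

theorem reg_V {n : ℤ} {f : X.functionField} (hf : f ∈ (gr P hpic hδ).V n) (q : X) : RegAt q (f / δ q ^ n) := hf q

include P in
theorem exists_pos {q : X} : ∃ (m : ℕ) (c : X.functionField), 0 < m ∧ c ∈ (gr P hpic hδ).V m ∧
    UnitAt q (c / δ q ^ (m : ℤ)) := by
  have h0 := hδ.1 q
  obtain ⟨m, c, hc, hu, hcu⟩ := exists_frac' P hpic hδ (q := q) (n := -1) (u := (δ q)⁻¹) (by
    rw [zpow_neg, zpow_one, div_self (inv_ne_zero h0)]
    exact regAt_one q)
  refine ⟨m, c, ?_, hc, hu⟩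
  rcases Nat.eq_zero_or_pos m with rfl | h
  · have h1 := (gr P hpic hδ).eq_zero_of_neg _ (by norm_num) _ hcu
    have h2 : c ≠ 0 := fun h => unitAt_ne_zero hu (by rw [h, zero_div])
    exact absurd h1 (mul_ne_zero h2 (inv_ne_zero h0))
  · exact h

theorem nonunit_I2 {q : X} {t y : X.functionField} (ht : t ∈ (gr P hpic hδ).V 1) (hy : y ∈ (gr P hpic hδ).V 1)
    (ht' : ¬ UnitAt q (t / δ q)) (hy' : ¬ UnitAt q (y / δ q)) {n : ℤ} {f : X.functionField}
    (hf : f ∈ (gr P hpic hδ).I2 t y n) : ¬ UnitAt q (f / δ q ^ n) := by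
  have h0 := hδ.1 q
  obtain ⟨a, ha, b, hb, rfl⟩ := hf
  intro h
  have e : (t * a + y * b) / δ q ^ n = t / δ q * (a / δ q ^ (n - 1)) + y / δ q * (b / δ q ^ (n - 1)) := by
    rw [show n = (n - 1) + 1 by ring, zpow_add₀ h0, zpow_one, show n - 1 + 1 - 1 = n - 1 by ring]
    field_simp
  rw [e] at h
  have r1 : RegAt q (t / δ q) := by
    have := reg_V P hpic hδ ht q
    rwa [zpow_one] at this
  have r2 : RegAt q (y / δ q) := by
    have := reg_V P hpic hδ hy q
    rwa [zpow_one] at this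
  rcases nonunit_add (regAt_mul r1 (ha q)) (regAt_mul r2 (hb q)) h with h1 | h1
  · exact ht' (unit_of_mul r1 (ha q) h1)
  · exact hy' (unit_of_mul r2 (hb q) h1)

variable {t : X.functionField} (O : (gr P hpic hδ).One t)

include O in
theorem exists_pt (hK : Kod k X) {z : X.functionField} (hz : z ∈ (gr P hpic hδ).V 2)
    (hz' : z ∉ (gr P hpic hδ).I2 t 1 2) (r z₀ : k) :
    ∃ q : X, ¬ UnitAt q ((t - algebraMap k _ r) / δ q ^ (1 : ℤ)) ∧
      ¬ UnitAt q ((z - algebraMap k _ z₀) / δ q ^ (2 : ℤ)) := by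
  by_contra hne
  push Not at hne
  have hl : t - algebraMap k _ r ∈ (gr P hpic hδ).V 1 := sub_mem O.t_mem (O.const_mem r (by norm_num))
  have hl0 : t - algebraMap k _ r ≠ 0 := fun h => O.sub_not r (by rw [h]; exact zero_mem _)
  have hzc : z - algebraMap k _ z₀ ∈ (gr P hpic hδ).V 2 := sub_mem hz (O.const_mem z₀ (by norm_num))
  have hst : (z - algebraMap k _ z₀) / (t - algebraMap k _ r) ∉ (gr P hpic hδ).V (2 - 1) := by
    have := O.prod_not hz hz' r {z₀} 1
    simpa using this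
  have hz0 : z - algebraMap k _ z₀ ≠ 0 := fun h => hst (by rw [h, zero_div]; exact zero_mem _)
  obtain ⟨a, ha, b, hb, hab⟩ := koszul P hpic hδ hK (i := 1) (j := 2) (n := 1) (f := 1)
    (Gr.isPr_one hl hl0) hzc hz0 hst (by
      intro q
      have hδ0 := hδ.1 q
      have h1 : RegAt q (1 / δ q ^ (1 : ℤ)) := O.one_mem q
      by_cases h : UnitAt q ((t - algebraMap k _ r) / δ q ^ (1 : ℤ))
      · refine ⟨1 / (t - algebraMap k _ r), 0, regAt_div_unit hδ0 h h1, by rw [zero_div]; exact regAt_zero q, ?_⟩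
        field_simp
        ring
      · refine ⟨0, 1 / (z - algebraMap k _ z₀), by rw [zero_div]; exact regAt_zero q,
          regAt_div_unit hδ0 (hne q h) h1, ?_⟩
        field_simp
        ring)
  have hb0 : b = 0 := (gr P hpic hδ).eq_zero_of_neg _ (by norm_num) _ hb
  rw [hb0, mul_zero, add_zero] at hab
  apply O.one_div_not r 0
  rw [hab, mul_div_cancel_left₀ _ hl0]
  simpa using ha

include O in
/-- the point does not lie on the curve `1 = 0` -/
theorem unit_one {z : X.functionField} (hz : z ∈ (gr P hpic hδ).V 2)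
    (hz' : z ∉ (gr P hpic hδ).I2 t 1 2) {r z₀ : k} {q : X}
    (h1 : ¬ UnitAt q ((t - algebraMap k _ r) / δ q ^ (1 : ℤ)))
    (h2 : ¬ UnitAt q ((z - algebraMap k _ z₀) / δ q ^ (2 : ℤ))) : UnitAt q (1 / δ q) := by
  by_contra hne
  have h0 := hδ.1 q
  have r1 : RegAt q (1 / δ q) := by
    have := reg_V P hpic hδ O.one_mem q
    rwa [zpow_one] at this
  have key : ∀ {n : ℤ} {f : X.functionField} (c : k) (m : ℕ), f - algebraMap k _ c ∈ (gr P hpic hδ).V n →
      ¬ UnitAt q ((f - algebraMap k _ c) / δ q ^ n) → n = m + 1 → ¬ UnitAt q (f / δ q ^ n) := by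
    intro n f c m hf hfn hm hu
    have e : f / δ q ^ n = (f - algebraMap k _ c) / δ q ^ n + 1 / δ q * ((1 / δ q) ^ m * algebraMap k _ c) := by
      rw [hm, zpow_add₀ h0, zpow_one, zpow_natCast, one_div_pow]
      field_simp
      ring
    rw [e] at hu
    have r2 : RegAt q ((1 / δ q) ^ m * algebraMap k _ c) := regAt_mul (regAt_pow r1 m) (regAt_algebraMap k q c)
    rcases nonunit_add (hf q) (regAt_mul r1 r2) hu with h | h
    · exact hfn h
    · exact hne (unit_of_mul r1 r2 h)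
  have ht' : ¬ UnitAt q (t / δ q) := by
    have := key r 0 (sub_mem O.t_mem (O.const_mem r (by norm_num))) h1 (by norm_num)
    rwa [zpow_one] at this
  have hz'' : ¬ UnitAt q (z / δ q ^ (2 : ℤ)) := key z₀ 1 (sub_mem hz (O.const_mem z₀ (by norm_num))) h2 (by norm_num)
  obtain ⟨m, c, hm, hc, hcu⟩ := exists_pos P hpic hδ (q := q)
  have hzm : z ^ m ∈ (gr P hpic hδ).V ((2 * m : ℕ) : ℤ) := by
    have := Gr.pow_mem hz m
    convert this using 2
    push_cast
    ring
  have hc2 : c ^ 2 ∈ (gr P hpic hδ).V ((2 * m : ℕ) : ℤ) := by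
    have := Gr.pow_mem hc 2
    convert this using 2
    push_cast
    ring
  obtain ⟨α, hα⟩ := O.span (n := 2 * m) (by omega) hzm (O.pow_not hz hz' hm) hc2
  have hu : UnitAt q (c ^ 2 / δ q ^ ((2 * m : ℕ) : ℤ)) := by
    have := unitAt_pow hcu 2
    rw [div_pow, ← zpow_natCast (δ q ^ (m : ℤ)) 2, ← zpow_mul] at this
    convert this using 3
    push_cast
    ring
  have e : c ^ 2 / δ q ^ ((2 * m : ℕ) : ℤ) = (c ^ 2 - α • z ^ m) / δ q ^ ((2 * m : ℕ) : ℤ) +
      z / δ q ^ (2 : ℤ) * ((z / δ q ^ (2 : ℤ)) ^ (m - 1) * algebraMap k _ α) := by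
    obtain ⟨l, rfl⟩ := Nat.exists_eq_add_of_le hm
    rw [show Nat.succ 0 + l - 1 = l by omega, Algebra.smul_def, zpow_natCast, div_pow, zpow_ofNat, ← pow_mul,
      show 2 * (Nat.succ 0 + l) = 2 + 2 * l by omega, show Nat.succ 0 + l = 1 + l by omega, pow_add, pow_add]
    field_simp
    ring
  rw [e] at hu
  have hz2 : RegAt q (z / δ q ^ (2 : ℤ)) := hz q
  have r2 : RegAt q ((z / δ q ^ (2 : ℤ)) ^ (m - 1) * algebraMap k _ α) :=
    regAt_mul (regAt_pow hz2 (m - 1)) (regAt_algebraMap k q α)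
  rcases nonunit_add (Gr.I2_le O.t_mem O.one_mem _ hα q) (regAt_mul hz2 r2) hu with h | h
  · exact nonunit_I2 P hpic hδ O.t_mem O.one_mem ht' hne hα h
  · exact hz'' (unit_of_mul hz2 r2 h)

omit [IsAlgClosed k] [IsProper (X ↘ Spec (CommRingCat.of k))] [Smooth (X ↘ Spec (CommRingCat.of k))] in
/-- the base field in the stalk -/
theorem exists_const (q : X) : ∃ κ : k →+* X.presheaf.stalk q, ∀ c, sf q (κ c) = algebraMap k X.functionField c :=
  ⟨(X.presheaf.germ ⊤ q trivial).hom.comp (str k (⊤ : X.Opens)), fun c => by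
    rw [RingHom.comp_apply]
    exact sf_germ _ _⟩

include O in
/-- No singular points of the Weierstrass equation. -/
theorem false_of_sing (hK : Kod k X) {z w : X.functionField} (hz : z ∈ (gr P hpic hδ).V 2)
    (hz' : z ∉ (gr P hpic hδ).I2 t 1 2) (hw : w ∈ (gr P hpic hδ).V 3) (hw' : w ∉ (gr P hpic hδ).I2 t 1 3)
    {a b : Polynomial k} (hF : w ^ 2 = z ^ 3 + Polynomial.aeval t a * z + Polynomial.aeval t b) {r z₀ : k}
    (hS : Sg a b r z₀) : False := by
  obtain ⟨q, hq1, hq2⟩ := exists_pt P hpic hδ O hK hz hz' r z₀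
  have h1 := unit_one P hpic hδ O hz hz' hq1 hq2
  have h0 := hδ.1 q
  have hδu : ∀ n : ℕ, UnitAt q (δ q ^ (n : ℤ)) := by
    intro n
    have := unitAt_pow (unitAt_inv h1) n
    rwa [one_div, inv_inv, ← zpow_natCast] at this
  have hreg : ∀ {n : ℕ} {f : X.functionField}, f ∈ (gr P hpic hδ).V n → RegAt q f := by
    intro n f hf
    have := regAt_mul (hf q) (unitAt_regAt (hδu n))
    rwa [div_mul_cancel₀ _ (zpow_ne_zero _ h0)] at this
  have hunit : ∀ (n : ℕ) {f : X.functionField}, UnitAt q f → UnitAt q (f / δ q ^ (n : ℤ)) := by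
    intro n f hf
    exact unitAt_div hf (hδu n)
  have hunit' : ∀ (n : ℕ) {f : X.functionField}, UnitAt q (f / δ q ^ (n : ℤ)) → UnitAt q f := by
    intro n f hf
    have := unitAt_mul hf (hδu n)
    rwa [div_mul_cancel₀ _ (zpow_ne_zero _ h0)] at this
  obtain ⟨κ, hκ⟩ := exists_const (k := k) q
  obtain ⟨T, hT⟩ := exists_sf (hreg (n := 1) (by exact_mod_cast O.t_mem))
  obtain ⟨Z, hZ⟩ := exists_sf (hreg (n := 2) (by exact_mod_cast hz))
  obtain ⟨W', hW⟩ := exists_sf (hreg (n := 3) (by exact_mod_cast hw))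
  have := K459.SurfBase.isRegular (k := k) X q
  obtain ⟨f₁, f₂, hf₁, hf₂, hm⟩ := exists_two (K459.SurfBase.ringKrullDim_stalk_le X P.hdim q)
  refine false_of_local O (sf q) (sf_injective q) κ hκ hz hz' hw hw' hF hS hT hZ hW ?_ ?_ ?_ f₁ f₂ hf₁ hf₂ hm
  · rw [← unitAt_sf, RingHom.map_sub, hκ, hT]
    intro h
    exact hq1 (by exact_mod_cast hunit 1 h)
  · rw [← unitAt_sf, RingHom.map_sub, hκ, hZ]
    intro h
    exact hq2 (by exact_mod_cast hunit 2 h)
  · intro f
    obtain ⟨m, c, hc, hcu, hcf⟩ := exists_frac' P hpic hδ (q := q) (n := 0) (u := sf q f) (by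
      rw [zpow_zero, div_one]
      exact regAt_sf f)
    rw [add_zero] at hcf
    obtain ⟨u, hu⟩ := exists_sf (hreg hc)
    refine ⟨m, u, ?_, by rw [hu]; exact hc, by rw [RingHom.map_mul, hu]; exact hcf⟩
    rw [← unitAt_sf, hu]
    exact hunit' m hcu

end Groth.Agent.Surf.K460.YSingGeo
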