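import Groth.Agent.Surf.K460.YTwo
import Groth.Agent.Surf.K460.YSing
import Groth.Agent.Surf.K459.SurfBase

/-!
# Stalks inside the function field; generators of the maximal ideals of a smooth surface
-/

set_option autoImplicit false
universe u
open CategoryTheory CategoryTheory.Limits AlgebraicGeometry TopologicalSpace Opposite

namespace Groth.Agent.Surf.K460.YStalk

open Groth.Agent Groth.Agent.Fdesc.LocGen Groth.Agent.Lefpen.H725.CocDef Groth.Agent.Lefpen.H521.CartierCoc
open K801.Cousin K801.CousinH1 K801.LEq Groth.Agent.Grpsch.PicGrp K464.Curves K464.Base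
open SurfKit DelPezzo ZSec ZCurve ZGeo PicZ YFrac YKos YTwo

section

variable {X : Scheme.{u}} [IsIntegral X]

/-- The stalk inside the function field. -/
noncomputable def sf (q : X) : X.presheaf.stalk q →+* X.functionField :=
  (X.presheaf.stalkSpecializes (genericPoint_specializes q)).hom

theorem sf_germ {U : X.Opens} {q : X} (hq : q ∈ U) (g : Γ(X, U)) :
    sf q (X.presheaf.germ U q hq g) = ff U (gen_mem hq) g :=
  TopCat.Presheaf.germ_stalkSpecializes_apply X.presheaf hq (genericPoint_specializes q) g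

theorem exists_germ {q : X} (s : X.presheaf.stalk q) :
    ∃ (U : X.Opens) (hq : q ∈ U) (g : Γ(X, U)), X.presheaf.germ U q hq g = s := by
  obtain ⟨U, hq, g, hg⟩ := X.presheaf.exists_germ_eq s
  exact ⟨U, hq, g, hg⟩

theorem exists_sf {q : X} {f : X.functionField} (hf : RegAt q f) : ∃ s, sf q s = f := by
  obtain ⟨U, hq, hη, g, rfl⟩ := hf
  exact ⟨X.presheaf.germ U q hq g, sf_germ hq g⟩

theorem regAt_sf {q : X} (s : X.presheaf.stalk q) : RegAt q (sf q s) := by
  obtain ⟨U, hq, g, rfl⟩ := exists_germ s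
  exact ⟨U, hq, gen_mem hq, g, (sf_germ hq g).symm⟩

theorem unitAt_sf {q : X} (s : X.presheaf.stalk q) : UnitAt q (sf q s) ↔ IsUnit s := by
  obtain ⟨U, hq, g, rfl⟩ := exists_germ s
  rw [sf_germ, unitAt_iff hq, Scheme.mem_basicOpen (hx := hq)]

theorem sf_injective (q : X) : Function.Injective (sf q) := by
  rw [injective_iff_map_eq_zero]
  intro s hs
  obtain ⟨U, hq, g, rfl⟩ := exists_germ s
  rw [sf_germ] at hs
  have : g = 0 := ff_injective U (gen_mem hq) (by rw [hs, map_zero])
  rw [this, map_zero]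

end

/-- Generators of the maximal ideal of a regular local ring of dimension at most two. -/
theorem exists_two {R : Type*} [CommRing R] [IsRegularLocalRing R] (hdim : ringKrullDim R ≤ 2) :
    ∃ f₁ f₂ : R, ¬ IsUnit f₁ ∧ ¬ IsUnit f₂ ∧ ∀ f, ¬ IsUnit f → ∃ a b, f = a * f₁ + b * f₂ := by
  classical
  have h1 : (IsLocalRing.maximalIdeal R).FG := IsNoetherian.noetherian _
  obtain ⟨s, hs, hspan⟩ := Submodule.FG.exists_span_finset_card_eq_spanFinrank h1
  have h2 : ((IsLocalRing.maximalIdeal R).spanFinrank : WithBot ℕ∞) ≤ 2 := by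
    rw [IsRegularLocalRing.spanFinrank_maximalIdeal]
    exact hdim
  have h3 : s.card ≤ 2 := by
    rw [hs]
    exact_mod_cast h2
  obtain ⟨f₁, f₂, hf⟩ : ∃ f₁ f₂ : R, Ideal.span ({f₁, f₂} : Set R) = IsLocalRing.maximalIdeal R := by
    rcases Nat.lt_or_ge s.card 1 with h | h
    · obtain rfl := Finset.card_eq_zero.1 (by omega : s.card = 0)
      refine ⟨0, 0, ?_⟩
      rw [← hspan]
      change Submodule.span R _ = _
      simp
    · rcases Nat.lt_or_ge s.card 2 with h' | h'
      · obtain ⟨x, rfl⟩ := Finset.card_eq_one.1 (by omega : s.card = 1)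
        refine ⟨x, x, ?_⟩
        rw [← hspan]
        change Submodule.span R _ = _
        simp
      · obtain ⟨x, y, -, rfl⟩ := Finset.card_eq_two.1 (by omega : s.card = 2)
        refine ⟨x, y, ?_⟩
        rw [← hspan]
        change Submodule.span R _ = _
        simp
  have hm1 : f₁ ∈ IsLocalRing.maximalIdeal R := by
    rw [← hf]
    exact Ideal.subset_span (by simp)
  have hm2 : f₂ ∈ IsLocalRing.maximalIdeal R := by
    rw [← hf]
    exact Ideal.subset_span (by simp)
  refine ⟨f₁, f₂, hm1, hm2, fun f hf' => ?_⟩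
  have h4 : f ∈ Ideal.span ({f₁, f₂} : Set R) := by
    rw [hf]
    exact hf'
  obtain ⟨a, b, hab⟩ := Ideal.mem_span_pair.1 h4
  exact ⟨a, b, hab.symm⟩

end Groth.Agent.Surf.K460.YStalk
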