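import Groth.Agent.Surf.K460.YPlace

/-!
# Reduction of polynomials by a place

* `exists_dom`: in a finite family some element dominates all the others;
* `exists_prim`, `gauss_sq`: primitive polynomials in several variables; a polynomial with integral square is integral;
* `exists_prim_poly`: primitive polynomials in one variable.
-/

set_option autoImplicit false

namespace Groth.Agent.Surf.K460.YVal

open YPlace

variable {k Ω : Type*} [Field k] [Field Ω] [Algebra k Ω] (P : Place k Ω)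

/-- The inclusion of the ring of the place. -/
noncomputable def ι : P.O →+* Ω := P.O.val.toRingHom

/-- The residue map. -/
noncomputable def ρ : P.O →+* k := P.φ.toRingHom

theorem ι_injective : Function.Injective (ι P) := Subtype.val_injective

theorem ι_apply (x : P.O) : ι P x = (x : Ω) := rfl

theorem ρ_mk_algebraMap (c : k) (h : algebraMap k Ω c ∈ P.O) : ρ P ⟨algebraMap k Ω c, h⟩ = c :=
  P.φ.commutes c

theorem ρ_algebraMap (c : k) : ρ P (algebraMap k P.O c) = c := P.φ.commutes c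

theorem exists_inv {x : P.O} (hx : ρ P x ≠ 0) : ∃ y : P.O, x * y = 1 := by
  have h0 : (x : Ω) ≠ 0 := by
    intro h
    apply hx
    have : x = 0 := Subtype.ext h
    rw [this, map_zero]
  exact ⟨⟨_, P.inv_mem x hx⟩, Subtype.ext (mul_inv_cancel₀ h0)⟩

theorem inv_of_not_mem {x : Ω} (hx : x ∉ P.O) : ∃ h : x⁻¹ ∈ P.O, ρ P ⟨x⁻¹, h⟩ = 0 := by
  have h := (P.total x).resolve_left hx
  refine ⟨h, ?_⟩
  by_contra hne
  apply hx
  have := P.inv_mem ⟨x⁻¹, h⟩ hne
  rwa [inv_inv] at this

theorem exists_dom {α : Type*} (s : Finset α) (a : α → Ω) (h : ∃ i ∈ s, a i ≠ 0) :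
    ∃ i ∈ s, a i ≠ 0 ∧ ∀ j ∈ s, a j / a i ∈ P.O := by
  classical
  induction s using Finset.induction_on with
  | empty => simp at h
  | insert b s hb ih =>
    by_cases hs : ∃ i ∈ s, a i ≠ 0
    · obtain ⟨i, hi, hi0, hij⟩ := ih hs
      by_cases hbi : a b / a i ∈ P.O
      · exact ⟨i, Finset.mem_insert_of_mem hi, hi0, fun j hj => (Finset.mem_insert.1 hj).elim (fun h => h ▸ hbi) (hij j)⟩
      · have hb0 : a b ≠ 0 := fun h0 => hbi (by rw [h0, zero_div]; exact zero_mem _)
        obtain ⟨h1, -⟩ := inv_of_not_mem P hbi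
        rw [inv_div] at h1
        refine ⟨b, Finset.mem_insert_self _ _, hb0, fun j hj => ?_⟩
        rcases Finset.mem_insert.1 hj with rfl | hj
        · rw [div_self hb0]
          exact one_mem _
        · have h2 := mul_mem (hij j hj) h1
          rwa [div_mul_div_cancel₀ hi0] at h2
    · push Not at hs
      obtain ⟨i, hi, hi0⟩ := h
      rcases Finset.mem_insert.1 hi with rfl | hi
      · refine ⟨i, Finset.mem_insert_self _ _, hi0, fun j hj => ?_⟩
        rcases Finset.mem_insert.1 hj with rfl | hj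
        · rw [div_self hi0]
          exact one_mem _
        · rw [hs j hj, zero_div]
          exact zero_mem _
      · exact absurd (hs i hi) hi0

open MvPolynomial in
theorem exists_lift {σ : Type*} {g : MvPolynomial σ Ω} (h : ∀ m, coeff m g ∈ P.O) :
    ∃ g' : MvPolynomial σ P.O, map (ι P) g' = g := by
  have h1 : g ∈ Set.range (MvPolynomial.map (ι P)) := by
    rw [mem_range_map_iff_coeffs_subset]
    intro c hc
    obtain ⟨m, -, rfl⟩ := mem_coeffs_iff.1 hc
    exact ⟨⟨_, h m⟩, rfl⟩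
  exact h1

open MvPolynomial in
theorem exists_prim {σ : Type*} {g : MvPolynomial σ Ω} (hg : g ≠ 0) :
    ∃ (γ : Ω) (g' : MvPolynomial σ P.O), γ ≠ 0 ∧ map (ρ P) g' ≠ 0 ∧ g = C γ * map (ι P) g' := by
  classical
  obtain ⟨m, hm⟩ := ne_zero_iff.1 hg
  obtain ⟨i, hi, hi0, hij⟩ := exists_dom P g.support (fun m => coeff m g) ⟨m, mem_support_iff.2 hm, hm⟩
  obtain ⟨g', hg'⟩ := exists_lift P (g := C (coeff i g)⁻¹ * g) (by
    intro m
    rw [coeff_C_mul, mul_comm, ← div_eq_mul_inv]
    by_cases hm : m ∈ g.support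
    · exact hij m hm
    · rw [notMem_support_iff.1 hm, zero_div]
      exact zero_mem _)
  refine ⟨coeff i g, g', hi0, ?_, ?_⟩
  · rw [ne_zero_iff]
    refine ⟨i, ?_⟩
    have h1 := congrArg (coeff i) hg'
    rw [coeff_map, coeff_C_mul, inv_mul_cancel₀ hi0] at h1
    have h2 : coeff i g' = 1 := ι_injective P (by rw [h1, map_one])
    rw [coeff_map, h2, map_one]
    exact one_ne_zero
  · rw [hg', ← mul_assoc, ← C_mul, mul_inv_cancel₀ hi0, C_1, one_mul]

open MvPolynomial in
/-- A polynomial whose square is integral is integral. -/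
theorem gauss_sq {σ : Type*} {g : MvPolynomial σ Ω} {R : MvPolynomial σ P.O} (h : g ^ 2 = map (ι P) R) :
    ∃ g' : MvPolynomial σ P.O, map (ι P) g' = g := by
  by_cases hg : g = 0
  · exact ⟨0, by rw [hg, map_zero]⟩
  obtain ⟨γ, g', hγ, hg', rfl⟩ := exists_prim P hg
  by_cases hγO : γ ∈ P.O
  · exact ⟨C ⟨γ, hγO⟩ * g', by rw [map_mul, map_C]; rfl⟩
  · exfalso
    obtain ⟨hi, hi0⟩ := inv_of_not_mem P hγO
    have h1 : g' ^ 2 = C ((⟨γ⁻¹, hi⟩ : P.O) ^ 2) * R := by
      apply map_injective _ (ι_injective P)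
      rw [map_mul, map_C, map_pow, ← h, map_pow, mul_pow, ← C_pow, ← mul_assoc, ← C_mul, ι_apply, ← mul_pow]
      change _ = C ((γ⁻¹ * γ) ^ 2) * _
      rw [inv_mul_cancel₀ hγ, one_pow, C_1, one_mul]
    have h2 := congrArg (map (ρ P)) h1
    rw [map_mul, map_C, map_pow, map_pow, hi0, zero_pow two_ne_zero, C_0, zero_mul] at h2
    exact hg' (pow_eq_zero_iff two_ne_zero |>.1 h2)

open Polynomial in
theorem exists_lift_poly {g : Polynomial Ω} (h : ∀ n, g.coeff n ∈ P.O) : ∃ g' : Polynomial P.O, g'.map (ι P) = g := by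
  have h1 : g ∈ Polynomial.lifts (ι P) := by
    rw [lifts_iff_coeff_lifts]
    exact fun n => ⟨⟨_, h n⟩, rfl⟩
  exact (mem_lifts g).1 h1

end Groth.Agent.Surf.K460.YVal
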