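import Groth.Agent.Surf.K460.ZSec
import Groth.Agent.Surf.K460.DelPezzo
import Groth.Agent.Models.H38.SecDiv
import Groth.Agent.Surf.K465.Eff

/-!
# Divisibility of sections along integral curves
-/

set_option autoImplicit false
universe u
open CategoryTheory CategoryTheory.Limits AlgebraicGeometry TopologicalSpace Opposite

namespace Groth.Agent.Surf.K460.ZCurve

open Groth.Agent Groth.Agent.Fdesc.LocGen Groth.Agent.Lefpen.H725.CocDef Groth.Agent.Lefpen.H521.CartierCoc
open K801.Cousin K801.CousinH1 K801.LEq Groth.Agent.Grpsch.PicGrp K464.Curves K464.Base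
open Groth.Agent.Dix.IdealModCartier

variable {X : Scheme.{u}}

/-- A function vanishing at the generic point of an integral curve lies in its ideal. -/
theorem mem_ideal {C : X.IdealSheafData} (hC : IsCurve C) (U : X.affineOpens) (g : Γ(X, U.1))
    (h : gp hC ∉ X.basicOpen g) : g ∈ C.ideal U := by
  have := hC.integral
  rw [← K464.Curves.ker_subschemeι C, Scheme.Hom.ker_apply, RingHom.mem_ker]
  by_contra hne
  have h1 : C.subscheme.basicOpen ((C.subschemeι.app U.1).hom g) ≠ ⊥ := by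
    rw [Ne, basicOpen_eq_bot_iff]
    exact hne
  have h2 : genericPoint C.subscheme ∈ C.subscheme.basicOpen ((C.subschemeι.app U.1).hom g) := by
    obtain ⟨x, hx⟩ : ((C.subscheme.basicOpen ((C.subschemeι.app U.1).hom g) : C.subscheme.Opens) :
        Set C.subscheme).Nonempty := by
      rw [Set.nonempty_iff_ne_empty]
      intro h3
      exact h1 (Opens.ext h3)
    exact (genericPoint_specializes x).mem_open (C.subscheme.basicOpen _).2 hx
  apply h
  have h3 := Scheme.preimage_basicOpen C.subschemeι g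
  change C.subschemeι (genericPoint C.subscheme) ∈ X.basicOpen g
  have h4 : genericPoint C.subscheme ∈ C.subschemeι ⁻¹ᵁ X.basicOpen g := by
    rw [h3]
    exact h2
  exact h4

variable [IsIntegral X]

/-- a function is a unit at `x` iff `x` lies in its basic open -/
theorem unitAt_iff {U : X.Opens} {x : X} (hx : x ∈ U) (g : Γ(X, U)) :
    UnitAt x (ff U (gen_mem hx) g) ↔ x ∈ X.basicOpen g := by
  rw [Scheme.mem_basicOpen (hx := hx)]
  constructor
  · rintro ⟨V, hxV, hη, g', hg', h⟩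
    have hηη : genericPoint X ∈ U ⊓ V := ⟨gen_mem hx, hη⟩
    have hxx : x ∈ U ⊓ V := ⟨hx, hxV⟩
    have h1 : ores (inf_le_left : U ⊓ V ≤ U) g = ores (inf_le_right : U ⊓ V ≤ V) g' :=
      ff_injective (U ⊓ V) hηη (by rw [ff_ores, ff_ores]; exact h.symm)
    have h2 : X.presheaf.germ U x hx g = X.presheaf.germ V x hxV g' := by
      have h3 := congrArg (X.presheaf.germ (U ⊓ V) x hxx) h1
      exact (TopCat.Presheaf.germ_res_apply X.presheaf (homOfLE inf_le_left) x hxx g).symm.trans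
        (h3.trans (TopCat.Presheaf.germ_res_apply X.presheaf (homOfLE inf_le_right) x hxx g'))
    rw [h2]
    exact hg'.map (X.presheaf.germ V x hxV).hom
  · intro h
    have h1 : x ∈ X.basicOpen g := by rwa [Scheme.mem_basicOpen (hx := hx)]
    have hle : X.basicOpen g ≤ U := X.basicOpen_le g
    refine ⟨X.basicOpen g, h1, gen_mem h1, ores hle g, ?_, ff_ores _ _ _⟩
    exact RingedSpace.isUnit_res_basicOpen _ g

theorem unitAt_of_regAt {x : X} {u v : X.functionField} (hu : RegAt x u) (hv : RegAt x v) (h : u * v = 1) :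
    UnitAt x u := by
  obtain ⟨U, hxU, hη, g, rfl⟩ := hu
  obtain ⟨V, hxV, hη', g', rfl⟩ := hv
  have hηη : genericPoint X ∈ U ⊓ V := ⟨hη, hη'⟩
  refine ⟨U ⊓ V, ⟨hxU, hxV⟩, hηη, ores inf_le_left g, ?_, ff_ores _ _ _⟩
  refine IsUnit.of_mul_eq_one (ores inf_le_right g') (ff_injective (U ⊓ V) hηη ?_)
  rw [map_mul, ff_ores, ff_ores, h, map_one]

/-- A section vanishing at the generic point of a curve is divisible by its local equations. -/
theorem regAt_div {C : X.IdealSheafData} (hC : IsCurve C) {d : X → X.functionField} (hd : IsLEq C d)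
    {c : X → X.functionField} (h0 : ∀ x, c x ≠ 0) (hloc : ∀ x, ∃ U : X.Opens, x ∈ U ∧ ∀ y ∈ U, UnitAt y (c x / c y))
    {f : X.functionField} (hf : ∀ x, RegAt x (f / c x)) (hξ : ¬ UnitAt (gp hC) (f / c (gp hC))) (x : X) :
    RegAt x (f / (c x * d x)) := by
  obtain ⟨U₁, hx₁, hU₁⟩ := hloc x
  obtain ⟨U₂, a, hx₂, ha, hda⟩ := hd x
  obtain ⟨U₃, hx₃, hη₃, g, hg⟩ := hf x
  obtain ⟨W, hxW, hW⟩ := exists_affine_mem_le (U₁ ⊓ U₂.1 ⊓ U₃) x ⟨⟨hx₁, hx₂⟩, hx₃⟩
  have k1 : W.1 ≤ U₁ := hW.trans (inf_le_left.trans inf_le_left)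
  have k2 : W.1 ≤ U₂.1 := hW.trans (inf_le_left.trans inf_le_right)
  have k3 : W.1 ≤ U₃ := hW.trans inf_le_right
  have hgW : ores k3 g ∈ C.ideal W := by
    refine mem_ideal hC W _ fun hmem => ?_
    have hξW : gp hC ∈ W.1 := X.basicOpen_le _ hmem
    apply hξ
    have h1 : UnitAt (gp hC) (f / c x) := by
      rw [← hg, ← ff_ores k3 (gen_mem hξW)]
      exact (unitAt_iff hξW _).2 hmem
    have h2 := unitAt_mul h1 (hU₁ _ (k1 hξW))
    rwa [div_mul_div_cancel₀ (h0 x)] at h2
  rw [(ha W k2).2, Ideal.mem_span_singleton'] at hgW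
  obtain ⟨b, hb⟩ := hgW
  refine ⟨W.1, hxW, gen_mem hxW, b, ?_⟩
  have h3 := congrArg (ff W.1 (gen_mem hxW)) hb
  rw [map_mul, ff_ores, ff_ores, hg, ← hda] at h3
  rw [← div_div, eq_div_iff (hd.ne_zero x)]
  exact h3

end Groth.Agent.Surf.K460.ZCurve
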