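import Mathlib

/-!
# Graded rings inside a field

* `Gr k L`: a `ℤ`-graded family of `k`-subspaces `V n` of a field `L`, closed under products, in which every
  homogeneous irreducible element is prime;
* `exists_prime`: every nonzero element of positive degree has a prime factor;
* `sq4`: elements of degree one satisfy no diagonal quadratic relation in four variables;
* `quad4`, `quad5`: no quadratic relation in four variables, no singular one in five.
-/

set_option autoImplicit false

namespace Groth.Agent.Surf.K460.PicZ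

open Module

/-- A graded ring inside a field. -/
structure Gr (k L : Type*) [Field k] [Field L] [Algebra k L] where
  V : ℤ → Submodule k L
  one_mem : (1 : L) ∈ V 0
  mem_zero : ∀ f ∈ V 0, ∃ c : k, f = algebraMap k L c
  eq_zero_of_neg : ∀ n < 0, ∀ f ∈ V n, f = 0
  mul_mem : ∀ {m n : ℤ} {f g : L}, f ∈ V m → g ∈ V n → f * g ∈ V (m + n)
  fin : ∀ n, FiniteDimensional k (V n)
  prime : ∀ {n : ℤ} {e : L}, 0 < n → e ∈ V n → e ≠ 0 →
    (∀ i j a b, 0 < i → 0 < j → i + j = n → a ∈ V i → b ∈ V j → e ≠ a * b) →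
    ∀ i j a b, a ∈ V i → b ∈ V j → a * b / e ∈ V (i + j - n) → a / e ∈ V (i - n) ∨ b / e ∈ V (j - n)

namespace Gr

variable {k L : Type*} [Field k] [Field L] [Algebra k L] (G : Gr k L)

/-- `e` is a prime homogeneous element of degree `n`. -/
structure IsPr (n : ℤ) (e : L) : Prop where
  pos : 0 < n
  mem : e ∈ G.V n
  ne : e ≠ 0
  prime : ∀ {i j : ℤ} {a b : L}, a ∈ G.V i → b ∈ G.V j → a * b / e ∈ G.V (i + j - n) →
    a / e ∈ G.V (i - n) ∨ b / e ∈ G.V (j - n)

variable {G}

theorem mul_mem' {m n l : ℤ} {f g : L} (hf : f ∈ G.V m) (hg : g ∈ G.V n) (h : m + n = l) : f * g ∈ G.V l :=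
  h ▸ G.mul_mem hf hg

theorem isPr_one {e : L} (he : e ∈ G.V 1) (h0 : e ≠ 0) : G.IsPr 1 e :=
  ⟨one_pos, he, h0, fun {i j a b} ha hb h =>
    G.prime one_pos he h0 (fun i j _ _ hi hj hij _ _ => by omega) i j a b ha hb h⟩

theorem pow_mem {n : ℤ} {f : L} (hf : f ∈ G.V n) (m : ℕ) : f ^ m ∈ G.V (m * n) := by
  induction m with
  | zero => simpa using G.one_mem
  | succ m ih =>
    rw [pow_succ]
    exact mul_mem' ih hf (by push_cast; ring)

/-- Every nonzero element of positive degree has a prime factor. -/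
theorem exists_prime (n : ℕ) : ∀ f ∈ G.V n, 0 < n → f ≠ 0 → ∃ (m : ℕ) (e : L), G.IsPr m e ∧ m ≤ n ∧
    f / e ∈ G.V (n - m) := by
  induction n using Nat.strong_induction_on with
  | _ n ih =>
    intro f hf hn h0
    by_cases H : ∀ (i j : ℤ) (a b : L), 0 < i → 0 < j → i + j = n → a ∈ G.V i → b ∈ G.V j → f ≠ a * b
    · have hn' : (0 : ℤ) < n := by exact_mod_cast hn
      refine ⟨n, f, ⟨hn', hf, h0, fun {i j a b} ha hb h => G.prime hn' hf h0 H i j a b ha hb h⟩, le_rfl, ?_⟩
      rw [div_self h0, sub_self]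
      exact G.one_mem
    · push Not at H
      obtain ⟨i, j, a, b, hi, hj, hij, ha, hb, hab⟩ := H
      lift i to ℕ using hi.le
      have ha0 : a ≠ 0 := by
        rintro rfl
        exact h0 (by rw [hab, zero_mul])
      obtain ⟨m, e, he, hm, hae⟩ := ih i (by omega) a ha (by exact_mod_cast hi) ha0
      refine ⟨m, e, he, by omega, ?_⟩
      rw [hab, mul_div_right_comm]
      exact mul_mem' hae hb (by omega)

/-- Primality in degree one. -/
theorem smul_of_deg_one {l a b : L} (hl : l ∈ G.V 1) (h0 : l ≠ 0) (ha : a ∈ G.V 1) (hb : b ∈ G.V 1)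
    (h : a * b / l ∈ G.V 1) : (∃ c : k, a = c • l) ∨ (∃ c : k, b = c • l) := by
  have key : ∀ {x : L}, x / l ∈ G.V 0 → ∃ c : k, x = c • l := by
    intro x hx
    obtain ⟨c, hc⟩ := G.mem_zero _ hx
    refine ⟨c, ?_⟩
    rw [Algebra.smul_def, ← hc, div_mul_cancel₀ _ h0]
  rcases (isPr_one hl h0).prime ha hb (by norm_num; exact h) with h | h
  · exact Or.inl (key (by simpa using h))
  · exact Or.inr (key (by simpa using h))

theorem smul_of_div {l a : L} (h0 : l ≠ 0) (h : a / l ∈ G.V 0) : ∃ c : k, a = c • l := by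
  obtain ⟨c, hc⟩ := G.mem_zero _ h
  refine ⟨c, ?_⟩
  rw [Algebra.smul_def, ← hc, div_mul_cancel₀ _ h0]

section quad

variable [IsAlgClosed k]

/-- No diagonal quadratic relation in four independent elements of degree one. -/
theorem sq4 {y : Fin 4 → L} (hy : ∀ i, y i ∈ G.V 1) (hl : LinearIndependent k y) {w : Fin 4 → k}
    (h : ∑ i, w i • (y i * y i) = 0) : w = 0 := by
  choose c hc using fun i => IsAlgClosed.exists_pow_nat_eq (w i) (n := 2) (by norm_num)
  obtain ⟨I, hI⟩ := IsAlgClosed.exists_pow_nat_eq (-1 : k) (n := 2) (by norm_num)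
  have hI0 : I ≠ 0 := by rintro rfl; norm_num at hI
  rw [Fintype.linearIndependent_iff] at hl
  have ind : ∀ a b c d : k, a • y 0 + b • y 1 + c • y 2 + d • y 3 = 0 → a = 0 ∧ b = 0 ∧ c = 0 ∧ d = 0 := by
    intro a b c d h
    have := hl ![a, b, c, d] (by simpa [Fin.sum_univ_four] using h)
    exact ⟨this 0, this 1, this 2, this 3⟩
  rw [Fin.sum_univ_four] at h
  set φ := algebraMap k L
  have hI' : φ I ^ 2 = -1 := by rw [← map_pow, hI, map_neg, map_one]
  have e : (c 0 • y 0 + (I * c 1) • y 1) * (c 0 • y 0 - (I * c 1) • y 1) +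
      (c 2 • y 2 + (I * c 3) • y 3) * (c 2 • y 2 - (I * c 3) • y 3) = 0 := by
    simp only [Algebra.smul_def, map_mul] at h ⊢
    simp only [← hc, map_pow] at h
    change _ + _ = 0
    linear_combination h - (φ (c 1) ^ 2 * y 1 ^ 2 + φ (c 3) ^ 2 * y 3 ^ 2) * hI'
  have hm : ∀ (i j : Fin 4) (a b : k), a • y i + b • y j ∈ G.V 1 := fun i j a b =>
    Submodule.add_mem _ (Submodule.smul_mem _ _ (hy i)) (Submodule.smul_mem _ _ (hy j))
  have hm' : ∀ (i j : Fin 4) (a b : k), a • y i - b • y j ∈ G.V 1 := fun i j a b =>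
    Submodule.sub_mem _ (Submodule.smul_mem _ _ (hy i)) (Submodule.smul_mem _ _ (hy j))
  have final : c 0 = 0 ∧ c 1 = 0 ∧ c 2 = 0 ∧ c 3 = 0 := by
    have z01 : c 0 = 0 ∧ I * c 1 = 0 := by
      by_contra hne
      have ha : c 0 • y 0 + (I * c 1) • y 1 ≠ 0 := fun h => hne (by
        obtain ⟨h1, h2, -, -⟩ := ind (c 0) (I * c 1) 0 0 (by simpa using h)
        exact ⟨h1, h2⟩)
      have hz : c 2 = 0 ∧ c 3 = 0 := by
        rcases smul_of_deg_one (hm 0 1 _ _) ha (hm 2 3 (c 2) (I * c 3)) (hm' 2 3 (c 2) (I * c 3)) (by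
          rw [eq_neg_of_add_eq_zero_right e, neg_div, mul_div_cancel_left₀ _ ha]
          exact Submodule.neg_mem _ (hm' 0 1 _ _)) with ⟨d, hd⟩ | ⟨d, hd⟩
        · obtain ⟨-, -, h1, h2⟩ := ind (-(d * c 0)) (-(d * (I * c 1))) (c 2) (I * c 3) (by
            rw [smul_add, smul_smul, smul_smul] at hd
            simp only [neg_smul]
            linear_combination hd)
          exact ⟨h1, (mul_eq_zero.1 h2).resolve_left hI0⟩
        · obtain ⟨-, -, h1, h2⟩ := ind (-(d * c 0)) (-(d * (I * c 1))) (c 2) (-(I * c 3)) (by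
            rw [smul_add, smul_smul, smul_smul] at hd
            simp only [neg_smul]
            linear_combination hd)
          exact ⟨h1, (mul_eq_zero.1 (neg_eq_zero.1 h2)).resolve_left hI0⟩
      rw [hz.1, hz.2] at e
      simp only [zero_smul, mul_zero, add_zero, sub_self, mul_eq_zero] at e
      rcases e with e | e
      · exact ha e
      · obtain ⟨h1, h2, -, -⟩ := ind (c 0) (-(I * c 1)) 0 0 (by
          simp only [neg_smul, zero_smul, add_zero]
          linear_combination e)
        exact hne ⟨h1, neg_eq_zero.1 h2⟩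
    have z1 : c 1 = 0 := (mul_eq_zero.1 z01.2).resolve_left hI0
    rw [z01.1, z1] at e
    simp only [zero_smul, mul_zero, add_zero, sub_self, zero_add, mul_eq_zero] at e
    rcases e with e | e
    · obtain ⟨-, -, h1, h2⟩ := ind 0 0 (c 2) (I * c 3) (by simpa using e)
      exact ⟨z01.1, z1, h1, (mul_eq_zero.1 h2).resolve_left hI0⟩
    · obtain ⟨-, -, h1, h2⟩ := ind 0 0 (c 2) (-(I * c 3)) (by
        simp only [neg_smul, zero_smul, zero_add]
        linear_combination e)
      exact ⟨z01.1, z1, h1, (mul_eq_zero.1 (neg_eq_zero.1 h2)).resolve_left hI0⟩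
  obtain ⟨h0, h1, h2, h3⟩ := final
  funext i
  fin_cases i
  · change w 0 = 0; rw [← hc, h0]; norm_num
  · change w 1 = 0; rw [← hc, h1]; norm_num
  · change w 2 = 0; rw [← hc, h2]; norm_num
  · change w 3 = 0; rw [← hc, h3]; norm_num

end quad

/-- Diagonalisation of a quadratic relation. -/
theorem diag {n : ℕ} [CharZero k] {Q : Matrix (Fin n) (Fin n) k} (hQ : Q.IsSymm) {x : Fin n → L}
    (hx : LinearIndependent k x) :
    ∃ (r : Fin n → Fin n → k) (w : Fin n → k), (LinearIndependent k fun a => ∑ i, r i a • x i) ∧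
      (∀ i j, Q i j = ∑ a, r i a * r j a * w a) ∧
      ∑ i, ∑ j, Q i j • (x i * x j) = ∑ a, w a • ((∑ i, r i a • x i) * ∑ i, r i a • x i) ∧
      (Q.det = 0 → ∃ a, w a = 0) := by
  classical
  letI : Invertible (2 : k) := invertibleOfNonzero two_ne_zero
  have hB : LinearMap.BilinForm.IsSymm Q.toBilin' := Matrix.isSymm_toBilin'_iff_isSymm.2 hQ
  obtain ⟨v', hv'⟩ := LinearMap.BilinForm.exists_orthogonal_basis (LinearMap.BilinForm.isSymm_iff.1 hB)
  let e : Fin (finrank k (Fin n → k)) ≃ Fin n := finCongr (by simp)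
  set v := v'.reindex e with hvdef
  have hv : ∀ a b, a ≠ b → Q.toBilin' (v a) (v b) = 0 := by
    intro a b hab
    rw [hvdef, Basis.reindex_apply, Basis.reindex_apply]
    exact hv' (fun h => hab (e.symm.injective h))
  have hexp : ∀ u u' : Fin n → k, Q.toBilin' u u' = ∑ a, v.repr u a * v.repr u' a * Q.toBilin' (v a) (v a) := by
    intro u u'
    conv_lhs => rw [← v.sum_repr u, ← v.sum_repr u']
    simp only [map_sum, LinearMap.sum_apply, map_smul, LinearMap.smul_apply, smul_eq_mul]
    refine Finset.sum_congr rfl fun a _ => ?_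
    rw [Finset.sum_eq_single a (fun b _ hb => by rw [hv b a hb]; ring) (fun h => absurd (Finset.mem_univ _) h)]
    ring
  refine ⟨fun i a => v.repr (Pi.single i 1) a, fun a => Q.toBilin' (v a) (v a), ?_, ?_, ?_, ?_⟩
  · rw [Fintype.linearIndependent_iff] at hx ⊢
    intro g hg
    have h1 : ∀ i, ∑ a, g a * v.repr (Pi.single i 1) a = 0 := by
      apply hx
      rw [← hg]
      simp only [Finset.sum_smul, Finset.smul_sum, smul_smul]
      exact Finset.sum_comm
    let φ : (Fin n → k) →ₗ[k] k := ∑ a, g a • v.coord a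
    have hφ : φ = 0 := by
      refine (Pi.basisFun k (Fin n)).ext fun i => ?_
      simpa [φ] using h1 i
    intro a
    have := LinearMap.congr_fun hφ (v a)
    simpa [φ, Finsupp.single_apply] using this
  · intro i j
    have := hexp (Pi.single i 1) (Pi.single j 1)
    rw [← this]
    simp [Matrix.toBilin'_single]
  · have h2 : ∀ i j, Q i j = ∑ a, v.repr (Pi.single i 1) a * v.repr (Pi.single j 1) a * Q.toBilin' (v a) (v a) := by
      intro i j
      have := hexp (Pi.single i 1) (Pi.single j 1)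
      rw [← this]
      simp [Matrix.toBilin'_single]
    calc ∑ i, ∑ j, Q i j • (x i * x j)
        = ∑ i, ∑ j, ∑ a, (v.repr (Pi.single i 1) a * v.repr (Pi.single j 1) a * Q.toBilin' (v a) (v a)) •
            (x i * x j) := by simp only [h2, Finset.sum_smul]
      _ = ∑ i, ∑ a, ∑ j, (v.repr (Pi.single i 1) a * v.repr (Pi.single j 1) a * Q.toBilin' (v a) (v a)) •
            (x i * x j) := Finset.sum_congr rfl fun i _ => Finset.sum_comm
      _ = ∑ a, ∑ i, ∑ j, (v.repr (Pi.single i 1) a * v.repr (Pi.single j 1) a * Q.toBilin' (v a) (v a)) •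
            (x i * x j) := Finset.sum_comm
      _ = _ := by
        refine Finset.sum_congr rfl fun a _ => ?_
        rw [Finset.sum_mul_sum, Finset.smul_sum]
        refine Finset.sum_congr rfl fun i _ => ?_
        rw [Finset.smul_sum]
        refine Finset.sum_congr rfl fun j _ => ?_
        rw [smul_mul_smul_comm, smul_smul]
        congr 1
        ring
  · intro hdet
    obtain ⟨u, hu, hQu⟩ := Matrix.exists_mulVec_eq_zero_iff.2 hdet
    have h3 : ∀ a, v.repr u a * Q.toBilin' (v a) (v a) = 0 := by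
      intro a
      have h4 : Q.toBilin' (v a) u = 0 := by
        rw [Matrix.toBilin'_apply', hQu, dotProduct_zero]
      rw [hexp, Finset.sum_eq_single a (fun b _ hb => by simp [Finsupp.single_apply, hb.symm])
        (fun h => absurd (Finset.mem_univ _) h)] at h4
      simpa using h4
    obtain ⟨a, ha⟩ : ∃ a, v.repr u a ≠ 0 := by
      by_contra hne
      push Not at hne
      exact hu (v.ext_elem fun a => by rw [hne a]; simp)
    exact ⟨a, (mul_eq_zero.1 (h3 a)).resolve_left ha⟩

section quad45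

variable [IsAlgClosed k] [CharZero k]

/-- No quadratic relation in four independent elements of degree one. -/
theorem quad4 {x : Fin 4 → L} (hx : ∀ i, x i ∈ G.V 1) (hl : LinearIndependent k x) {Q : Matrix (Fin 4) (Fin 4) k}
    (hQ : Q.IsSymm) (h : ∑ i, ∑ j, Q i j • (x i * x j) = 0) : Q = 0 := by
  obtain ⟨r, w, h1, h2, h3, -⟩ := diag (L := L) hQ hl
  have hw : w = 0 := sq4 (G := G) (y := fun a => ∑ i, r i a • x i)
    (fun a => Submodule.sum_mem _ fun i _ => Submodule.smul_mem _ _ (hx i)) h1 (by rw [← h3, h])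
  ext i j
  rw [h2, hw]
  simp

/-- No singular quadratic relation in five independent elements of degree one. -/
theorem quad5 {x : Fin 5 → L} (hx : ∀ i, x i ∈ G.V 1) (hl : LinearIndependent k x) {Q : Matrix (Fin 5) (Fin 5) k}
    (hQ : Q.IsSymm) (h : ∑ i, ∑ j, Q i j • (x i * x j) = 0) (hdet : Q.det = 0) : Q = 0 := by
  obtain ⟨r, w, h1, h2, h3, h4⟩ := diag (L := L) hQ hl
  obtain ⟨a0, ha0⟩ := h4 hdet
  have hw : (fun i => w (a0.succAbove i)) = 0 := sq4 (G := G) (y := fun a => ∑ i, r i (a0.succAbove a) • x i)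
    (fun a => Submodule.sum_mem _ fun i _ => Submodule.smul_mem _ _ (hx i))
    (h1.comp _ (Fin.succAbove_right_injective)) (by
      have h5 := h3
      rw [h, Fin.sum_univ_succAbove _ a0, ha0, zero_smul, zero_add] at h5
      exact h5.symm)
  have hw' : w = 0 := by
    funext a
    rcases Fin.eq_self_or_eq_succAbove a0 a with h | ⟨b, h⟩
    · rw [h, ha0]; rfl
    · rw [h]; exact congrFun hw b
  ext i j
  rw [h2, hw']
  simp

/-- The symmetric matrix of a family indexed by pairs `i ≤ j`. -/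
def symM (n : ℕ) : ({p : Fin n × Fin n // p.1 ≤ p.2} → k) →ₗ[k] Matrix (Fin n) (Fin n) k where
  toFun g := Matrix.of fun i j => (if h : i ≤ j then g ⟨(i, j), h⟩ else 0) + (if h : j ≤ i then g ⟨(j, i), h⟩ else 0)
  map_add' g g' := by
    ext i j
    simp only [Matrix.of_apply, Pi.add_apply, Matrix.add_apply]
    split_ifs <;> ring
  map_smul' c g := by
    ext i j
    simp only [Matrix.of_apply, Pi.smul_apply, Matrix.smul_apply, smul_eq_mul, RingHom.id_apply]
    split_ifs <;> ring

omit [IsAlgClosed k] in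
theorem symM_injective (n : ℕ) : Function.Injective (symM (k := k) n) := by
  rw [injective_iff_map_eq_zero]
  intro g hg
  funext ⟨⟨i, j⟩, hij⟩
  have h := congrFun (congrFun hg i) j
  simp only [symM, LinearMap.coe_mk, AddHom.coe_mk, Matrix.of_apply, Matrix.zero_apply] at h
  rw [dif_pos hij] at h
  by_cases hji : j ≤ i
  · have : i = j := le_antisymm hij hji
    subst this
    rw [dif_pos hji] at h
    have h2 : (2 : k) * g ⟨(i, i), hij⟩ = 0 := by linear_combination h
    exact (mul_eq_zero.1 h2).resolve_left two_ne_zero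
  · rw [dif_neg hji, add_zero] at h
    exact h

omit [IsAlgClosed k] [CharZero k] in
theorem symM_isSymm (n : ℕ) (g) : (symM (k := k) n g).IsSymm := by
  ext i j
  simp only [symM, LinearMap.coe_mk, AddHom.coe_mk, Matrix.of_apply, Matrix.transpose_apply]
  rw [add_comm]

/-- The quadratic combination. -/
def quadL {n : ℕ} (x : Fin n → L) : ({p : Fin n × Fin n // p.1 ≤ p.2} → k) →ₗ[k] L :=
  ∑ p : {p : Fin n × Fin n // p.1 ≤ p.2}, (LinearMap.toSpanSingleton k L (x p.1.1 * x p.1.2)).comp (LinearMap.proj p)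

omit [IsAlgClosed k] [CharZero k] in
theorem quadL_apply {n : ℕ} (x : Fin n → L) (g) : quadL (k := k) x g =
    ∑ p : {p : Fin n × Fin n // p.1 ≤ p.2}, g p • (x p.1.1 * x p.1.2) := by
  simp [quadL]

omit [IsAlgClosed k] [CharZero k] in
theorem sum_symM {n : ℕ} (x : Fin n → L) (g) : ∑ i, ∑ j, symM (k := k) n g i j • (x i * x j) =
    2 • quadL (k := k) x g := by
  have h1 : ∑ i, ∑ j, (if h : i ≤ j then g ⟨(i, j), h⟩ else 0 : k) • (x i * x j) = quadL (k := k) x g := by
    rw [quadL_apply, ← Fintype.sum_prod_type']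
    symm
    refine Finset.sum_of_injOn (fun p : {p : Fin n × Fin n // p.1 ≤ p.2} => p.1) (Subtype.val_injective.injOn)
      (fun _ _ => Finset.mem_univ _) ?_ ?_
    · rintro ⟨i, j⟩ - hij
      have : ¬ i ≤ j := fun h => hij ⟨⟨(i, j), h⟩, Finset.mem_univ _, rfl⟩
      rw [dif_neg this, zero_smul]
    · rintro ⟨⟨i, j⟩, hij⟩ -
      rw [dif_pos hij]
  have h2 : ∑ i, ∑ j, (if h : j ≤ i then g ⟨(j, i), h⟩ else 0 : k) • (x i * x j) = quadL (k := k) x g := by
    rw [Finset.sum_comm, ← h1]
    refine Finset.sum_congr rfl fun i _ => Finset.sum_congr rfl fun j _ => ?_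
    rw [mul_comm]
  rw [two_smul]
  nth_rewrite 1 [← h1]
  rw [← h2, ← Finset.sum_add_distrib]
  refine Finset.sum_congr rfl fun i _ => ?_
  rw [← Finset.sum_add_distrib]
  refine Finset.sum_congr rfl fun j _ => ?_
  rw [← add_smul]
  rfl

omit [IsAlgClosed k] [CharZero k] in
theorem quadL_mem {n : ℕ} (x : Fin n → L) {U : Submodule k L} (hU : ∀ i, x i ∈ U) (g) :
    quadL (k := k) x g ∈ U * U := by
  rw [quadL_apply]
  exact Submodule.sum_mem _ fun p _ => Submodule.smul_mem _ _ (Submodule.mul_mem_mul (hU _) (hU _))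

omit [IsAlgClosed k] [CharZero k] in
theorem finite_mul {U U' : Submodule k L} (h : FiniteDimensional k U) (h' : FiniteDimensional k U') :
    FiniteDimensional k (U * U' : Submodule k L) :=
  Module.Finite.iff_fg.2 ((Module.Finite.iff_fg.1 h).mul (Module.Finite.iff_fg.1 h'))

/-- Five independent elements of degree one have at least fourteen independent products. -/
theorem five {U : Submodule k L} (hU : U ≤ G.V 1) (h5 : finrank k U = 5) (h13 : finrank k (U * U : Submodule k L) ≤ 13) :
    False := by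
  have : FiniteDimensional k U := Module.finite_of_finrank_pos (by omega)
  let b := Module.finBasisOfFinrankEq k U h5
  let x : Fin 5 → L := fun i => b i
  have hx : LinearIndependent k x := b.linearIndependent.map' U.subtype (Submodule.ker_subtype U)
  have hxU : ∀ i, x i ∈ U := fun i => (b i).2
  have hxV : ∀ i, x i ∈ G.V 1 := fun i => hU (hxU i)
  have hfin : FiniteDimensional k (U * U : Submodule k L) := finite_mul this this
  let Φ : ({p : Fin 5 × Fin 5 // p.1 ≤ p.2} → k) →ₗ[k] (U * U : Submodule k L) :=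
    (quadL (k := k) x).codRestrict _ (quadL_mem x hxU)
  have hker : 2 ≤ finrank k (LinearMap.ker Φ) := by
    have h1 := LinearMap.finrank_range_add_finrank_ker Φ
    have h2 : finrank k ({p : Fin 5 × Fin 5 // p.1 ≤ p.2} → k) = 15 := by
      rw [Module.finrank_fintype_fun_eq_card]
      decide
    have h3 := Submodule.finrank_le (LinearMap.range Φ)
    omega
  have hrel : ∀ g ∈ LinearMap.ker Φ, ∑ i, ∑ j, symM (k := k) 5 g i j • (x i * x j) = 0 := by
    intro g hg
    have h1 : quadL (k := k) x g = 0 := congrArg Subtype.val (LinearMap.mem_ker.1 hg)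
    rw [sum_symM, h1, smul_zero]
  have hno : ∀ g ∈ LinearMap.ker Φ, (symM (k := k) 5 g).det = 0 → g = 0 := by
    intro g hg hdet
    exact symM_injective 5 (by rw [map_zero]; exact quad5 hxV hx (symM_isSymm 5 g) (hrel g hg) hdet)
  obtain ⟨g1, hg1, hg10⟩ : ∃ g ∈ LinearMap.ker Φ, g ≠ 0 := by
    have : Nontrivial (LinearMap.ker Φ) := Module.nontrivial_of_finrank_pos (R := k) (by omega)
    obtain ⟨g, hg⟩ := exists_ne (0 : LinearMap.ker Φ)
    exact ⟨g, g.2, fun h => hg (Subtype.ext h)⟩
  obtain ⟨g2, hg2, hg12⟩ : ∃ g ∈ LinearMap.ker Φ, g ∉ Submodule.span k {g1} := by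
    by_contra hne
    push Not at hne
    have h1 := Submodule.finrank_mono (s := LinearMap.ker Φ) (t := Submodule.span k {g1}) hne
    have h2 := finrank_span_singleton (K := k) hg10
    omega
  have hd1 : (symM (k := k) 5 g1).det ≠ 0 := fun h => hg10 (hno g1 hg1 h)
  set A := (symM (k := k) 5 g1)⁻¹ * symM (k := k) 5 g2 with hA
  obtain ⟨c, hc⟩ := IsAlgClosed.exists_root A.charpoly (by
    rw [Matrix.charpoly_degree_eq_dim]
    norm_num)
  have h1 : g2 - c • g1 = 0 := by
    refine hno _ (Submodule.sub_mem _ hg2 (Submodule.smul_mem _ _ hg1)) ?_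
    have h2 : symM (k := k) 5 (g2 - c • g1) = symM (k := k) 5 g1 * (A - Matrix.scalar (Fin 5) c) := by
      rw [map_sub, map_smul, hA, mul_sub, ← mul_assoc, Matrix.mul_nonsing_inv _ (isUnit_iff_ne_zero.2 hd1), one_mul,
        Matrix.scalar_apply, ← Matrix.smul_eq_mul_diagonal]
    rw [h2, Matrix.det_mul]
    have h3 : (A - Matrix.scalar (Fin 5) c).det = 0 := by
      have h4 : (Matrix.scalar (Fin 5) c - A).det = 0 := by
        rw [Polynomial.IsRoot.def, Matrix.eval_charpoly] at hc
        exact hc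
      rw [← neg_sub, Matrix.det_neg, h4, mul_zero]
    rw [h3, mul_zero]
  exact hg12 (Submodule.mem_span_singleton.2 ⟨c, (sub_eq_zero.1 h1).symm⟩)

end quad45

end Gr

end Groth.Agent.Surf.K460.PicZ
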