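import Groth.Agent.Surf.K460.ZCurve
import Groth.Agent.Surf.K460.ZGr

/-!
# The anticanonical ring of a del Pezzo surface whose Picard group is generated by the canonical class

* `gr`: the graded ring `⊕ H⁰(X, D^n)` inside the function field; homogeneous irreducible elements are prime.
-/

set_option autoImplicit false
universe u
open CategoryTheory CategoryTheory.Limits AlgebraicGeometry TopologicalSpace Opposite

namespace Groth.Agent.Surf.K460.ZGeo

open Groth.Agent Groth.Agent.Fdesc.LocGen Groth.Agent.Lefpen.H725.CocDef Groth.Agent.Lefpen.H521.CartierCoc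
open K801.Cousin K801.CousinH1 K801.LEq Groth.Agent.Grpsch.PicGrp K464.Curves K464.Base
open Groth.Agent.Dix.IdealModCartier SurfKit DelPezzo ZSec ZCurve PicZ

attribute [local instance] algK

variable {k : Type u} [Field k] [IsAlgClosed k] {X : Scheme.{u}} [X.Over (Spec (CommRingCat.of k))]
  [IsIntegral X] [IsProper (X ↘ Spec (CommRingCat.of k))] [Smooth (X ↘ Spec (CommRingCat.of k))]
  {W D : X.Modules} (P : DP k X W D)
  (hpic : ∀ c : Pic X, ∃ n : ℤ, c = mk W P.hWi ^ n)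
  {δ : X → X.functionField} (hδ : HasCoc D δ)

omit [IsAlgClosed k] [X.Over (Spec (CommRingCat.of k))] [IsProper (X ↘ Spec (CommRingCat.of k))]
  [Smooth (X ↘ Spec (CommRingCat.of k))] in
theorem zpow_ne (h0 : ∀ x, δ x ≠ 0) (n : ℤ) (x : X) : δ x ^ n ≠ 0 := zpow_ne_zero _ (h0 x)

omit [IsAlgClosed k] [X.Over (Spec (CommRingCat.of k))] [IsProper (X ↘ Spec (CommRingCat.of k))]
  [Smooth (X ↘ Spec (CommRingCat.of k))] in
theorem zpow_loc (hD : PicF.IsInvertible D) (hδ : HasCoc D δ) (n : ℤ) (x : X) :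
    ∃ U : X.Opens, x ∈ U ∧ ∀ y ∈ U, UnitAt y (δ x ^ n / δ y ^ n) := by
  obtain ⟨L, hL, h, -⟩ := coc_zpow hD hδ n
  exact hasCoc_loc h x

include P

omit [IsAlgClosed k] in
theorem dot_D_pos : 0 < dot k X (mk D P.hamp.1) (mk D P.hamp.1) := dot_self_pos k P.hdim P.hamp

omit [IsAlgClosed k] in
theorem dot_zpow (n : ℤ) : dot k X (mk D P.hamp.1 ^ n) (mk D P.hamp.1) =
    n * dot k X (mk D P.hamp.1) (mk D P.hamp.1) := dot_zpow_left k X P.hdim.le _ _ n

omit [IsAlgClosed k] in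
theorem zpow_ne_one {n : ℤ} (hn : n ≠ 0) : mk D P.hamp.1 ^ n ≠ 1 := by
  intro h
  have h1 := dot_zpow P n
  rw [h, dot_one_left] at h1
  rcases mul_eq_zero.1 h1.symm with h2 | h2
  · exact hn (by exact_mod_cast h2)
  · exact (dot_D_pos P).ne' h2

/-- A section of positive degree vanishes along some curve. -/
theorem exists_curve_of {n : ℤ} (hn : n ≠ 0) {f : X.functionField} (hf : f ∈ secs k (fun x => δ x ^ n)) (h0 : f ≠ 0)
    (hδ : HasCoc D δ) : ∃ (C : X.IdealSheafData) (hC : IsCurve C), ¬ UnitAt (gp hC) (f / δ (gp hC) ^ n) := by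
  have : IsNoetherian X := CurvesB.CurveRR.isNoetherian_of_proper k X
  obtain ⟨L, hL, hc, hmk⟩ := coc_zpow P.hamp.1 hδ n
  obtain ⟨E⟩ := nonempty_dat hc
  obtain ⟨t, ht⟩ := E.exists_section (W := ⊤) f (fun x _ => hf x)
  have coef : ∀ (U : X.Opens) (x : X) (hx : x ∈ U) (hU : U ≤ E.U x) (a : Γ(X, U)),
      res L le_top t = a • res L hU (E.e x) → ff U (gen_mem hx) a * δ x ^ n = f := by
    intro U x hx hU a ha
    rw [← ht ⟨x, trivial⟩, E.value_eq_of t ⟨x, trivial⟩ (V := U) (le_inf le_top hU) (gen_mem hx) (a := a) ha]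
  have ht0 : t ≠ 0 := by
    rintro rfl
    apply h0
    have h1 := coef (E.U (genericPoint X)) _ (E.hU _) le_rfl 0 (by rw [map_zero, zero_smul])
    rw [← h1, map_zero, zero_mul]
  obtain ⟨F, hF, hinv, hspan⟩ := Models.H38.SecDiv.exists_divisor hL t (by
    intro V e a he hae
    by_cases hV : (V.1 : Set X).Nonempty
    · have hnz : a ≠ 0 := by
        rintro rfl
        rw [zero_smul] at hae
        exact ht0 (CurvesC.InvSec.eq_zero_of_res_eq_zero hL le_top hV t hae)
      have : Nonempty V.1 := hV.to_subtype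
      exact mem_nonZeroDivisors_of_ne_zero hnz
    · have hb : V.1 = ⊥ := by
        rw [← TopologicalSpace.Opens.coe_eq_empty]
        exact Set.not_nonempty_iff_eq_empty.1 hV
      have : Subsingleton Γ(X, V.1) := by
        rw [hb]
        exact inferInstanceAs (Subsingleton Γ(X, ⊥))
      rw [Subsingleton.elim a 1]
      exact one_mem _)
  have hFT : F ≠ ⊤ := by
    rintro rfl
    have h1 := mk_eq_ic_inv hinv hL hF
    rw [hmk, show ic (⊤ : X.IdealSheafData) hF = 1 from ic_top, inv_one] at h1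
    exact zpow_ne_one P hn h1
  obtain ⟨x, hx⟩ : (F.support : Set X).Nonempty := by
    by_contra hne
    apply hFT
    rw [← Scheme.IdealSheafData.support_eq_bot_iff]
    apply TopologicalSpace.Closeds.ext
    rw [Set.not_nonempty_iff_eq_empty.1 hne]
    rfl
  obtain ⟨C, hC, hFC, -⟩ := K464.Comp.exists_curve_le (X ↘ Spec (CommRingCat.of k)) P.hdim hF x hx
  refine ⟨C, hC, fun hu => ?_⟩
  obtain ⟨U, hξU, hU⟩ := exists_affine_mem_le (E.U (gp hC)) (gp hC) (E.hU _)
  obtain ⟨a, ha⟩ := ((E.gen (gp hC)).res hU).exists_eq (res L (le_top : U.1 ≤ ⊤) t)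
  have h1 := coef U.1 (gp hC) hξU hU a ha
  have h2 : f / δ (gp hC) ^ n = ff U.1 (gen_mem hξU) a := by
    rw [← h1, mul_div_cancel_right₀ _ (zpow_ne hδ.1 n _)]
  rw [h2, unitAt_iff hξU] at hu
  have h3 : gp hC ∈ F.support := (le_iff_gp_mem hC F).1 hFC
  have h4 := (Scheme.IdealSheafData.mem_support_iff_of_mem hξU).1 h3
  rw [hspan U (res L hU (E.e (gp hC))) a ((E.gen (gp hC)).res hU) ha, Scheme.mem_zeroLocus_iff] at h4
  exact h4 a (Ideal.mem_span_singleton_self a) hu

include hpic in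
/-- A global equation of an integral curve. -/
theorem exists_eq_curve (hδ : HasCoc D δ) {C : X.IdealSheafData} (hC : IsCurve C) :
    ∃ (d : X → X.functionField) (m : ℤ) (p : X.functionField), IsLEq C d ∧ 0 < m ∧ p ≠ 0 ∧
      ∀ x, UnitAt x (p / δ x ^ m / d x) := by
  have hCe := isEff_of_smooth k P.hdim hC
  obtain ⟨d, hd⟩ := exists_isLEq hCe
  obtain ⟨m, hm⟩ := hpic (ic C hCe)
  have hm' : ic C hCe = mk D P.hamp.1 ^ (-m) := by
    rw [hm, P.mk_D, inv_zpow, ← zpow_neg, neg_neg]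
  obtain ⟨L, hL, hc, hmk⟩ := coc_zpow P.hamp.1 hδ (-m)
  obtain ⟨φ⟩ := (mk_eq_iff hL (isInvertible_idealMod hCe)).1 (hmk.trans hm'.symm)
  obtain ⟨p, hp, hu⟩ := Lefpen.H718.CocIso.exists_const_of_iso hc hd.hasCoc φ
  refine ⟨d, m, p, hd, ?_, hp, fun x => ?_⟩
  · have h1 := degOn_pos_of_ample k hC P.hamp.1 P.hamp
    have h2 := dot_ic_eq k X hCe (mk D P.hamp.1)
    rw [hm', dot_zpow P] at h2
    push_cast at h2
    have h3 := dot_D_pos P
    by_contra hneg
    push Not at hneg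
    nlinarith
  · have h1 := hu x
    rwa [zpow_neg, ← div_eq_mul_inv] at h1

omit [IsAlgClosed k] in
theorem finrank_V (hδ : HasCoc D δ) (n : ℤ) :
    Module.finrank k (secs k (fun x => δ x ^ n)) = h k X 0 (mk D P.hamp.1 ^ n) := by
  obtain ⟨L, hL, hc, hmk⟩ := coc_zpow P.hamp.1 hδ n
  rw [finrank_secs k hc, ← hmk, h_mk]

omit [IsAlgClosed k] in
theorem finite_V (hδ : HasCoc D δ) (n : ℤ) : Module.Finite k (secs k (fun x => δ x ^ n)) := by
  obtain ⟨L, hL, hc, -⟩ := coc_zpow P.hamp.1 hδ n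
  have := Fga.HodgeSec.finite_HH k hL 0
  exact finite_secs k hc

theorem V_zero (hδ : HasCoc D δ) {f : X.functionField} (hf : f ∈ secs k (fun x => δ x ^ (0 : ℤ))) :
    ∃ c : k, f = algebraMap k X.functionField c := by
  have h1 := finrank_V P hδ 0
  rw [zpow_zero, h0_one k X] at h1
  have h2 : (1 : X.functionField) ∈ secs k (fun x => δ x ^ (0 : ℤ)) := fun x => by
    change RegAt x (1 / δ x ^ (0 : ℤ))
    rw [zpow_zero, div_one]
    exact regAt_one x
  obtain ⟨c, hc⟩ := (finrank_eq_one_iff_of_nonzero' (⟨1, h2⟩ : secs k (fun x => δ x ^ (0 : ℤ)))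
    (fun h => one_ne_zero (congrArg Subtype.val h))).1 h1 ⟨f, hf⟩
  refine ⟨c, ?_⟩
  have h3 : c • (1 : X.functionField) = f := congrArg Subtype.val hc
  rw [← h3, Algebra.algebraMap_eq_smul_one]

omit [IsAlgClosed k] in
theorem V_neg (hδ : HasCoc D δ) {n : ℤ} (hn : n < 0) {f : X.functionField} (hf : f ∈ secs k (fun x => δ x ^ n)) :
    f = 0 := by
  have h1 := finrank_V P hδ n
  rw [h0_eq_zero_of_neg k P.hdim P.hamp (by
    rw [dot_zpow P]
    have := dot_D_pos P
    nlinarith)] at h1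
  have := finite_V P hδ n
  have h2 := Module.finrank_zero_iff.1 h1
  exact congrArg Subtype.val (Subsingleton.elim (⟨f, hf⟩ : secs k (fun x => δ x ^ n)) 0)

include hpic in
theorem V_prime (hδ : HasCoc D δ) {n : ℤ} {e : X.functionField} (hn : 0 < n) (he : e ∈ secs k (fun x => δ x ^ n))
    (he0 : e ≠ 0) (hirr : ∀ (i j : ℤ) (a b : X.functionField), 0 < i → 0 < j → i + j = n →
      a ∈ secs k (fun x => δ x ^ i) → b ∈ secs k (fun x => δ x ^ j) → e ≠ a * b)
    (i j : ℤ) (a b : X.functionField) (ha : a ∈ secs k (fun x => δ x ^ i)) (hb : b ∈ secs k (fun x => δ x ^ j))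
    (hab : a * b / e ∈ secs k (fun x => δ x ^ (i + j - n))) :
    a / e ∈ secs k (fun x => δ x ^ (i - n)) ∨ b / e ∈ secs k (fun x => δ x ^ (j - n)) := by
  obtain ⟨C, hC, hξ⟩ := exists_curve_of P hn.ne' he he0 hδ
  obtain ⟨d, m, p, hd, hm, hp, hpd⟩ := exists_eq_curve P hpic hδ hC
  have hδ0 := hδ.1
  have key : ∀ (l : ℤ) (f : X.functionField), f ∈ secs k (fun x => δ x ^ l) →
      ¬ UnitAt (gp hC) (f / δ (gp hC) ^ l) → f / p ∈ secs k (fun x => δ x ^ (l - m)) := by
    intro l f hf hfξ x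
    have h1 := regAt_div hC hd (zpow_ne hδ.1 l) (zpow_loc P.hamp.1 hδ l) hf hfξ x
    have h2 := regAt_mul h1 (unitAt_regAt (unitAt_inv (hpd x)))
    have h3 : f / p / δ x ^ (l - m) = f / (δ x ^ l * d x) * (p / δ x ^ m / d x)⁻¹ := by
      have := hδ0 x
      have := hd.ne_zero x
      rw [zpow_sub₀ (hδ0 x)]
      field_simp
    change RegAt x (f / p / δ x ^ (l - m))
    rw [h3]
    exact h2
  have hq := key n e he hξ
  have hpm : p ∈ secs k (fun x => δ x ^ m) := fun x => by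
    have h1 := regAt_mul (unitAt_regAt (hpd x)) (hd.regAt x)
    rwa [div_mul_cancel₀ _ (hd.ne_zero x)] at h1
  have hq0 : e / p ≠ 0 := div_ne_zero he0 hp
  have hnm : n - m = 0 := by
    rcases lt_trichotomy (n - m) 0 with h | h | h
    · exact absurd (V_neg P hδ h hq) hq0
    · exact h
    · exact absurd (by rw [mul_div_cancel₀ _ hp] : e = p * (e / p)) (hirr m (n - m) p (e / p) hm h (by ring) hpm hq)
  obtain rfl : m = n := by omega
  rw [sub_self] at hq
  obtain ⟨c, hc⟩ := V_zero P hδ hq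
  have hc0 : c ≠ 0 := by
    rintro rfl
    rw [map_zero] at hc
    exact hq0 hc
  have hep : e = algebraMap k X.functionField c * p := by rw [← hc, div_mul_cancel₀ _ hp]
  have key' : ∀ (l : ℤ) (f : X.functionField), f ∈ secs k (fun x => δ x ^ l) →
      ¬ UnitAt (gp hC) (f / δ (gp hC) ^ l) → f / e ∈ secs k (fun x => δ x ^ (l - m)) := by
    intro l f hf hfξ
    have h1 := Submodule.smul_mem _ c⁻¹ (key l f hf hfξ)
    rw [Algebra.smul_def, map_inv₀] at h1
    convert h1 using 1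
    rw [hep]
    have : algebraMap k X.functionField c ≠ 0 := (map_ne_zero _).2 hc0
    field_simp
  by_cases h1 : UnitAt (gp hC) (a / δ (gp hC) ^ i)
  · refine Or.inr (key' j b hb fun h2 => hξ ?_)
    have h3 := unitAt_mul h1 h2
    have h4 := hab (gp hC)
    change RegAt (gp hC) (a * b / e / δ (gp hC) ^ (i + j - m)) at h4
    have h5 : a * b / e / δ (gp hC) ^ (i + j - m) * (e / δ (gp hC) ^ m) =
        a / δ (gp hC) ^ i * (b / δ (gp hC) ^ j) := by
      have := hδ0 (gp hC)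
      rw [zpow_sub₀ this, zpow_add₀ this]
      field_simp
    rw [← h5] at h3
    rw [mul_comm] at h3
    have h6 := unitAt_ne_zero h3
    refine unitAt_of_regAt (he (gp hC)) (regAt_mul h4 (unitAt_regAt (unitAt_inv h3))) ?_
    change e / δ (gp hC) ^ m * _ = 1
    rw [← mul_assoc, mul_inv_cancel₀ h6]
  · exact Or.inl (key' i a ha h1)

/-- The graded ring of anticanonical sections. -/
noncomputable def gr (hδ : HasCoc D δ) : Gr k X.functionField where
  V n := secs k (fun x => δ x ^ n)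
  one_mem := fun x => by
    change RegAt x (1 / δ x ^ (0 : ℤ))
    rw [zpow_zero, div_one]
    exact regAt_one x
  mem_zero := fun f hf => V_zero P hδ hf
  eq_zero_of_neg := fun n hn f hf => V_neg P hδ hn hf
  mul_mem := by
    intro m n f g hf hg x
    change RegAt x (f * g / δ x ^ (m + n))
    rw [zpow_add₀ (hδ.1 x), mul_div_mul_comm]
    exact regAt_mul (hf x) (hg x)
  fin := fun n => finite_V P hδ n
  prime := fun {n e} hn he he0 hirr i j a b ha hb hab => V_prime P hpic hδ hn he he0 hirr i j a b ha hb hab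

theorem finrank_gr (hδ : HasCoc D δ) (n : ℤ) :
    Module.finrank k ((gr P hpic hδ).V n) = h k X 0 (mk D P.hamp.1 ^ n) := finrank_V P hδ n

/-- `H¹(X, D^n) = 0` for every `n`. -/
theorem h1_zpow (hK : Kod k X) (n : ℤ) : h k X 1 (mk D P.hamp.1 ^ n) = 0 := by
  have := P.relDim
  rcases lt_or_ge n 0 with hn | hn
  · obtain ⟨m, hm⟩ := Int.eq_ofNat_of_zero_le (show 0 ≤ -n by omega)
    have h1 := h1_pow_inv hK P.hamp (n := m) (by omega)
    rwa [← zpow_natCast, ← hm, ← zpow_neg, neg_neg] at h1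
  · rw [h_dual k P.hW P.hWi _ 1 1 rfl]
    obtain ⟨m, hm⟩ := Int.eq_ofNat_of_zero_le (show 0 ≤ n + 1 by omega)
    have h1 := h1_pow_inv hK P.hamp (n := m) (by omega)
    rw [← zpow_natCast, ← hm] at h1
    rwa [show mk W P.hWi * (mk D P.hamp.1 ^ n)⁻¹ = (mk D P.hamp.1 ^ (n + 1))⁻¹ by
      rw [P.mk_D, zpow_add_one, mul_inv, inv_inv, mul_comm]]

/-- The Hilbert function. -/
theorem h0_zpow (hK : Kod k X) {n : ℤ} (hn : 0 ≤ n) : 2 * (h k X 0 (mk D P.hamp.1 ^ n) : ℤ) =
    n * (n + 1) * dot k X (mk W P.hWi) (mk W P.hWi) + 2 := by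
  have h2 : h k X 2 (mk D P.hamp.1 ^ n) = 0 := by
    refine P.h2_eq_zero ?_
    rw [dot_zpow_left k X P.hdim.le, P.mk_D, dot_inv_left k X P.hdim.le]
    have := P.deg_pos
    nlinarith
  have h3 := P.rr' hK (mk D P.hamp.1 ^ n)
  rw [chi_eq k P.hdim.le, h1_zpow P hK, h2, dot_zpow_left k X P.hdim.le, dot_zpow_left k X P.hdim.le,
    dot_zpow_right k X P.hdim.le, P.mk_D, dot_inv_inv k X P.hdim.le, dot_inv_left k X P.hdim.le] at h3
  push_cast at h3
  rw [P.mk_D]
  linarith

end Groth.Agent.Surf.K460.ZGeo
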