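import Groth.Agent.Surf.K460.SurfKit
import Groth.Agent.AdjLin.K801.LEq
import Groth.Agent.Lefpen.H718.CocIso
import Groth.Agent.Picfga.ChiCech

/-!
# Sections of an invertible module inside the function field

* `algK k X`: the function field as a `k`-algebra; `secs k c`: the `k`-space of the rational functions `f` with
  `f / c x` regular at every `x`;
* `finrank_secs`: for a module `L` with Cartier cocycle `c` its dimension is `h⁰(L)`;
* `coc_zpow`: cocycles of the powers of an invertible module.
-/

set_option autoImplicit false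
universe u
open CategoryTheory CategoryTheory.Limits AlgebraicGeometry TopologicalSpace Opposite

namespace Groth.Agent.Surf.K460.ZSec

open Groth.Agent.Fdesc.LocGen Groth.Agent.Lefpen.H725.CocDef Groth.Agent.Lefpen.H521.CartierCoc
open Groth.Agent.CohtopA Groth.Agent.CohtopA.Sec Groth.Agent.MiscA.CurveH1B Groth.Agent.MiscA.CurveH1C
open K801.Cousin K801.CousinH1 K801.LEq Groth.Agent.Grpsch.PicGrp Groth.Agent.Picfga.ChiCech SurfKit

variable (k : Type u) [Field k] {X : Scheme.{u}} [X.Over (Spec (CommRingCat.of k))] [IsIntegral X]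

/-- The function field as an algebra over the base field. -/
@[reducible] noncomputable def algK (X : Scheme.{u}) [X.Over (Spec (CommRingCat.of k))] [IsIntegral X] :
    Algebra k X.functionField :=
  ((ff (⊤ : X.Opens) trivial).comp (str k (⊤ : X.Opens))).toAlgebra

attribute [local instance] algK

theorem algebraMap_eq {U : X.Opens} (hη : genericPoint X ∈ U) (a : k) :
    algebraMap k X.functionField a = ff U hη (str k U a) := by
  change ff ⊤ trivial (str k ⊤ a) = _
  rw [← ores_str k (le_top : U ≤ ⊤), ff_ores]

theorem regAt_algebraMap (x : X) (a : k) : RegAt x (algebraMap k X.functionField a) :=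
  ⟨⊤, trivial, trivial, str k ⊤ a, rfl⟩

/-- The rational functions `f` with `f / c x` regular at every `x`. -/
noncomputable def secs (c : X → X.functionField) : Submodule k X.functionField where
  carrier := {f | ∀ x, RegAt x (f / c x)}
  add_mem' := by
    intro f g hf hg x
    rw [add_div]
    exact regAt_add (hf x) (hg x)
  zero_mem' := fun x => by
    rw [zero_div]
    exact regAt_zero x
  smul_mem' := by
    intro a f hf x
    rw [Algebra.smul_def, mul_div_assoc]
    exact regAt_mul (regAt_algebraMap k x a) (hf x)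

theorem mem_secs {c : X → X.functionField} {f : X.functionField} :
    f ∈ secs k c ↔ ∀ x, RegAt x (f / c x) := Iff.rfl

section

variable {L : X.Modules} {c : X → X.functionField} (D : Dat L c)

theorem coef_smul {W : X.Opens} (a : Γ(X, W)) (s : Γ(L, W)) (x : X) :
    D.coef (a • s) x = ores inf_le_left a * D.coef s x :=
  D.coef_unique _ x (by rw [res_smul, D.coef_spec, smul_smul])

/-- Global sections as rational functions. -/
noncomputable def toSecs : SecA k L ⊤ →ₗ[k] secs k c where
  toFun s := ⟨D.value (toSecA.symm s : Γ(L, ⊤)) (⟨genericPoint X, trivial⟩ : (⊤ : X.Opens)), fun x => by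
    rw [D.value_const (toSecA.symm s : Γ(L, ⊤)) (⟨genericPoint X, trivial⟩ : (⊤ : X.Opens)) ⟨x, trivial⟩]
    exact D.value_mem (toSecA.symm s : Γ(L, ⊤)) (⟨x, trivial⟩ : (⊤ : X.Opens))⟩
  map_add' s t := by
    ext1
    change D.value ((toSecA.symm s : Γ(L, ⊤)) + (toSecA.symm t : Γ(L, ⊤))) _ = D.value _ _ + D.value _ _
    rw [Dat.value, Dat.coef_add, map_add, add_mul]
    rfl
  map_smul' a s := by
    ext1
    change D.value (str k (⊤ : X.Opens) a • (toSecA.symm s : Γ(L, ⊤))) (⟨genericPoint X, trivial⟩ : (⊤ : X.Opens)) =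
      a • D.value (toSecA.symm s : Γ(L, ⊤)) (⟨genericPoint X, trivial⟩ : (⊤ : X.Opens))
    rw [Dat.value, coef_smul, map_mul, Algebra.smul_def, mul_assoc]
    congr 1
    exact ff_ores _ _ _

theorem toSecs_bijective : Function.Bijective (toSecs k D) := by
  constructor
  · rw [injective_iff_map_eq_zero]
    intro s hs
    have h1 : D.value (toSecA.symm s : Γ(L, ⊤)) (⟨genericPoint X, trivial⟩ : (⊤ : X.Opens)) = 0 :=
      congrArg Subtype.val hs
    let s' : Groth.Agent.CohtopA.Sec.Γs (Coh.toAb L) ⊤ := (toSecA.symm s : Γ(L, ⊤))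
    change s' = 0
    refine D.toK_injective ⊤ ?_
    rw [map_zero]
    apply (KS X).sec_ext
    intro x
    rw [D.val_toK]
    exact (D.value_const _ _ _).trans h1
  · rintro ⟨f, hf⟩
    obtain ⟨s, hs⟩ := D.exists_section (W := ⊤) f (fun x _ => hf x)
    exact ⟨toSecA s, Subtype.ext (hs _)⟩

end

/-- The dimension of the space of sections. -/
theorem finrank_secs {L : X.Modules} {c : X → X.functionField} (h : HasCoc L c) :
    Module.finrank k (secs k c) = Module.finrank k (Coh.HH X L 0) := by
  obtain ⟨D⟩ := nonempty_dat h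
  rw [← (LinearEquiv.ofBijective _ (toSecs_bijective k D)).finrank_eq, (h0Top k L).finrank_eq]

theorem finite_secs {L : X.Modules} {c : X → X.functionField} (h : HasCoc L c)
    [Module.Finite k (Coh.HH X L 0)] : Module.Finite k (secs k c) := by
  obtain ⟨D⟩ := nonempty_dat h
  exact Module.Finite.equiv ((h0Top k L).trans (LinearEquiv.ofBijective _ (toSecs_bijective k D)))

omit [X.Over (Spec (CommRingCat.of k))] in
/-- Cocycles of the powers of an invertible module. -/
theorem coc_zpow {D : X.Modules} (hD : PicF.IsInvertible D) {δ : X → X.functionField} (h : HasCoc D δ) (n : ℤ) :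
    ∃ (L : X.Modules) (hL : PicF.IsInvertible L), HasCoc L (fun x => δ x ^ n) ∧ mk L hL = mk D hD ^ n := by
  obtain ⟨W, hW, e⟩ := exists_inverse hD
  have e' : ClSub.IsInverseOf W D := K457.Form.inverse_symm e
  obtain ⟨m, rfl | rfl⟩ := n.eq_nat_or_neg
  · refine ⟨CohB1.tensorPow D m, Fdesc.LocGen.isInvertible_tensorPow hD m, by simpa only [zpow_natCast] using hasCoc_pow h m, ?_⟩
    rw [zpow_natCast]
    exact mk_tensorPow hD m
  · have h1 := hasCoc_pow (hasCoc_inv e' h) m
    refine ⟨CohB1.tensorPow W m, Fdesc.LocGen.isInvertible_tensorPow hW m, ?_, ?_⟩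
    · simpa only [zpow_neg, zpow_natCast, inv_pow] using h1
    · rw [mk_tensorPow hW m, zpow_neg, zpow_natCast, K457.Form.mk_eq_inv hD hW e, inv_pow]

end Groth.Agent.Surf.K460.ZSec
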